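import Mathlib
import Cfsg.Agent.FV.Defs3
import Cfsg.Agent.FV.Form
import Cfsg.Agent.Chev.E8L2B
import Cfsg.Agent.Chev.EntSupp

/-!
# `SL₂(81)` acting on the adjoint module of `E₈(3)`
-/

set_option autoImplicit false

namespace Cfsg.Agent.L81

open Cfsg.Lie Cfsg.Lie.ChevalleyDatum Cfsg.Agent.Chev Cfsg.Agent.Chev.S2M Cfsg.Agent.Chev.Chk Matrix
  MatrixGroups Polynomial
open Kac (K3 pw js)
open FV (G0)

/-- The adjoint module. -/
abbrev VV : Type := chevE8.Idx → K3

/-- Its general linear group. -/
abbrev GG : Type := GL chevE8.Idx K3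

/-- The roots. -/
abbrev Rt : Type := chevE8.Rt

/-- The root lattice. -/
abbrev Lat : Type := chevE8.Lat

/-- The Frobenius map. -/
noncomputable abbrev fr : GG →* GG := FV.fr chevE8

/-- The embedding of the finite group. -/
noncomputable abbrev emb : G0 →* GG := FV.emb chevE8

/-- The weight of a root. -/
abbrev wt (r : Rt) : Lat := chevE8.wt r

/-- The weight of a simple root. -/
noncomputable abbrev ws (i : chevE8.Nd) : Lat := wt (chevE8.sr i)

/-- The action of a general linear group on vectors. -/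
noncomputable def linG (n : Type) [Fintype n] [DecidableEq n] : Representation K3 (GL n K3) (n → K3) :=
  toLinAlgEquiv'.toMonoidHom.comp (Units.coeHom _)

theorem linG_apply {n : Type} [Fintype n] [DecidableEq n] (g : GL n K3) (v : n → K3) :
    linG n g v = g.val *ᵥ v := rfl

theorem charpoly_linG {n : Type} [Fintype n] [DecidableEq n] (g : GL n K3) :
    (linG n g).charpoly = g.val.charpoly := charpoly_toLin' _

/-- The action on the adjoint module. -/
noncomputable def lin : Representation K3 GG VV := linG chevE8.Idx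

theorem lin_apply (g : GG) (v : VV) : lin g v = g.val *ᵥ v := linG_apply g v

theorem charpoly_lin (g : GG) : (lin g).charpoly = g.val.charpoly := charpoly_linG g

/-- The eigenvalues of an element of `E₈(3)`. -/
noncomputable def ev (x : G0) : Multiset K3 := (emb x).val.charpoly.roots

theorem fr_emb (a : G0) : fr (emb a) = emb a := (FV.fr_eq_iff (FV.emb_mem a)).2 ⟨a, rfl⟩

theorem ev_frob (x : G0) : (ev x).map (· ^ 3) = ev x := by
  have h2 := (IsAlgClosed.splits (emb x).val.charpoly).roots_map (frobenius K3 3)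
  rw [← Matrix.charpoly_map, ← FV.coe_fr, fr_emb] at h2
  exact h2.symm

theorem card_ev (x : G0) : (ev x).card = 248 := by
  rw [ev, ← (IsAlgClosed.splits _).natDegree_eq_card_roots, charpoly_natDegree_eq_dim]
  rfl

/-- The restriction of the adjoint module. -/
noncomputable def rep {Γ : Type*} [Group Γ] (φ : Γ →* G0) : Representation K3 Γ VV :=
  (lin.comp emb).comp φ

theorem rep_apply {Γ : Type*} [Group Γ] (φ : Γ →* G0) (s : Γ) (v : VV) :
    rep φ s v = (emb (φ s)).val *ᵥ v := lin_apply _ v

theorem charpoly_rep {Γ : Type*} [Group Γ] (φ : Γ →* G0) (s : Γ) :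
    (rep φ s).charpoly.roots = ev (φ s) := congrArg roots (charpoly_lin _)

theorem cofix {Γ : Type*} [Group Γ] {φ : Γ →* G0} {ψ : Module.Dual K3 VV} (h0 : ψ ≠ 0)
    (h : ∀ s v, ψ (rep φ s v) = ψ v) : (rep φ).invariants ≠ ⊥ := by
  obtain ⟨B, hB, hg⟩ := FV.form K3
  obtain ⟨c, hc⟩ : ∃ c : VV, ∀ w : VV, ψ w = c ⬝ᵥ w := by
    refine ⟨fun a => ψ (Pi.single a 1), fun w => ?_⟩
    rw [LinearMap.pi_apply_eq_sum_univ]
    refine Finset.sum_congr rfl fun a _ => ?_
    rw [smul_eq_mul, mul_comm]
    congr 2
    funext j; simp [Pi.single_apply, eq_comm]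
  obtain ⟨u, hu⟩ := mulVec_surjective_iff_isUnit.2 hB c
  refine (Submodule.ne_bot_iff _).2 ⟨u, fun s => ?_, fun e => h0 (LinearMap.ext fun w => ?_)⟩
  · have h1 := hg _ (FV.emb_mem (φ s))
    have h2 : ∀ w, c ⬝ᵥ (emb (φ s)).val *ᵥ w = c ⬝ᵥ w := fun w => by rw [← rep_apply, ← hc, ← hc, h]
    rw [rep_apply]
    generalize (emb (φ s)).val = A at h1 h2
    have h3 : Aᵀ *ᵥ c = c := by
      funext a
      have := h2 (Pi.single a 1)
      rwa [dotProduct_mulVec, ← mulVec_transpose, dotProduct_single_one, dotProduct_single_one] at this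
    have h4 : IsUnit (Aᵀ * B) := isUnit_of_mul_isUnit_left (h1.symm ▸ hB)
    exact mulVec_injective_iff_isUnit.2 h4 (by
      change (Aᵀ * B) *ᵥ (A *ᵥ u) = (Aᵀ * B) *ᵥ u
      rw [mulVec_mulVec, h1, ← mulVec_mulVec, hu, h3])
  · rw [hc, ← hu, e]; simp

/-! ### Tables -/

/-- A histogram modulo `n`. -/
def hist (n : ℕ) (A : Multiset ℕ) : ℕ := (A.map fun w => 257 ^ (w % n)).sum

/-- The weights of the adjoint module in terms of the simple roots, modulo `40 * 41`. -/
def tl4 : List (List ℕ) := Alc.tlE8.map fun c => c.map fun v => if v ≤ 6 then v else v + 1623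

/-- The marks. -/
def ms8 : List ℕ := [2, 3, 4, 6, 5, 4, 3, 2]

/-- The histogram of a torus element with coordinates `s`. -/
noncomputable def hT (n : ℕ) (s : List ℕ) : ℕ := sumT pw tl4 s n 1

/-- The histograms of the elements of order 8. -/
def L8 : List ℕ := [2073752232075895032, 2073752301875421432, 2081243562224558328, 2081243701823611128, 2081243736723374328,
    2082972513944160504, 2082972522669101304, 2082972531394042104, 2083548717759797496, 2083548787559323896,
    2373707002513903864, 2373707072313430264, 2373707107213193464, 2377740952719810808, 2378317182710270200,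
    2378317208885092600, 2378317217610033400]

/-- The histograms of the elements of order 10. -/
def L10 : List ℕ := [98297367680536863450360, 108117588717963229416696, 112913510637770263771384, 117785558284201904448760,
    127624810757769041567992, 137368906050632322922744, 156761939455655029867768]

/-- Histograms modulo 20 that do not occur. -/
def B20 : List ℕ := [61767359479773905776953601376081057905669473528, 61815202615938033470024057178138737769416928504,
    68011075629396817963178685543286219299653856504, 73919886939668310784694616550784839743996195064,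
    80163603451475817236683613008697138213995766008, 80211446587639944929738984951224110240461558008,
    80259289723804072622794356893751082266927350008, 80259289723804072622799384846927984879354571000,
    86311631880032096973812695472496443824968907000, 86359475016196224666863039461846513239007478008,
    86359475016196224666868067415023415851434699000, 86407318152360352359918411404373485265473270008,
    86407318152360352359923439357550387877900491000, 98368471245401046654024718765693535658782499064,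
    98464157517729302040135462650747479711714083064, 98512000653893429733190834593274451738179875064]

/-- Histograms modulo 40 with the points of the alcove that have them. -/
def T40 : List (ℕ × List (List ℕ)) := [(87728439127877420034529227972742589074078760578733149184486474096679540528203356543055802720504,
    [[3, 0, 0, 0, 0, 1, 1, 7]]),
  (77749849451741544037959026723025566391665997083181205405838757900307662081098535904694773539064,
    [[7, 0, 0, 0, 0, 1, 2, 6]]),
  (78014432729226611537033175129232317760262903534996357758310610027422656243961483835599335776504,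
    []),
  (68300426330575803039537122285722046446447046491259566332134745958165771959719611128142868832504,
    []),
  (58586419931924994542041069442211775132631189447522774905958881888908887675477738420686401888504,
    []),
  (48872413533274186044545016598701503818815332403785983479783017819652003391235865713229934944504,
    []),
  (58359637223822819214275811499513850344707322330791246441488620965666326614868671358727188259064,
    [[3, 0, 0, 3, 1, 0, 1, 0]]),
  (77938837344221761756111329944479749280646385266142105136392281116805312346057374651449465291000,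
    []),
  (68224830945570953258615277100969477966830528222405313710216417047548428061815501943992998347000,
    [[3, 1, 1, 1, 1, 1, 1, 1]]),
  (58510824546920144761119224257459206653014671178668522284040552978291543777573629236536531403000,
    [[1, 2, 2, 1, 1, 1, 1, 1]]),
  (77901040221751379368717709050781183049062637334157086144706585717522716355440771423291400438008,
    []),
  (68187033823100570871221656207270911735246780290420294718530721648265832071198898715834933494008,
    [[1, 1, 1, 1, 1, 3, 1, 2]]),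
  (97329054163570490942350658614758421675189403441978534266241177757421828193430088039473265910008,
    [[5, 0, 0, 1, 0, 2, 0, 1]])]

/-- A histogram modulo 41 that does not occur. -/
def H41 : ℕ :=
  22526780841918233226867893926850626893666273282446832725526959882636850999987410097624642147489016

/-- The coordinates of the regular elements of order 40. -/
def SR : List (List ℕ) := [[3, 1, 1, 1, 1, 1, 1, 1], [1, 2, 2, 1, 1, 1, 1, 1], [1, 1, 1, 1, 1, 3, 1, 2]]

/-- Coordinates, first case. -/
def s1 : List ℕ := [3, 0, 0, 0, 0, 1, 1, 7]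

/-- Coordinates, second case. -/
def s2 : List ℕ := [7, 0, 0, 0, 0, 1, 2, 6]

/-- Coordinates, third case. -/
def s3 : List ℕ := [3, 0, 0, 3, 1, 0, 1, 0]

/-- Coordinates, last case. -/
def s7 : List ℕ := [5, 0, 0, 1, 0, 2, 0, 1]

/-- A list from multiplicities. -/
def mk (L : List (ℕ × ℕ)) : List ℕ := L.flatMap fun p => List.replicate p.2 p.1

/-- Composition factors, first case. -/
def L1 : List ℕ := mk [(0, 28), (2, 1), (4, 8), (6, 1), (10, 8), (12, 8), (18, 1), (28, 8), (30, 8), (36, 8), (40, 1), (54, 1)]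

/-- Composition factors, second case. -/
def L2 : List ℕ := mk [(0, 6), (2, 5), (6, 5), (8, 1), (18, 5), (20, 1), (24, 1), (40, 8), (54, 5), (56, 1), (60, 1), (72, 1)]

/-- Composition factors, third case. -/
def L3 : List ℕ := mk [(0, 2), (2, 3), (6, 3), (10, 4), (16, 2), (18, 3), (20, 1), (30, 4), (32, 2), (40, 4), (48, 2), (54, 3), (60, 1), (64, 2)]

/-- Composition factors, last case. -/
def L7 : List ℕ := mk [(0, 4), (2, 1), (4, 1), (6, 1), (12, 1), (18, 1), (26, 2), (28, 1), (36, 1), (54, 1), (62, 2), (74, 2), (78, 2)]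

/-- Composition factors excluded by the elements of order 41. -/
def L9 : List ℕ := mk [(2, 2), (4, 1), (6, 2), (8, 1), (10, 2), (12, 1), (18, 2), (22, 1), (24, 1), (26, 1), (28, 1), (30, 2), (34, 1), (36, 1), (38, 1), (54, 2), (56, 1), (62, 1), (66, 1), (72, 1), (74, 1), (78, 1)]

/-- The decompositions compatible with the elements of orders 8, 10 and 20. -/
def C14 : List (List ℕ) := [L1,
  L2,
  mk [(0, 28), (2, 1), (4, 6), (6, 1), (10, 6), (12, 6), (14, 1), (18, 1), (28, 6), (30, 6), (36, 6), (40, 1), (42, 1), (46, 1), (54, 1), (58, 1)],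
  mk [(0, 28), (2, 1), (4, 4), (6, 1), (10, 4), (12, 4), (14, 2), (18, 1), (28, 4), (30, 4), (36, 4), (40, 1), (42, 2), (46, 2), (54, 1), (58, 2)],
  mk [(0, 28), (2, 1), (4, 2), (6, 1), (10, 2), (12, 2), (14, 3), (18, 1), (28, 2), (30, 2), (36, 2), (40, 1), (42, 3), (46, 3), (54, 1), (58, 3)],
  mk [(0, 28), (2, 1), (6, 1), (14, 4), (18, 1), (40, 1), (42, 4), (46, 4), (54, 1), (58, 4)],
  L3,
  mk [(2, 2), (4, 4), (6, 2), (10, 4), (12, 4), (16, 1), (18, 2), (22, 1), (28, 4), (30, 4), (32, 1), (34, 1), (36, 4), (38, 1), (40, 2), (48, 1), (54, 2), (64, 1), (66, 1)],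
  mk [(2, 2), (4, 2), (6, 2), (10, 2), (12, 2), (14, 1), (16, 1), (18, 2), (22, 1), (28, 2), (30, 2), (32, 1), (34, 1), (36, 2), (38, 1), (40, 2), (42, 1), (46, 1), (48, 1), (54, 2), (58, 1), (64, 1), (66, 1)],
  mk [(2, 2), (6, 2), (14, 2), (16, 1), (18, 2), (22, 1), (32, 1), (34, 1), (38, 1), (40, 2), (42, 2), (46, 2), (48, 1), (54, 2), (58, 2), (64, 1), (66, 1)],
  mk [(2, 1), (4, 3), (6, 1), (10, 2), (12, 3), (18, 1), (26, 1), (28, 3), (30, 2), (36, 3), (40, 4), (54, 1), (62, 1), (74, 1), (78, 1)],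
  mk [(2, 1), (4, 1), (6, 1), (12, 1), (14, 1), (18, 1), (26, 1), (28, 1), (36, 1), (40, 4), (42, 1), (46, 1), (54, 1), (58, 1), (62, 1), (74, 1), (78, 1)],
  L9,
  L7]

/-! ### Modules -/

section Modules

variable {F : Type*} [Field F] (ι : F →+* K3) {M : Type} [AddCommGroup M] [Module K3 M]

/-- `Λ` is the multiset of the highest weights of the composition factors of `σ`. -/
def Ch [FiniteDimensional K3 M] (σ : Representation K3 SL(2, F) M) (Λ : Multiset ℕ) : Prop :=
  (∀ l ∈ Λ, l < 81) ∧ ∀ g η, Eig ι g η →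
    (σ g).charpoly = (Λ.map fun l => ∏ j ∈ JJ K3 l, (Polynomial.X - C (η⁻¹ ^ j * η ^ (l - j)))).prod

/-- `σ` is the simple module with highest weight `l`. -/
def Model (σ : Representation K3 SL(2, F) M) (l : ℕ) : Prop :=
  l < 81 ∧ ∃ Φ : M →ₗ[K3] (SL(2, F) → K3), Function.Injective Φ ∧
    (∀ g w h, Φ (σ g w) h = Φ w (h * g)) ∧ LinearMap.range Φ = LL ι l

/-- The space of cocycles. -/
def Z1 {Γ : Type*} [Group Γ] (σ : Representation K3 Γ M) : Submodule K3 (Γ → M) where
  carrier := {f | ∀ a b, f (a * b) = f a + σ a (f b)}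
  add_mem' := fun {f g} hf hg a b => by
    simp only [Pi.add_apply, hf a b, hg a b, map_add]; abel
  zero_mem' := fun _ _ => by simp
  smul_mem' := fun c f hf a b => by simp only [Pi.smul_apply, hf a b, smul_add, map_smul]

/-- The vectors fixed by two elements. -/
noncomputable def Fx {Γ : Type*} [Group Γ] (σ : Representation K3 Γ M) (a b : Γ) : Submodule K3 M :=
  LinearMap.ker (σ a - 1) ⊓ LinearMap.ker (σ b - 1)

end Modules

/-- The weights (shifted by `3280`) of the simple module with highest weight `l`. -/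
def wts (l : ℕ) : List ℕ := (js 4 l).map fun j => 3280 + l - 2 * j

/-- The weights of a module. -/
def WW (Λ : Multiset ℕ) : Multiset ℕ := Λ.bind fun l => (wts l : Multiset ℕ)

/-- The halved weights (shifted by `1640`) for even `l`. -/
def hw (l : ℕ) : List ℕ := (js 4 l).map fun j => 1640 + l / 2 - j

/-- The halved weights of a module. -/
def HW (Λ : Multiset ℕ) : Multiset ℕ := Λ.bind fun l => (hw l : Multiset ℕ)

/-- The Frobenius twist. -/
def rot (l : ℕ) : ℕ := 3 * (l % 27) + l / 27

/-- The highest weights with nonzero first cohomology. -/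
def P4 : List ℕ := [4, 12, 28, 36]

/-- The number of composition factors with nonzero first cohomology. -/
def dd (Λ : Multiset ℕ) : ℕ := (P4.map fun l => Λ.count l).sum

/-- The dimension of the space fixed by the normaliser of the split torus. -/
def nf (l : ℕ) : ℕ := if l % 4 = 0 ∧ l / 2 ∈ js 4 l then 1 else 0

/-- `H` normalises the image of `φ` and acts faithfully on it. -/
structure Ctx {F : Type*} [Field F] (H : Subgroup G0) (φ : SL(2, F) →* G0) : Prop where
  ker : ∀ s, φ s = 1 ↔ s ∈ Subgroup.center SL(2, F)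
  le : ∀ s, φ s ∈ H
  nrm : ∀ h ∈ H, ∀ s, ∃ s', h * φ s * h⁻¹ = φ s'
  cen : ∀ h ∈ H, (∀ s, h * φ s = φ s * h) → h = 1

/-! ### Torus elements -/

/-- The diagonal matrix of a torus element. -/
noncomputable def dg (ξ : K3ˣ) (f : Lat →+ ℤ) : Matrix chevE8.Idx chevE8.Idx K3 :=
  diagonal fun a => ((ξ ^ f (chevE8.wtI a) : K3ˣ) : K3)

/-- `f` takes the values `s` modulo `m` on the simple roots. -/
def Val (m : ℕ) (f : Lat →+ ℤ) (s : List ℕ) : Prop := ∀ i : chevE8.Nd, (m : ℤ) ∣ f (ws i) - (s.getD i 0 : ℕ)

/-- `g` diagonalises `x` and twists the Frobenius map by a monomial element. -/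
structure Frame (x : G0) (ξ : K3ˣ) (m : ℕ) (g : GG) (f : Lat →+ ℤ) (s : List ℕ) : Prop where
  prim : IsPrimitiveRoot ξ m
  mem : g ∈ chevE8.group K3
  mono : fr g * g⁻¹ ∈ chevE8.monomialSubgroup K3
  eq : (g * emb x * g⁻¹).val = dg ξ f
  len : s.length = 8
  alc : dotL ms8 s ≤ m
  val : Val m f s

/-- The four orthogonal simple roots of the last case. -/
def B7 : List Rt := [⟨141, by decide⟩, ⟨135, by decide⟩, ⟨126, by decide⟩, ⟨121, by decide⟩]

/-- The root system `A₁⁴` of the last case. -/
def Φ7 : Set Rt := {r | r ∈ B7 ∨ chevE8.ng r ∈ B7}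

/-! ### Supports -/

/-- The monoid generated by the supports of a set of matrices. -/
def MM (A : Set GG) : AddSubmonoid Lat := AddSubmonoid.closure (⋃ a ∈ A, EntSupp.Supp chevE8 K3 a)

/-- The indecomposable roots of a monoid. -/
def Ind (M : AddSubmonoid Lat) : Set Rt := {r | wt r ∈ M ∧ ∀ x ∈ M, ∀ y ∈ M, x + y = wt r → x = 0 ∨ y = 0}

/-- The monoid generated by a set of roots. -/
def cl (I : Set Rt) : AddSubmonoid Lat := AddSubmonoid.closure (wt '' I)

/-- The entries of `a` of weight `r` are those of a root element. -/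
def Lead (a : GG) (r : Rt) (c : K3) : Prop :=
  ∀ i j, chevE8.wtI i - chevE8.wtI j = wt r → a.val i j = (chevE8.X K3 r c).val i j

/-- Unitriangular with respect to `M`. -/
def Uni (M : AddSubmonoid Lat) (a : GG) : Prop := a ∈ EntSupp.Ent chevE8 K3 M ∧
  ∀ i j, chevE8.wtI i = chevE8.wtI j → a.val i j = (1 : Matrix chevE8.Idx chevE8.Idx K3) i j

/-- The structure constants. -/
def NN (r s u : Rt) : ℤ := ((chevE8.chainEntry r s).map fun q => if (u : ℕ) = q.1 then q.2 else 0).sum

/-- `L` lists all decompositions of `γ` in the monoid generated by `I`. -/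
def Dec (I : Set Rt) (γ : Rt) (L : List (Rt × Rt)) : Prop :=
  (∀ p ∈ L, p.1 ∈ I ∧ p.2 ∈ I ∧ wt γ = wt p.1 + wt p.2 ∧ NN p.2 p.1 γ = -NN p.1 p.2 γ) ∧
    (γ :: (L.map Prod.fst ++ L.map Prod.snd)).Nodup ∧
    ∀ δ : Rt, wt δ ∈ cl I → wt γ - wt δ ∈ cl I → δ ∈ γ :: (L.map Prod.fst ++ L.map Prod.snd)

/-- A rational torus element centralises the roots of `I`. -/
def CC (w : Equiv.Perm Rt) (I : Set Rt) : Prop := ∃ (k : ℕ) (h : Lat →+ ℤ), k ∣ 80 ∧
  (∀ r ∈ I, (k : ℤ) ∣ h (wt r)) ∧ (∀ i, (k : ℤ) ∣ 3 * h (wt (w (chevE8.sr i))) - h (ws i)) ∧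
    ∃ r : Rt, ¬ (k : ℤ) ∣ h (wt r)

/-- A root with a unique decomposition. -/
def U1 (f : Lat →+ ℤ) (I : Set Rt) : Prop := ∃ α β γ : Rt, Dec I γ [(α, β)] ∧ ¬ (3 : ℤ) ∣ NN α β γ ∧
  ¬ (40 : ℤ) ∣ f (wt α) - f (wt β)

/-- A maximal root that cannot be reflected. -/
def BB (I : Set Rt) : Prop := ∃ γ α μ : Rt, α ∈ I ∧ wt μ = wt α - wt γ ∧ chevE8.ng γ ≠ α ∧ γ ≠ α ∧
  μ ≠ chevE8.ng γ ∧ ¬ (3 : ℤ) ∣ NN α (chevE8.ng γ) μ ∧
  (∀ a, chevE8.wtI a - wt γ ∈ cl I → a = Sum.inr γ) ∧ wt γ - wt μ ∉ cl I

/-- Three roots with two decompositions each and incompatible signs. -/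
def SS (f : Lat →+ ℤ) (I : Set Rt) : Prop := ∃ a a' d d' e e' γ₁ γ₂ γ₃ : Rt,
  Dec I γ₁ [(a, a'), (e, e')] ∧ Dec I γ₂ [(a, d'), (d, e')] ∧ Dec I γ₃ [(d, a'), (e, d')] ∧
  (∀ r ∈ [a, d, e], (40 : ℤ) ∣ f (wt r) - 1) ∧ (∀ r ∈ [a', d', e'], (40 : ℤ) ∣ f (wt r) - 9) ∧
  ¬ (3 : ℤ) ∣ NN a a' γ₁ * NN d e' γ₂ * NN e d' γ₃ + NN e e' γ₁ * NN a d' γ₂ * NN d a' γ₃

/-- The unipotent elements. -/
def UU {F : Type*} [Field F] (ψ : SL(2, F) →* GG) : Set GG := Set.range fun b : F => ψ (bb 1 b)

/-- The situation of the regular case. -/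
structure Reg {F : Type*} [Field F] (ι : F →+* K3) (ψ : SL(2, F) →* GG) (a₀ : Fˣ) (ξ : K3ˣ) (f : Lat →+ ℤ)
    (m : GG) : Prop where
  ord : orderOf a₀ = 80
  xi : (ξ : K3) = ι ((a₀⁻¹ ^ 2 : Fˣ) : F)
  mem : ∀ s, ψ s ∈ chevE8.group K3
  tor : (ψ (bb a₀ 0)).val = dg ξ f
  mono : m ∈ chevE8.monomialSubgroup K3
  frob : ∀ s, fr (ψ s) = m * ψ s * m⁻¹
  pos : ∃ n ∈ chevE8.monomialSubgroup K3, ∀ a ∈ UU ψ, n⁻¹ * a * n ∈ chevE8.posUnipotent K3

end Cfsg.Agent.L81
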