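import Mathlib
import Cfsg.Agent.L81.Defs

set_option autoImplicit false

namespace Cfsg.Agent.L81

open Cfsg.Lie Cfsg.Lie.ChevalleyDatum Cfsg.Agent.Chev Cfsg.Agent.Chev.S2M Cfsg.Agent.Chev.Chk Matrix
  MatrixGroups Polynomial Module
open Kac (K3 pw js)
open FV (G0)

variable {F : Type*} [Field F] [Fintype F]


theorem JJ_eq {l : ℕ} (h : l < 81) : (JJ K3 l).val = js 4 l := Kac.JJ_eq h

namespace Wt

theorem tab2 : ∀ l < 81, 3280 + l ∈ wts l ∧ (∀ w ∈ wts l, w ≤ 3280 + l ∧ 3280 ≤ w + l) ∧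
    ((wts l).map (6560 - ·)).Perm (wts l) := by decide +kernel

theorem bind_inj {A B : Multiset ℕ} (hA : ∀ l ∈ A, l < 81) (hB : ∀ l ∈ B, l < 81) (h : WW A = WW B) : A = B := by
  induction hn : (A + B).card using Nat.strong_induction_on generalizing A B with
  | _ n ih =>
    by_cases h0 : A + B = 0
    · rw [(add_eq_zero.1 h0).1, (add_eq_zero.1 h0).2]
    obtain ⟨l, h1, h2⟩ := (A + B).exists_max_image id h0
    have h3 : ∀ {A B : Multiset ℕ}, (∀ l ∈ A, l < 81) → (∀ l ∈ B, l < 81) →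
        WW A = WW B → (∀ k ∈ B, k ≤ l) → l ∈ A → l ∈ B := fun {A B} hA hB h h2 h1 => by
      have h5 : 3280 + l ∈ WW A := Multiset.mem_bind.2 ⟨l, h1, (tab2 l (hA l h1)).1⟩
      obtain ⟨k, h3, h4⟩ := Multiset.mem_bind.1 (h ▸ h5 : 3280 + l ∈ WW B)
      have := ((tab2 k (hB k h3)).2.1 _ h4).1
      have := h2 k h3
      rwa [show l = k by omega]
    have h4 : l ∈ A ∧ l ∈ B := (Multiset.mem_add.1 h1).elim
      (fun e => ⟨e, h3 hA hB h (fun k hk => h2 k (by simp [hk])) e⟩)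
      fun e => ⟨h3 hB hA h.symm (fun k hk => h2 k (by simp [hk])) e, e⟩
    obtain ⟨A, rfl⟩ := Multiset.exists_cons_of_mem h4.1
    obtain ⟨B, rfl⟩ := Multiset.exists_cons_of_mem h4.2
    rw [WW, WW, Multiset.cons_bind, Multiset.cons_bind, add_right_inj] at h
    rw [ih (A + B).card (by simp at hn ⊢; omega) (fun k hk => hA k (by simp [hk])) (fun k hk => hB k (by simp [hk]))
      h rfl]

theorem WW_bd {A : Multiset ℕ} (hA : ∀ l ∈ A, l < 81) :
    (∀ w ∈ WW A, w ≤ 3360 ∧ 3200 ≤ w) ∧ (WW A).map (6560 - ·) = WW A := by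
  refine ⟨fun w hw => ?_, ?_⟩
  · obtain ⟨l, h1, h2⟩ := Multiset.mem_bind.1 hw
    have := (tab2 l (hA l h1)).2.1 w h2
    have := hA l h1
    omega
  · rw [WW, Multiset.map_bind]
    exact Multiset.bind_congr fun l hl => by
      rw [Multiset.map_coe]; exact Multiset.coe_eq_coe.2 (tab2 l (hA l hl)).2.2

theorem key {A : Multiset ℕ} (hA : ∀ w ∈ A, w ≤ 3360 ∧ 3200 ≤ w) (sA : A.map (6560 - ·) = A) :
    (∀ k ≤ 80, A.count (3280 - k) = A.count (3280 + k)) ∧ (A.map (· % 82)).count 0 = A.count (3280 + 0) ∧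
      (A.map (· % 82)).count 1 = A.count (3280 + 1) ∧
      (A.map (· % 80)).count 0 = A.count (3280 + 0) + 2 * A.count (3280 + (80 - 0)) ∧
      (∀ k < 80, k ≠ 0 → (A.map (· % 80)).count k = A.count (3280 + k) + A.count (3280 + (80 - k))) ∧
      ∀ k < 81, 2 ≤ k → (A.map (· % 82)).count k = A.count (3280 + k) + A.count (3280 + (82 - k)) := by
  have h3 : ∀ k ≤ 80, A.count (3280 - k) = A.count (3280 + k) := fun k hk => by
    conv_lhs => rw [← sA]
    rw [Kac.count_map_eq {3280 + k} (by simp; omega) fun w hw e => by have := hA w hw; simp; omega]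
    simp
  refine ⟨h3, ?_, ?_, ?_, fun k hk hk' => ?_, fun k hk hk' => ?_⟩
  · rw [Kac.count_map_eq {3280 + 0} ?_ fun w hw e => ?_, Finset.sum_singleton]
    all_goals
      try have := hA w hw
      simp only [Finset.mem_singleton, forall_eq]
      try omega
  · rw [Kac.count_map_eq {3280 + 1} ?_ fun w hw e => ?_, Finset.sum_singleton]
    all_goals
      try have := hA w hw
      simp only [Finset.mem_singleton, forall_eq]
      try omega
  · rw [Kac.count_map_eq {3280 + 0, 3280 + 80, 3280 - 80} ?_ fun w hw e => ?_,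
      Finset.sum_insert (by decide), Finset.sum_pair (by decide), h3 _ le_rfl, two_mul]
    · decide
    · have := hA w hw
      simp only [Finset.mem_insert, Finset.mem_singleton]
      omega
  · rw [Kac.count_map_eq {3280 + k, 3280 - (80 - k)} ?_ fun w hw e => ?_, Finset.sum_pair (by omega),
      h3 _ (by omega)]
    all_goals
      try have := hA w hw
      simp only [Finset.mem_insert, Finset.mem_singleton, forall_eq_or_imp, forall_eq]
      omega
  · rw [Kac.count_map_eq {3280 + k, 3280 - (82 - k)} ?_ fun w hw e => ?_, Finset.sum_pair (by omega),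
      h3 _ (by omega)]
    all_goals
      try have := hA w hw
      simp only [Finset.mem_insert, Finset.mem_singleton, forall_eq_or_imp, forall_eq]
      omega

theorem eq_of_mod {A B : Multiset ℕ} (hA : ∀ w ∈ A, w ≤ 3360 ∧ 3200 ≤ w) (hB : ∀ w ∈ B, w ≤ 3360 ∧ 3200 ≤ w)
    (sA : A.map (6560 - ·) = A) (sB : B.map (6560 - ·) = B) (h1 : A.map (· % 80) = B.map (· % 80))
    (h2 : A.map (· % 82) = B.map (· % 82)) : A = B := by
  obtain ⟨a1, a2, a3, a0, a4, a5⟩ := key hA sA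
  obtain ⟨b1, b2, b3, b0, b4, b5⟩ := key hB sB
  rw [h1] at a0 a4
  rw [h2] at a2 a3 a5
  have h3 : ∀ k, k ≤ 80 → A.count (3280 + k) = B.count (3280 + k) := fun k => by
    induction k using Nat.twoStepInduction with
    | zero => exact fun _ => a2.symm.trans b2
    | one => exact fun _ => a3.symm.trans b3
    | more k ih _ =>
      intro hk
      have h4 := ih (by omega)
      have c1 := a5 (80 - k) (by omega) (by omega)
      have c2 := b5 (80 - k) (by omega) (by omega)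
      rw [show 82 - (80 - k) = k + 2 by omega] at c1 c2
      rcases eq_or_ne k 0 with rfl | h
      · omega
      · have := a4 k (by omega) h
        have := b4 k (by omega) h
        omega
  refine Multiset.ext.2 fun w => ?_
  by_cases hw : w ≤ 3360 ∧ 3200 ≤ w
  · rcases le_total w 3280 with h | h
    · rw [show w = 3280 - (3280 - w) by omega, a1 _ (by omega), b1 _ (by omega), h3 _ (by omega)]
    · rw [show w = 3280 + (w - 3280) by omega, h3 _ (by omega)]
  · rw [Multiset.count_eq_zero.2 fun h => hw (hA w h), Multiset.count_eq_zero.2 fun h => hw (hB w h)]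

theorem tab3 : ∀ l < 81, rot l < 81 ∧
    ∀ n ∈ [80, 82], ((wts (rot l)).map (· % n)).Perm ((wts l).map (3 * · % n)) := by decide +kernel

theorem tab4 : ∀ l < 81, l % 2 = 0 → wts l = (hw l).map (2 * ·) := by decide +kernel

end Wt

theorem WW_inj {A B : Multiset ℕ} (hA : ∀ l ∈ A, l < 81) (hB : ∀ l ∈ B, l < 81)
    (h1 : (WW A).map (· % 80) = (WW B).map (· % 80)) (h2 : (WW A).map (· % 82) = (WW B).map (· % 82)) :
    A = B :=
  Wt.bind_inj hA hB (Wt.eq_of_mod (Wt.WW_bd hA).1 (Wt.WW_bd hB).1 (Wt.WW_bd hA).2 (Wt.WW_bd hB).2 h1 h2)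

theorem rot_inv {A : Multiset ℕ} (hA : ∀ l ∈ A, l < 81)
    (h : ∀ n ∈ [80, 82], (WW A).map (3 * · % n) = (WW A).map (· % n)) : A.map rot = A := by
  have k : ∀ n ∈ [80, 82], (WW (A.map rot)).map (· % n) = (WW A).map (· % n) := fun n hn => by
    rw [← h n hn, WW, WW, Multiset.bind_map, Multiset.map_bind, Multiset.map_bind]
    exact Multiset.bind_congr fun l hl => by
      rw [Multiset.map_coe, Multiset.map_coe]; exact Multiset.coe_eq_coe.2 ((Wt.tab3 l (hA l hl)).2 n hn)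
  refine WW_inj (fun l hl => ?_) hA (k 80 (by simp)) (k 82 (by simp))
  obtain ⟨m, hm, rfl⟩ := Multiset.mem_map.1 hl
  exact (Wt.tab3 m (hA m hm)).1

theorem WW_eq {A : Multiset ℕ} (hA : ∀ l ∈ A, l < 81 ∧ l % 2 = 0) : WW A = (HW A).map (2 * ·) := by
  rw [WW, HW, Multiset.map_bind]
  exact Multiset.bind_congr fun l hl => by rw [Multiset.map_coe, Wt.tab4 l (hA l hl).1 (hA l hl).2]

theorem charThree (hF : Fintype.card F = 81) : CharP F 3 :=
  haveI : Fact (Nat.Prime 3) := ⟨Nat.prime_three⟩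
  charP_of_card_eq_prime_pow (show Fintype.card F = 3 ^ 4 from hF)

theorem exists_iota (hF : Fintype.card F = 81) : Nonempty (F →+* K3) := by
  have : Fact (Nat.Prime 3) := ⟨Nat.prime_three⟩
  have := charThree hF
  let _ := ZMod.algebra F 3
  exact ⟨(IsAlgClosed.lift : F →ₐ[ZMod 3] K3)⟩

theorem exists_gen (hF : Fintype.card F = 81) : ∃ a : Fˣ, orderOf a = 80 := by
  classical
  obtain ⟨a, ha⟩ := IsCyclic.exists_ofOrder_eq_natCard (α := Fˣ)
  exact ⟨a, by rw [ha, Nat.card_eq_fintype_card, Fintype.card_units, hF]⟩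

theorem exists_elt (ι : F →+* K3) (hF : Fintype.card F = 81) {n : ℕ} (h1 : 2 < n) (hn : n ∣ 80 ∨ n ∣ 82)
    {η : K3} (hη : IsPrimitiveRoot η n) : ∃ a : F, Eig ι (nn a) η ∧ ι a = η + η⁻¹ := by
  have : Fact (Nat.Prime 3) := ⟨Nat.prime_three⟩
  have h0 : η ≠ 0 := hη.ne_zero (by omega)
  have h3 : η ^ 2 ≠ 1 := fun e => by
    have := Nat.le_of_dvd two_pos ((hη.pow_eq_one_iff_dvd 2).1 e)
    omega
  have h2 : η ^ 3 ^ 4 = η ∨ η ^ 3 ^ 4 = η⁻¹ := by
    refine hn.imp (fun h => ?_) fun h => eq_inv_of_mul_eq_one_left ?_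
    · rw [show 3 ^ 4 = 80 + 1 by norm_num, pow_succ, (hη.pow_eq_one_iff_dvd _).2 h, one_mul]
    · rw [← pow_succ, show 3 ^ 4 + 1 = 82 by norm_num, (hη.pow_eq_one_iff_dvd _).2 h]
  obtain ⟨a, ha⟩ := (mem_range_iff_pow_card F ι (η + η⁻¹)).1 (by
    rw [show Fintype.card F = 3 ^ 4 from hF, add_pow_char_pow, inv_pow]
    rcases h2 with h | h <;> rw [h]
    rw [inv_inv, add_comm])
  refine ⟨a, ⟨h0, ![1, -η], ![1, -η⁻¹], fun e => h3 ?_, ?_, ?_⟩, ha⟩
  · rw [sq]
    nth_rewrite 1 [show η = η⁻¹ by simpa using e.symm]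
    exact inv_mul_cancel₀ h0
  all_goals
    ext i
    fin_cases i <;> simp [coe_nn, mulVec, dotProduct, ha, add_mul, h0]

theorem eig_bb (ι : F →+* K3) (a : Fˣ) : Eig ι (bb a 0) (ι ((a⁻¹ : Fˣ) : F)) := by
  refine ⟨by simp, ![1, 0], ![0, 1], by simp, ?_, ?_⟩
  all_goals
    ext i
    fin_cases i <;> simp [coe_bb, mulVec, dotProduct]

theorem exists_root {n : ℕ} (hn : ¬ 3 ∣ n) : ∃ ξ : K3, IsPrimitiveRoot ξ n := by
  have : NeZero (n : K3) := ⟨fun h => hn ((CharP.cast_eq_zero_iff K3 3 n).1 h)⟩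
  exact HasEnoughRootsOfUnity.exists_primitiveRoot K3 n

end Cfsg.Agent.L81
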