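import Mathlib
import Cfsg.Agent.L81.Defs
import Cfsg.Agent.L81.Wt

/-! Additive maps from the field with `81` elements that are eigenvectors of a multiplication. -/

set_option autoImplicit false

namespace Cfsg.Agent.L81

open Cfsg.Lie Cfsg.Lie.ChevalleyDatum Cfsg.Agent.Chev Cfsg.Agent.Chev.S2M Cfsg.Agent.Chev.Chk Matrix
  MatrixGroups Polynomial Module
open Kac (K3 pw js)
open FV (G0)

variable {F : Type*} [Field F] [Fintype F]

namespace AddH

theorem bot_or_top (hF : Fintype.card F = 81) {ν : F} (hν : orderOf ν = 40 ∨ orderOf ν = 5)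
    (S : AddSubgroup F) (hS : ∀ a ∈ S, ν * a ∈ S) : S = ⊥ ∨ S = ⊤ := by
  classical
  have hν0 : ν ≠ 0 := by
    rintro rfl
    have h1 := pow_orderOf_eq_one (0 : F)
    rcases hν with e | e <;> rw [e] at h1 <;> simp at h1
  set s : Finset F := (Finset.univ.filter (· ∈ S)).erase 0 with hs
  have hm : ∀ a, a ∈ s ↔ a ≠ 0 ∧ a ∈ S := fun a => by simp [hs]
  have himg : s.image (ν * ·) = s := by
    refine Finset.eq_of_subset_of_card_le (fun x hx => ?_) ?_
    · obtain ⟨a, ha, rfl⟩ := Finset.mem_image.1 hx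
      exact (hm _).2 ⟨mul_ne_zero hν0 ((hm a).1 ha).1, hS a ((hm a).1 ha).2⟩
    · rw [Finset.card_image_of_injective _ (mul_right_injective₀ hν0)]
  have hp : ν ^ s.card * ∏ a ∈ s, a = ∏ a ∈ s, a := by
    conv_rhs => rw [← himg]
    rw [Finset.prod_image fun a _ b _ e => mul_right_injective₀ hν0 e, Finset.prod_mul_distrib,
      Finset.prod_const]
  have hne : ∏ a ∈ s, a ≠ 0 := Finset.prod_ne_zero_iff.2 fun a ha => ((hm a).1 ha).1
  have h1 : ν ^ s.card = 1 := mul_right_cancel₀ hne (by rw [hp, one_mul])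
  have h5 : 5 ∣ s.card := by
    have := orderOf_dvd_of_pow_eq_one h1
    rcases hν with e | e <;> rw [e] at this
    · exact Dvd.dvd.trans (by norm_num) this
    · exact this
  have hc : s.card + 1 = Nat.card S := by
    rw [hs, Finset.card_erase_add_one (by simp), Nat.card_eq_fintype_card, Fintype.card_subtype]
  have hd : Nat.card S ∣ 3 ^ 4 := by
    have := AddSubgroup.card_addSubgroup_dvd_card S
    rwa [Nat.card_eq_fintype_card (α := F), hF] at this
  obtain ⟨k, hk, e⟩ := (Nat.dvd_prime_pow Nat.prime_three).1 hd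
  have : k = 0 ∨ k = 4 := by
    interval_cases k <;> omega
  rcases this with rfl | rfl
  · exact Or.inl (AddSubgroup.card_eq_one.1 e)
  · right
    rw [← AddSubgroup.card_eq_iff_eq_top, e, Nat.card_eq_fintype_card, hF]
    norm_num

theorem ring_hom (hF : Fintype.card F = 81) (ι θ : F →+* K3) :
    ∃ i < 4, ∀ b, θ b = ι b ^ 3 ^ i := by
  classical
  haveI := charThree hF
  haveI : Fact (Nat.Prime 3) := ⟨Nat.prime_three⟩
  obtain ⟨a, ha⟩ := IsCyclic.exists_monoid_generator (α := Fˣ)
  have h81 : ∀ x : F, x ^ 81 = x := fun x => by rw [← hF]; exact FiniteField.pow_card x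
  set P : F[X] := ∏ i ∈ Finset.range 4, (Polynomial.X - C ((a : F) ^ 3 ^ i)) with hP
  have hfr : P.map (frobenius F 3) = P := by
    have e : (((a : F) ^ 3 ^ 3) ^ 3) = (a : F) ^ 3 ^ 0 := by
      rw [← pow_mul, pow_zero, pow_one]
      exact h81 _
    simp only [hP, Finset.prod_range_succ, Finset.prod_range_zero, Polynomial.map_mul,
      Polynomial.map_sub, Polynomial.map_X, Polynomial.map_C, Polynomial.map_one, frobenius_def, e]
    simp only [← pow_mul, ← pow_succ]
    ring
  have hmap : P.map θ = P.map ι := by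
    ext n
    rw [coeff_map, coeff_map]
    have h1 : P.coeff n ^ 3 = P.coeff n := by
      conv_rhs => rw [← hfr, coeff_map, frobenius_def]
    have h2 : P.coeff n * ((P.coeff n - 1) * (P.coeff n + 1)) = 0 := by linear_combination h1
    rcases mul_eq_zero.1 h2 with h3 | h3
    · rw [h3, map_zero, map_zero]
    rcases mul_eq_zero.1 h3 with h3 | h3
    · rw [sub_eq_zero.1 h3, map_one, map_one]
    · rw [eq_neg_of_add_eq_zero_left h3, map_neg, map_neg, map_one, map_one]
  have hroot : (P.map ι).eval (θ a) = 0 := by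
    rw [← hmap, eval_map, eval₂_at_apply, hP, eval_prod,
      Finset.prod_eq_zero (i := 0) (by simp) (by simp), map_zero]
  rw [hP, Polynomial.map_prod, eval_prod, Finset.prod_eq_zero_iff] at hroot
  obtain ⟨i, hi, h0⟩ := hroot
  refine ⟨i, Finset.mem_range.1 hi, fun b => ?_⟩
  have h1 : θ a = ι a ^ 3 ^ i := by
    simpa [sub_eq_zero] using h0
  by_cases hb : b = 0
  · rw [hb, map_zero, map_zero, zero_pow (by positivity)]
  obtain ⟨k, hk⟩ := ha (Units.mk0 b hb)
  have hb' : b = (a : F) ^ k := by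
    have := congrArg Units.val hk
    simpa using this.symm
  rw [hb', map_pow, map_pow, h1, ← pow_mul, ← pow_mul, mul_comm]

end AddH

theorem add_hom (hF : Fintype.card F = 81) (ι : F →+* K3) {ν : F} (hν : orderOf ν = 40 ∨ orderOf ν = 5)
    {c : F →+ K3} (h0 : c ≠ 0) {ρ : K3} (h : ∀ b, c (ν * b) = ρ * c b) :
    ∃ i < 4, ∃ κ : K3, κ ≠ 0 ∧ ∀ b, c b = κ * ι b ^ 3 ^ i := by
  have h1 : c 1 ≠ 0 := by
    intro e
    rcases AddH.bot_or_top hF hν c.ker fun a ha => by
      rw [AddMonoidHom.mem_ker] at ha ⊢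
      rw [h, ha, mul_zero] with hk | hk
    · have : (1 : F) ∈ c.ker := e
      rw [hk, AddSubgroup.mem_bot] at this
      exact one_ne_zero this
    · exact h0 (AddMonoidHom.ext fun b => (hk ▸ AddSubgroup.mem_top b : b ∈ c.ker))
  let T : AddSubgroup F :=
    { carrier := {a | ∀ b, c 1 * c (a * b) = c a * c b}
      zero_mem' := fun b => by simp
      add_mem' := fun {x y} hx hy b => by
        rw [add_mul, map_add, map_add, mul_add, add_mul, hx, hy]
      neg_mem' := fun {x} hx b => by
        rw [neg_mul, map_neg, map_neg, mul_neg, neg_mul, hx] }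
  have hT : T = ⊤ := by
    refine (AddH.bot_or_top hF hν T fun a ha b => ?_).resolve_left fun e => ?_
    · rw [mul_assoc, h, h, mul_left_comm, ha b, mul_assoc]
    · have : (1 : F) ∈ T := fun b => by rw [one_mul]
      rw [e, AddSubgroup.mem_bot] at this
      exact one_ne_zero this
  have hm : ∀ a b, c 1 * c (a * b) = c a * c b := fun a => (hT ▸ AddSubgroup.mem_top a : a ∈ T)
  let θ : F →+* K3 :=
    { toFun := fun b => (c 1)⁻¹ * c b
      map_one' := inv_mul_cancel₀ h1
      map_mul' := fun a b => by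
        have := hm a b
        field_simp
        linear_combination this
      map_zero' := by simp
      map_add' := fun a b => by rw [map_add, mul_add] }
  obtain ⟨i, hi, hθ⟩ := AddH.ring_hom hF ι θ
  refine ⟨i, hi, c 1, h1, fun b => ?_⟩
  rw [← hθ b]
  exact (mul_inv_cancel_left₀ h1 _).symm

end Cfsg.Agent.L81
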