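import Mathlib
import Cfsg.Agent.L81.Defs

/-!
# Search of the alcove for a given histogram
-/

set_option autoImplicit false

namespace Cfsg.Agent.L81

open Cfsg.Agent.Chev Cfsg.Agent.Chev.Chk
open Kac (pw alcS alcS_spec)

/-- the marks in the order of the search -/
def msP : List ℕ := [2, 3, 2, 4, 3, 4, 5, 6]

/-- the coordinates in the order of the search -/
def prm (c : List ℕ) : List ℕ := [7, 6, 0, 5, 1, 2, 4, 3].map (c.getD · 0)

/-- the inverse reordering -/
def unp (c : List ℕ) : List ℕ := [2, 4, 5, 7, 6, 3, 1, 0].map (c.getD · 0)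

/-- pruned search of the alcove for the histogram `H` -/
noncomputable def srchA (n H : ℕ) (S : List (List ℕ)) : Bool :=
  alcS n msP (tl4.map prm) n H fun s _ _ => decide (unp s ∈ S)

theorem dot8 (c : List ℕ) (a b d e f g h i : ℕ) : dotL c [a, b, d, e, f, g, h, i] = c.getD 0 0 * a + c.getD 1 0 * b +
    c.getD 2 0 * d + c.getD 3 0 * e + c.getD 4 0 * f + c.getD 5 0 * g + c.getD 6 0 * h + c.getD 7 0 * i := by
  have := dotL_ofFn c ![a, b, d, e, f, g, h, i]
  rw [Fin.sum_univ_eight] at this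
  exact this

theorem exists_eight {s : List ℕ} (hs : s.length = 8) : ∃ a b d e f g h i, s = [a, b, d, e, f, g, h, i] := by
  rcases s with _ | ⟨a, _ | ⟨b, _ | ⟨d, _ | ⟨e, _ | ⟨f, _ | ⟨g, _ | ⟨h, _ | ⟨i, _ | ⟨j, s⟩⟩⟩⟩⟩⟩⟩⟩⟩ <;>
    simp at hs
  exact ⟨a, b, d, e, f, g, h, i, rfl⟩

theorem dot_prm (c : List ℕ) (a b d e f g h i : ℕ) :
    dotL (prm c) [i, h, a, g, b, d, f, e] = dotL c [a, b, d, e, f, g, h, i] := by
  rw [dot8, dot8]
  simp only [prm, List.map_cons, List.map_nil, List.getD_cons_zero, List.getD_cons_succ]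
  ring

theorem sum_prm (T : List (List ℕ)) (n a b d e f g h i : ℕ) :
    ((((T.map prm).map fun c => dotL c [i, h, a, g, b, d, f, e] % n : List ℕ) + 0 : Multiset ℕ).map (257 ^ ·)).sum =
      sumT pw T [a, b, d, e, f, g, h, i] n 1 := by
  rw [sumT_eq, add_zero, Multiset.map_coe, Multiset.sum_coe, List.map_map, List.map_map]
  refine congrArg List.sum (List.map_congr_left fun c _ => ?_)
  simp only [Function.comp_apply, dot_prm, one_mul]
  rfl

theorem alc_aux {n : ℕ} {S T : List (List ℕ)} (hT : T.length < 257) {s : List ℕ} (hs : s.length = 8)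
    (hd : dotL ms8 s ≤ n) (h : alcS n msP (T.map prm) n (sumT pw T s n 1) (fun s _ _ => decide (unp s ∈ S)) = true) :
    s ∈ S := by
  obtain ⟨a, b, d, e', f, g, h', i, rfl⟩ := exists_eight hs
  have h2 : dotL msP [i, h', a, g, b, d, f, e'] ≤ n := (dot_prm ms8 a b d e' f g h' i).trans_le hd
  rw [← sum_prm] at h
  have h3 := alcS_spec (ms := msP) (by decide) (s := [i, h', a, g, b, d, f, e']) rfl h2 (by simpa using hT) h
  exact of_decide_eq_true h3

theorem srchA_spec {n H : ℕ} {S : List (List ℕ)} (h : srchA n H S = true) {s : List ℕ}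
    (hs : s.length = 8) (hd : dotL ms8 s ≤ n) (e : hT n s = H) : s ∈ S := by
  subst e
  exact alc_aux (by decide +kernel) hs hd h

end Cfsg.Agent.L81
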