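import Mathlib
import Cfsg.Agent.L81.Defs
import Cfsg.Agent.FV.Lang
import Cfsg.Agent.E82.TorA
import Cfsg.Agent.E82.Kac

set_option autoImplicit false
set_option maxRecDepth 100000

namespace Cfsg.Agent.L81

open Cfsg.Lie Cfsg.Lie.ChevalleyDatum Cfsg.Agent.Chev Cfsg.Agent.Chev.S2M Cfsg.Agent.Chev.Chk Matrix
  MatrixGroups Polynomial Module
open Kac (K3 pw js)
open FV (G0)

namespace Frm

open FV (TX)

section Gen

variable {D : ChevalleyDatum} [hG : D.Good]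

theorem fr_diag {t : GL D.Idx K3} (ht : t ∈ D.diagonalSubgroup K3) : FV.fr D t = t ^ 3 := by
  rw [← range_torusHom] at ht
  obtain ⟨c, rfl⟩ := ht
  rw [← map_pow]
  exact (Th.glMap_torus _ c).trans (congrArg _ (funext fun i => Units.ext (by simp [frobenius_def])))

theorem fr_mono {n : GL D.Idx K3} (hn : n ∈ D.monomialSubgroup K3) : FV.fr D n ∈ D.monomialSubgroup K3 := by
  obtain ⟨h, hh, l, rfl⟩ := D.exists_eq_mul_nWordS K3 hn
  rw [map_mul, fr_diag hh]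
  refine mul_mem (pow_mem ((D.rootBN K3).H_le_N hh) 3) ?_
  rw [FV.fr, FV.map_nWordS]
  exact D.nWordS_mem K3 l

theorem diag_comm {s t : GL D.Idx K3} (hs : s ∈ D.diagonalSubgroup K3) (ht : t ∈ D.diagonalSubgroup K3) :
    s * t = t * s := by
  rw [← range_torusHom] at hs ht
  obtain ⟨c, rfl⟩ := hs
  obtain ⟨d, rfl⟩ := ht
  rw [← map_mul, ← map_mul, mul_comm]

theorem fix_wOf {S : Subgroup (GL D.Idx K3)} {n : GL D.Idx K3} (hn : n ∈ D.monomialSubgroup K3)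
    (hS : n ∈ Subgroup.normalizer (S : Set (GL D.Idx K3))) (r : D.Rt) :
    D.wOf K3 n r ∈ StRoot.fixR (fun r : D.Rt => D.X K3 r) S ↔ r ∈ StRoot.fixR (fun r : D.Rt => D.X K3 r) S := by
  obtain ⟨a, ha, -⟩ := D.exists_conj_X_wOf K3 hn r
  refine ⟨fun h s hs c => ?_, fun h s hs c => ?_⟩
  · have h1 := h _ ((Subgroup.mem_normalizer_iff.1 hS s).1 hs) (a * c)
    simp only [← ha] at h1
    calc s * D.X K3 r c * s⁻¹ = n⁻¹ * (n * s * n⁻¹ * (n * D.X K3 r c * n⁻¹) * (n * s * n⁻¹)⁻¹) * n := by group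
      _ = D.X K3 r c := by rw [h1]; group
  · have h1 := h _ ((Subgroup.mem_normalizer_iff.1 (inv_mem hS) s).1 hs) (a⁻¹ * c)
    have h2 := ha (a⁻¹ * c)
    rw [Units.mul_inv_cancel_left] at h2
    simp only at h1 ⊢
    rw [← h2]
    calc s * (n * D.X K3 r (a⁻¹ * c) * n⁻¹) * s⁻¹
        = n * (n⁻¹ * s * n⁻¹⁻¹ * D.X K3 r (a⁻¹ * c) * (n⁻¹ * s * n⁻¹⁻¹)⁻¹) * n⁻¹ := by group
      _ = _ := by rw [h1]

theorem TX_cent {t z : GL D.Idx K3} (ht : t ∈ D.diagonalSubgroup K3)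
    (hz : z ∈ TX D K3 (StRoot.fixR (fun r : D.Rt => D.X K3 r) (Subgroup.zpowers t))) : z * t * z⁻¹ = t := by
  obtain ⟨x, hx, s, hs, rfl⟩ := FV.TX_factor hz
  have h : x * t = t * x := D.XS_monoid_induction K3 (P := fun g => g * t = t * g)
    (S := StRoot.fixR (fun r : D.Rt => D.X K3 r) (Subgroup.zpowers t)) (by simp)
    (fun r hr c => (mul_inv_eq_iff_eq_mul.1 (hr t (Subgroup.mem_zpowers t) c)).symm)
    (fun a b ha hb => by rw [mul_assoc, hb, ← mul_assoc, ha, mul_assoc]) hx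
  rw [mul_assoc x, diag_comm hs ht, ← mul_assoc, h, mul_assoc t, mul_inv_cancel_right]

theorem stable {g y : GL D.Idx K3} (hg : g ∈ D.group K3) (hy : FV.fr D y = y) (ho : IsOfFinOrder y)
    (ht : g * y * g⁻¹ ∈ D.diagonalSubgroup K3) :
    ∃ g ∈ D.group K3, g * y * g⁻¹ ∈ D.diagonalSubgroup K3 ∧ FV.fr D g * g⁻¹ ∈ D.monomialSubgroup K3 := by
  have h1 : FV.fr D g * g⁻¹ * (g * y * g⁻¹) * (FV.fr D g * g⁻¹)⁻¹ = (g * y * g⁻¹) ^ 3 := by
    rw [← fr_diag ht, map_mul, map_mul, map_inv, hy]; group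
  have h2 : IsOfFinOrder (g * y * g⁻¹) := (MulAut.conj g).toMonoidHom.isOfFinOrder ho
  have h3 : Finite (Subgroup.zpowers (g * y * g⁻¹) : Set (GL D.Idx K3)) := h2.finite_zpowers
  obtain ⟨u, hu, n, hn, v, hv, e, h4⟩ := (D.isStrong_X K3).exists_of_norm (S := Subgroup.zpowers (g * y * g⁻¹))
    (g := FV.fr D g * g⁻¹) (by rw [st_HH, Subgroup.zpowers_le]; exact ht)
    (by rw [st_XS_univ]; exact mul_mem (glMap_mem_group D _ hg) (inv_mem hg))
    (Subgroup.mem_normalizer_fintype (by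
      rintro _ ⟨k, rfl⟩
      simp only
      rw [← conj_zpow, h1]
      exact zpow_mem (pow_mem (Subgroup.mem_zpowers _) 3) k))
  rw [st_XS] at hu hv
  rw [st_NN] at hn
  obtain ⟨z, hz, h5⟩ := FV.lang_TX hn (fix_wOf hn h4) (Subgroup.mem_sup_left hu) (Subgroup.mem_sup_left hv)
  refine ⟨z * g, mul_mem (FV.TX_le_group _ hz) hg, ?_, ?_⟩
  · rw [show z * g * y * (z * g)⁻¹ = z * (g * y * g⁻¹) * z⁻¹ by group, TX_cent ht hz]
    exact ht
  · rwa [map_mul, _root_.mul_inv_rev, ← mul_assoc, mul_assoc _ _ g⁻¹, e]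

theorem exists_chr {t : GL D.Idx K3} (ht : t ∈ D.diagonalSubgroup K3) :
    ∃ χ, (D.stProj K3 (D.torC K3 χ) : GL D.Idx K3) = t := by
  rw [← range_torusHom] at ht
  obtain ⟨c, rfl⟩ := ht
  exact ⟨chrOf c, by rw [torC_chrOf, coe_stProj_stTor]⟩

theorem move {g y : GL D.Idx K3} (hg : g ∈ D.group K3) (hm : FV.fr D g * g⁻¹ ∈ D.monomialSubgroup K3) {ξ : K3ˣ}
    {f0 : D.Lat →+ ℤ} (e : (D.stProj K3 (D.torC K3 (chrExp ξ f0)) : GL D.Idx K3) = g * y * g⁻¹) (L : List D.Nd) :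
    ∃ g ∈ D.group K3, FV.fr D g * g⁻¹ ∈ D.monomialSubgroup K3 ∧
      (g * y * g⁻¹).val = diagonal fun a => ((ξ ^ (f0.comp (D.stRoot.lw L)) (D.wtI a) : K3ˣ) : K3) := by
  let n : D.group K3 := D.stProj K3 (D.stRoot.nw (fun r : D.Rt => D.stGen K3 r) L)
  have hn : (n : GL D.Idx K3) ∈ D.monomialSubgroup K3 := by
    rw [← mem_NN_XG]
    simp only [n, StRoot.map_nw, stProj_stGen]
    exact StRoot.nw_mem_NN L
  refine ⟨(n : GL D.Idx K3)⁻¹ * g, mul_mem (inv_mem n.2) hg, ?_, ?_⟩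
  · rw [show FV.fr D ((n : GL D.Idx K3)⁻¹ * g) * ((n : GL D.Idx K3)⁻¹ * g)⁻¹ =
      (FV.fr D n)⁻¹ * (FV.fr D g * g⁻¹) * n by rw [map_mul, map_inv]; group]
    exact mul_mem (mul_mem (inv_mem (fr_mono hn)) hm) hn
  · have h1 : (n : GL D.Idx K3)⁻¹ * g * y * ((n : GL D.Idx K3)⁻¹ * g)⁻¹ =
        (D.stProj K3 (D.torC K3 (chrExp ξ (f0.comp (D.stRoot.lw L)))) : GL D.Idx K3) := by
      rw [show chrExp ξ (f0.comp (D.stRoot.lw L)) = chrComp (chrExp ξ f0) (D.stRoot.lw L) from chr_ext fun v => rfl,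
        ← nw_inv_conj_torC, map_mul, map_mul, map_inv, Subgroup.coe_mul, Subgroup.coe_mul, Subgroup.coe_inv, e]
      simp only [n]
      group
    rw [h1]
    exact D.adjHom_torC K3 _

theorem pow_one' {y g : GL D.Idx K3} {ξ : K3ˣ} {m k : ℕ} (hξ : ξ ^ m = 1) {f : D.Lat →+ ℤ}
    (e : (g * y * g⁻¹).val = diagonal fun a => ((ξ ^ f (D.wtI a) : K3ˣ) : K3))
    (h : ∀ i : D.Nd, (m : ℤ) ∣ k * f (D.wt (D.sr i))) : y ^ k = 1 := by
  have h1 : ∀ a, (m : ℤ) ∣ k * f (D.wtI a) := by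
    rintro (a | r)
    · simp [wtI]
    · change _ ∣ _ * f (D.wt r)
      rw [wt_eq_sum_coef, map_sum, Finset.mul_sum]
      exact Finset.dvd_sum fun i _ => by rw [map_zsmul, smul_eq_mul, mul_left_comm]; exact (h i).mul_left _
  have h2 : (g * y * g⁻¹) ^ k = 1 := Units.ext (by
    rw [Units.val_pow_eq_pow_val, e, diagonal_pow, Units.val_one, ← diagonal_one]
    congr 1
    funext a
    obtain ⟨c, hc⟩ := h1 a
    rw [Pi.pow_apply, ← Units.val_pow_eq_pow_val, ← _root_.zpow_natCast, ← _root_.zpow_mul, mul_comm, hc,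
      _root_.zpow_mul, _root_.zpow_natCast, hξ, _root_.one_zpow, Units.val_one])
  rwa [conj_pow, conj_eq_one_iff] at h2

theorem roots_eq {M : ℕ} {tl : List (List ℕ)} (h : D.TabOK (D.adjRep K3).μ 1 M tl) {d : ℕ} (hd : d ∣ M)
    {y g : GL D.Idx K3} {ξ : K3ˣ} (hξ : ξ ^ d = 1) {f : D.Lat →+ ℤ}
    (e : (g * y * g⁻¹).val = diagonal fun a => ((ξ ^ f (D.wtI a) : K3ˣ) : K3)) {t : List ℕ} (ht : t.length = D.rank)
    (hf : ∀ i : D.Nd, (d : ℤ) ∣ f (D.wt (D.simple i)) - (t.getD i 0 : ℕ)) :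
    y.val.charpoly.roots = (tl.map fun c => (ξ : K3) ^ dotL c t : List K3) := by
  have hE : y.val.charpoly.roots = Finset.univ.val.map fun a => ((ξ ^ f ((D.adjRep K3).μ a) : K3ˣ) : K3) := by
    rw [WtRep.roots_of_diag (g := g⁻¹) (by rw [inv_inv]; exact e),
      ← Finset.map_univ_equiv (finSumFinEquiv.symm : Fin (D.rank + D.nroots) ≃ D.Idx), Finset.map_val,
      Multiset.map_map]
    rfl
  have hr := E82.Kac1.row h hd f ht hf
  obtain ⟨h0, -⟩ := h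
  rw [hE]
  generalize (D.adjRep K3).μ = μ at hr
  generalize D.rank + D.nroots = N at μ h0 hr
  subst h0
  conv_rhs => rw [← List.ofFn_getElem (xs := tl), List.map_ofFn, ← Fin.univ_val_map]
  refine Multiset.map_congr rfl fun a _ => ?_
  obtain ⟨c, hc⟩ := hr a
  rw [List.getD_eq_getElem _ _ a.2] at hc
  rw [sub_eq_iff_eq_add.1 hc, _root_.zpow_add, _root_.zpow_mul, _root_.zpow_natCast, hξ, _root_.one_zpow, one_mul,
    _root_.zpow_natCast]
  simp

end Gen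

theorem tab4 : chevE8.TabOK (chevE8.adjRep K3).μ 1 1640 tl4 := by
  refine ⟨rfl, fun a k => ?_⟩
  change _ ∣ _ * chevE8.wtI (finSumFinEquiv.symm a) k - _
  revert a k
  decide +kernel

theorem exists_stable {x : G0} (hx : (orderOf x).Coprime 3) : ∃ g ∈ chevE8.group K3,
    g * emb x * g⁻¹ ∈ chevE8.diagonalSubgroup K3 ∧ fr g * g⁻¹ ∈ chevE8.monomialSubgroup K3 := by
  obtain ⟨-, -, χ, -, hc⟩ := chevE8.exists_isConj_torC_group (ZMod 3) (stTor_injective_E8 K3) 3 x hx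
  obtain ⟨g, hg⟩ := isConj_iff.1 hc
  refine stable g.2 (fr_emb x) (emb.isOfFinOrder (isOfFinOrder_of_finite x)) ?_
  exact (chevE8.mem_HH_XG K3).1 (hg ▸ chevE8.stProj_torC_mem χ)

theorem ev_eq {x : G0} {ξ : K3ˣ} {m : ℕ} {g : GG} {f : Lat →+ ℤ} {s : List ℕ} (h : Frame x ξ m g f s)
    (hm : m ∣ 1640) : ev x = (tl4.map fun c => (ξ : K3) ^ dotL c s : List K3) :=
  roots_eq tab4 hm h.prim.pow_eq_one h.eq h.len h.val

end Frm

theorem exists_frame {m : ℕ} (hm : m ∣ 1640) {ξ : K3ˣ} (hξ : IsPrimitiveRoot ξ m) {x : G0} (hx : x ^ m = 1) :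
    ∃ g f s, Frame x ξ m g f s := by
  have m0 : 0 < m := Nat.pos_of_dvd_of_pos hm (by norm_num)
  obtain ⟨g0, hg0, ht, hmo⟩ := Frm.exists_stable (x := x)
    ((show Nat.Coprime 1640 3 by norm_num).coprime_dvd_left ((orderOf_dvd_of_pow_eq_one hx).trans hm))
  obtain ⟨χ, e⟩ := Frm.exists_chr ht
  have hχn : χ ^ m = 1 := by
    have h1 : chevE8.stProj K3 (chevE8.torC K3 χ) ^ m = 1 := Subtype.ext (by
      rw [SubgroupClass.coe_pow, e, conj_pow, ← map_pow, hx, map_one, mul_one, mul_inv_cancel]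
      rfl)
    rw [← map_pow, ← MonoidHom.mem_ker, chevE8.ker_stProj, ← map_pow] at h1
    exact chevE8.torC_injective (stTor_injective_E8 K3)
      (((pow_one _).symm.trans (Alc.center_E8 _ _ h1)).trans (map_one _).symm)
  obtain ⟨f0, rfl⟩ := exists_chrExp m0 hξ hχn
  obtain ⟨L, g, h1, h2, h3⟩ := chevE8.stRoot.exists_alcove f0 m0
  obtain ⟨g1, hg1, hm1, e1⟩ := Frm.move hg0 hmo e L
  let s : chevE8.Nd → ℕ := fun i => (g (chevE8.wt (chevE8.simple i))).toNat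
  have hs : ∀ i, (s i : ℤ) = g (chevE8.wt (chevE8.simple i)) := fun i => Int.toNat_of_nonneg (h2 i)
  have hl : (List.ofFn s).length = chevE8.rank := List.length_ofFn
  have hsi : ∀ i : chevE8.Nd, (List.ofFn s).getD i 0 = s i := fun i => by
    rw [List.getD_eq_getElem _ _ (by rw [hl]; exact i.2), List.getElem_ofFn]
  refine ⟨g1, f0.comp (chevE8.stRoot.lw L), List.ofFn s, hξ, hg1, hm1, e1, hl, ?_, fun i => ?_⟩
  · obtain ⟨-, -, θ, e3⟩ := Alc.hiE8
    have h4 := h3 θ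
    change g (chevE8.wt θ) ≤ _ at h4
    rw [funext e3, E82.Kac1.map_fun] at h4
    zify
    rw [dotL_ofFn]
    push_cast
    simpa only [hs, ms8] using h4
  · rw [hsi, hs]
    exact dvd_sub_comm.1 (h1 _)

variable {x : G0} {ξ : K3ˣ} {m : ℕ} {g : GG} {f : Lat →+ ℤ} {s : List ℕ}

theorem Frame.map_mod (h : Frame x ξ m g f s) (hm : m ∣ 1640) {W : Multiset ℕ}
    (hW : ev x = W.map ((ξ : K3) ^ ·)) : W.map (· % m) = (tl4.map fun c => dotL c s % m : List ℕ) := by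
  have m0 : 0 < m := Nat.pos_of_dvd_of_pos hm (by norm_num)
  have h7 := Frm.ev_eq h hm
  generalize tl4 = tl at h7 ⊢
  simpa [Function.comp_def] using Kac.map_mod_eq m0 (IsPrimitiveRoot.coe_units_iff.2 h.prim) (A := W)
    (B := (tl.map fun c => dotL c s : List ℕ)) (by rw [← hW, h7]; simp [Function.comp_def])

theorem Frame.hist_eq (h : Frame x ξ m g f s) (hm : m ∣ 1640) {W : Multiset ℕ}
    (hW : ev x = W.map ((ξ : K3) ^ ·)) : hist m W = hT m s := by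
  have := congrArg (fun B => (B.map (257 ^ ·)).sum) (h.map_mod hm hW)
  rw [hT, sumT_eq, hist]
  generalize tl4 = tl at this ⊢
  simp only [Multiset.map_map, Function.comp_def, Multiset.map_coe, Multiset.sum_coe, List.map_map] at this
  simpa only [one_mul, pw, Nat.pow_eq] using this

theorem Frame.stable (h : Frame x ξ m g f s) (hm : m ∣ 1640) : sumT pw tl4 s m 1 = sumT pw tl4 s m 3 := by
  have m0 : 0 < m := Nat.pos_of_dvd_of_pos hm (by norm_num)
  have h7 := Frm.ev_eq h hm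
  have hfr := ev_frob x
  rw [h7] at hfr
  generalize tl4 = tl at hfr ⊢
  refine sumT_congr m0 (IsPrimitiveRoot.coe_units_iff.2 h.prim) _ ?_
  simpa [← pow_mul, mul_comm, Function.comp_def] using hfr.symm

theorem Frame.pow_eq_one (h : Frame x ξ m g f s) {k : ℕ} (hk : ∀ t ∈ s, m ∣ k * t) : x ^ k = 1 := by
  refine FV.emb_injective ?_
  rw [map_pow, map_one]
  refine Frm.pow_one' h.prim.pow_eq_one h.eq fun i => ?_
  have hi : (i : ℕ) < s.length := h.len ▸ i.2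
  have h8 : m ∣ k * s.getD i 0 := hk _ (by rw [List.getD_eq_getElem _ _ hi]; exact List.getElem_mem hi)
  have h9 := dvd_add ((h.val i).mul_left k) (Int.natCast_dvd_natCast.2 h8)
  push_cast at h9
  rwa [mul_sub, sub_add_cancel] at h9

end Cfsg.Agent.L81
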