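import Mathlib
import Cfsg.Agent.L81.Defs
import Cfsg.Agent.L81.Alc

set_option autoImplicit false

namespace Cfsg.Agent.L81

open Cfsg.Agent.Chev Cfsg.Agent.Chev.Chk

theorem k20_chk1 : allL (B20.take 8) (fun H => srchA 20 H []) = true := by decide +kernel

theorem k20_chk2 : allL (B20.drop 8) (fun H => srchA 20 H []) = true := by decide +kernel

theorem k20 {s : List ℕ} (hs : s.length = 8) (hd : dotL ms8 s ≤ 20) : hT 20 s ∉ B20 := fun h => by
  rw [← List.take_append_drop 8 B20, List.mem_append] at h
  exact List.not_mem_nil (srchA_spec (h.elim (allL_iff.1 k20_chk1 _) (allL_iff.1 k20_chk2 _)) hs hd rfl)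

end Cfsg.Agent.L81
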