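import Mathlib
import Cfsg.Agent.L81.Defs
import Cfsg.Agent.L81.Alc

set_option autoImplicit false

namespace Cfsg.Agent.L81

open Cfsg.Agent.Chev Cfsg.Agent.Chev.Chk

theorem k40b_chk : allL ((T40.drop 4).take 4) (fun p => srchA 40 p.1 p.2) = true := by decide +kernel

theorem k40b {s : List ℕ} (hs : s.length = 8) (hd : dotL ms8 s ≤ 40) :
    ∀ p ∈ (T40.drop 4).take 4, hT 40 s = p.1 → s ∈ p.2 := fun p hp e => srchA_spec (allL_iff.1 k40b_chk p hp) hs hd e

end Cfsg.Agent.L81
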