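import Mathlib
import Cfsg.Agent.L81.Defs
import Cfsg.Agent.L81.Alc

set_option autoImplicit false

namespace Cfsg.Agent.L81

open Cfsg.Agent.Chev Cfsg.Agent.Chev.Chk

theorem k41_chk : srchA 41 H41 [] = true := by decide +kernel

theorem k41 {s : List ℕ} (hs : s.length = 8) (hd : dotL ms8 s ≤ 41) : hT 41 s ≠ H41 := fun e =>
  List.not_mem_nil (srchA_spec k41_chk hs hd e)

end Cfsg.Agent.L81
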