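import Mathlib
import Cfsg.Agent.L81.Defs
import Cfsg.Agent.L81.Frm

set_option autoImplicit false

namespace Cfsg.Agent.L81

open Cfsg.Lie Cfsg.Lie.ChevalleyDatum Cfsg.Agent.Chev Cfsg.Agent.Chev.S2M Cfsg.Agent.Chev.Chk Matrix
  MatrixGroups Polynomial Module
open Kac (K3 pw js)
open FV (G0)

namespace K8

/-- the check for elements conjugate to their cubes -/
noncomputable def chk (n : ℕ) (ls L : List ℕ) : Bool :=
  Kac.forceT tl4 fun tl => allS [2, 3, 4, 6, 5, 4, 3, 2] n fun s => force (sumT pw tl s n 1) fun h =>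
    !Nat.beq h (sumT pw tl s n 3) ||
      !allL ls (fun k => !allL s fun t => Nat.beq (Nat.mod (Nat.mul k t) n) 0) || decide (h ∈ L)

theorem mem_of {n : ℕ} (hm : n ∣ 1640) {ξ : K3} (hξ : IsPrimitiveRoot ξ n) {x : G0} (hx : orderOf x = n)
    {W : Multiset ℕ} (hW : ev x = W.map (ξ ^ ·)) {ls L : List ℕ} (hl : ∀ k ∈ ls, ¬ n ∣ k)
    (h : chk n ls L = true) : hist n W ∈ L ∧ W.card = 248 := by
  have hn : n ≠ 0 := (Nat.pos_of_dvd_of_pos hm (by norm_num)).ne'
  obtain ⟨g, f, s, e⟩ := exists_frame hm (ξ := Units.mk0 ξ (hξ.ne_zero hn))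
    (IsPrimitiveRoot.coe_units_iff.1 hξ) (x := x) (hx ▸ pow_orderOf_eq_one x)
  refine ⟨?_, ?_⟩
  · rw [chk, Kac.forceT_eq] at h
    have h6 := allS_spec (by decide) h e.len e.alc
    have h4 := e.stable hm
    simp only [force_eq, Bool.or_eq_true, Bool.not_eq_true', h4, Nat.beq_refl, reduceCtorEq, false_or,
      decide_eq_true_eq] at h6
    rcases h6 with h6 | h6
    · refine absurd (allL_iff.2 fun k hk => ?_) (ne_true_of_eq_false h6)
      rw [Bool.not_eq_true', Bool.eq_false_iff]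
      exact fun h => hl k hk (hx ▸ orderOf_dvd_of_pow_eq_one (e.pow_eq_one fun t ht =>
        Nat.dvd_of_mod_eq_zero (Nat.eq_of_beq_eq_true (allL_iff.1 h t ht))))
    · rw [e.hist_eq hm hW, hT, h4]
      exact h6
  · have := congrArg Multiset.card (e.map_mod hm hW)
    rw [Multiset.card_map, Multiset.coe_card, List.length_map] at this
    exact this.trans (by decide +kernel)

theorem c8 : chk 8 [4] L8 = true := by decide +kernel

theorem c10 : chk 10 [2, 5] L10 = true := by decide +kernel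

theorem c2 : chk 2 [1] [33016, 28920] = true := by decide +kernel

end K8

theorem kac8 {ξ : K3} (hξ : IsPrimitiveRoot ξ 8) {x : G0} (hx : orderOf x = 8) {W : Multiset ℕ}
    (hW : ev x = W.map (ξ ^ ·)) : hist 8 W ∈ L8 :=
  (K8.mem_of (by norm_num) hξ hx hW (by decide) K8.c8).1

theorem kac10 {ξ : K3} (hξ : IsPrimitiveRoot ξ 10) {x : G0} (hx : orderOf x = 10) {W : Multiset ℕ}
    (hW : ev x = W.map (ξ ^ ·)) : hist 10 W ∈ L10 :=
  (K8.mem_of (by norm_num) hξ hx hW (by decide) K8.c10).1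

theorem kac2 {x : G0} (hx : orderOf x = 2) {W : Multiset ℕ} (hW : ev x = W.map ((-1 : K3) ^ ·)) :
    (W.map (· % 2)).count 0 = 120 ∨ (W.map (· % 2)).count 0 = 136 := by
  obtain ⟨h1, h2⟩ := K8.mem_of (by norm_num) (IsPrimitiveRoot.neg_one 3 (by norm_num)) hx hW (by decide) K8.c2
  have h3 := Kac.count_pack (b := 257) (A := W.map (· % 2)) (by rw [Multiset.card_map, h2]; norm_num) 0
  rw [Multiset.map_map] at h3
  change hist 2 W / 257 ^ 0 % 257 = _ at h3
  rw [← h3]
  simp only [List.mem_cons, List.not_mem_nil, or_false] at h1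
  rcases h1 with h1 | h1 <;> rw [h1] <;> norm_num

end Cfsg.Agent.L81
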