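import Mathlib
import Cfsg.Agent.L81.Defs
import Cfsg.Agent.L81.Wt
import Cfsg.Agent.E82.Mod

/-!
# Composition factors of modules of `SL₂(81)`
-/

set_option autoImplicit false
set_option linter.unusedSectionVars false
set_option linter.unusedVariables false

namespace Cfsg.Agent.L81

open Cfsg.Lie Cfsg.Lie.ChevalleyDatum Cfsg.Agent.Chev Cfsg.Agent.Chev.S2M Cfsg.Agent.Chev.Chk Matrix
  MatrixGroups Polynomial Module
open Kac (K3 pw js)
open FV (G0)

variable {F : Type*} [Field F] [Fintype F] {ι : F →+* K3} {M : Type} [AddCommGroup M] [Module K3 M]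
  [FiniteDimensional K3 M] {σ : Representation K3 SL(2, F) M}

theorem exists_model (ι : F →+* K3) (hF : Fintype.card F = 81) [Nontrivial M]
    (hs : ∀ N : Submodule K3 M, (∀ g, N ≤ N.comap (σ g)) → N = ⊥ ∨ N = ⊤) : ∃ l, Model ι σ l := by
  have := RingHom.charP ι ι.injective 3
  obtain ⟨l, h1, h2⟩ := E82.Mod.exists_phi ι 3 σ hs
  exact ⟨l, hF ▸ h1, h2⟩

theorem Model.ch (hF : Fintype.card F = 81) {l : ℕ} (h : Model ι σ l) : Ch ι σ {l} := by
  obtain ⟨h0, Φ, h1, h2, h3⟩ := h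
  refine ⟨by simpa using h0, fun g η hg => ?_⟩
  rw [Multiset.map_singleton, Multiset.prod_singleton]
  exact charpoly_of_range ι σ Φ h1 h2 (hF ▸ h0) h3 hg

theorem Ch.add {N : Submodule K3 M} {hN : ∀ g, N ≤ N.comap (σ g)} {A B : Multiset ℕ}
    (hA : Ch ι (σ.subrepresentation N hN) A) (hB : Ch ι (σ.quotient N hN) B) : Ch ι σ (A + B) :=
  ⟨fun l hl => (Multiset.mem_add.1 hl).elim (hA.1 l) (hB.1 l), fun g η h => by
    rw [Multiset.map_add, Multiset.prod_add, ← hA.2 g η h, ← hB.2 g η h]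
    exact charpoly_mul _ N (hN g)⟩

theorem Ch.dual {A : Multiset ℕ} (h : Ch ι σ A) : Ch ι σ.dual A :=
  ⟨h.1, fun g η hg => by rw [Representation.dual_apply, E82.Mod.charpoly_dual, h.2 _ η (E82.Mod.eig_inv hg)]⟩

theorem Ch.roots {A : Multiset ℕ} (h : Ch ι σ A) {g : SL(2, F)} {η : K3} (hg : Eig ι g η)
    (hη : η ^ 3280 = 1) : (σ g).charpoly.roots = (WW A).map (η ^ ·) := by
  rw [h.2 g η hg, ← roots_multiset_prod_X_sub_C ((WW A).map (η ^ ·)), WW, Multiset.map_bind, Multiset.map_bind,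
    Multiset.prod_bind]
  congr 2
  refine Multiset.map_congr rfl fun l hl => ?_
  have hl' := h.1 l hl
  rw [wts, ← Multiset.map_coe, ← JJ_eq hl', Multiset.map_map, Multiset.map_map, Finset.prod_eq_multiset_prod]
  congr 1
  refine Multiset.map_congr rfl fun j hj => ?_
  have hj' := (mem_JJ.1 hj).1
  simp only [Function.comp_apply]
  rw [show 3280 + l - 2 * j = 3280 - j + (l - j) by omega, pow_add, inv_pow,
    inv_eq_of_mul_eq_one_left (a := η ^ (3280 - j)) (b := η ^ j) (by rw [← pow_add, Nat.sub_add_cancel (by omega), hη])]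

theorem Ch.finrank_eq {A : Multiset ℕ} (h : Ch ι σ A) : finrank K3 M = (WW A).card := by
  rw [← (σ 1).charpoly_natDegree, (IsAlgClosed.splits _).natDegree_eq_card_roots, h.roots E82.Mod.eig_one (one_pow _),
    Multiset.card_map]

theorem Ch.finrank_eig {A : Multiset ℕ} (h : Ch ι σ A) {n : ℕ} (hn : n ∣ 3280) {g : SL(2, F)} {η : K3}
    (hη : IsPrimitiveRoot η n) (hg : Eig ι g η) (k : ℕ) :
    finrank K3 (End.eigenspace (σ g) (η ^ k)) = ((WW A).map (· % n)).count (k % n) := by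
  classical
  have h1 : g ^ n = 1 := E82.Mod.eq_one (hη.pow_eq_one ▸ Kac.eig_pow hg n)
  have h2 : (n : K3) ≠ 0 := fun e => by
    have := ((CharP.cast_eq_zero_iff K3 3 n).1 e).trans hn
    omega
  have h3 : End.IsSemisimple (σ g) := End.isSemisimple_of_squarefree_aeval_eq_zero
    (X_pow_sub_one_separable_iff.2 h2).squarefree (by rw [map_sub, map_pow, aeval_X, ← map_pow, h1]; simp)
  rw [← h3.isFinitelySemisimple.maxGenEigenspace_eq_eigenspace, LinearMap.finrank_maxGenEigenspace_eq,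
    ← count_roots, h.roots hg ((hη.pow_eq_one_iff_dvd _).2 hn), Multiset.count_map, Multiset.count_map]
  congr 1
  refine Multiset.filter_congr fun w _ => ?_
  rw [(hη.isOfFinOrder (by rintro rfl; simp at h2)).pow_inj_mod, ← hη.eq_orderOf]

theorem Ch.uniq (hF : Fintype.card F = 81) {A B : Multiset ℕ} (hA : Ch ι σ A) (hB : Ch ι σ B) : A = B := by
  have k : ∀ n, 2 < n → ¬ 3 ∣ n → n ∣ 80 ∨ n ∣ 82 → n ∣ 3280 → (WW A).map (· % n) = (WW B).map (· % n) :=
    fun n h1 h2 h3 h4 => by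
      obtain ⟨ξ, hξ⟩ := exists_root h2
      obtain ⟨a, hg, -⟩ := exists_elt ι hF h1 h3 hξ
      have e := (hξ.pow_eq_one_iff_dvd _).2 h4
      exact Kac.map_mod_eq (by omega) hξ ((hA.roots hg e).symm.trans (hB.roots hg e))
  exact WW_inj hA.1 hB.1 (k 80 (by norm_num) (by decide) (.inl dvd_rfl) (by norm_num))
    (k 82 (by norm_num) (by decide) (.inr dvd_rfl) (by norm_num))

theorem Mod.ind (ι : F →+* K3) (hF : Fintype.card F = 81) (P : ∀ (M : Type) [AddCommGroup M] [Module K3 M]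
      [FiniteDimensional K3 M], Representation K3 SL(2, F) M → Multiset ℕ → Prop)
    (h0 : ∀ (M : Type) [AddCommGroup M] [Module K3 M] [FiniteDimensional K3 M] [Subsingleton M]
      (σ : Representation K3 SL(2, F) M), P M σ 0)
    (h1 : ∀ (M : Type) [AddCommGroup M] [Module K3 M] [FiniteDimensional K3 M]
      (σ : Representation K3 SL(2, F) M) (l : ℕ), Model ι σ l → P M σ {l})
    (h2 : ∀ (M : Type) [AddCommGroup M] [Module K3 M] [FiniteDimensional K3 M]
      (σ : Representation K3 SL(2, F) M) (N : Submodule K3 M) (hN : ∀ g, N ≤ N.comap (σ g))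
      (A B : Multiset ℕ), Ch ι (σ.subrepresentation N hN) A → Ch ι (σ.quotient N hN) B →
        P N (σ.subrepresentation N hN) A → P (M ⧸ N) (σ.quotient N hN) B → P M σ (A + B)) (V : Type) [AddCommGroup V] [Module K3 V] [FiniteDimensional K3 V]
    (ρ : Representation K3 SL(2, F) V) : ∃ A, Ch ι ρ A ∧ P V ρ A := by
  induction hn : finrank K3 V using Nat.strong_induction_on generalizing V with
  | _ n ih =>
    rcases subsingleton_or_nontrivial V with hV | hV
    · refine ⟨0, ⟨by simp, fun g η _ => ?_⟩, h0 V ρ⟩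
      rw [Multiset.map_zero, Multiset.prod_zero, ← (ρ g).charpoly_monic.natDegree_eq_zero,
        LinearMap.charpoly_natDegree]
      exact finrank_zero_of_subsingleton
    by_cases h : ∀ N : Submodule K3 V, (∀ g, N ≤ N.comap (ρ g)) → N = ⊥ ∨ N = ⊤
    · obtain ⟨l, hl⟩ := exists_model ι hF h
      exact ⟨_, hl.ch hF, h1 V ρ l hl⟩
    push Not at h
    obtain ⟨N, h3, h4, h5⟩ := h
    have h6 := N.finrank_quotient_add_finrank
    have h7 := Submodule.finrank_lt h5
    have h8 : finrank K3 N ≠ 0 := by rwa [Ne, Submodule.finrank_eq_zero]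
    obtain ⟨A, a1, a2⟩ := ih _ (by omega) N (ρ.subrepresentation N h3) rfl
    obtain ⟨B, b1, b2⟩ := ih _ (by omega) (V ⧸ N) (ρ.quotient N h3) rfl
    exact ⟨_, a1.add b1, h2 V ρ N h3 A B a1 b1 a2 b2⟩

theorem exists_ch (ι : F →+* K3) (hF : Fintype.card F = 81) (σ : Representation K3 SL(2, F) M) :
    ∃ A, Ch ι σ A :=
  (Mod.ind ι hF (fun _ _ _ _ _ _ => True) (fun _ _ _ _ _ _ => trivial) (fun _ _ _ _ _ _ _ => trivial)
    (fun _ _ _ _ _ _ _ _ _ _ _ _ _ => trivial) M σ).imp fun _ h => h.1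

theorem ch_ind (hF : Fintype.card F = 81) (P : ∀ (M : Type) [AddCommGroup M] [Module K3 M]
      [FiniteDimensional K3 M], Representation K3 SL(2, F) M → Multiset ℕ → Prop)
    (h0 : ∀ (M : Type) [AddCommGroup M] [Module K3 M] [FiniteDimensional K3 M] [Subsingleton M]
      (σ : Representation K3 SL(2, F) M), P M σ 0)
    (h1 : ∀ (M : Type) [AddCommGroup M] [Module K3 M] [FiniteDimensional K3 M]
      (σ : Representation K3 SL(2, F) M) (l : ℕ), Model ι σ l → P M σ {l})
    (h2 : ∀ (M : Type) [AddCommGroup M] [Module K3 M] [FiniteDimensional K3 M]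
      (σ : Representation K3 SL(2, F) M) (N : Submodule K3 M) (hN : ∀ g, N ≤ N.comap (σ g))
      (A B : Multiset ℕ), Ch ι (σ.subrepresentation N hN) A → Ch ι (σ.quotient N hN) B →
        P N (σ.subrepresentation N hN) A → P (M ⧸ N) (σ.quotient N hN) B → P M σ (A + B)) {A : Multiset ℕ} (h : Ch ι σ A) : P M σ A := by
  obtain ⟨B, b1, b2⟩ := Mod.ind ι hF P h0 h1 h2 M σ
  rwa [h.uniq hF b1]

theorem Ch.even (hF : Fintype.card F = 81) {A : Multiset ℕ} (h : Ch ι σ A) (h1 : σ (-1) = 1) :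
    ∀ l ∈ A, l % 2 = 0 := fun l hl => by
  have h8 : Eig ι (-1 : SL(2, F)) (-1) :=
    ⟨by simp, ![1, 0], ![0, 1], by simp, by
      ext i
      fin_cases i <;> simp [mulVec, dotProduct], by
      ext i
      fin_cases i <;> simp [mulVec, dotProduct]⟩
  have a1 := h.roots E82.Mod.eig_one (one_pow _)
  have a2 := h.roots h8 (by norm_num)
  rw [h1] at a2
  rw [map_one] at a1
  have h0 : 3280 + l ∈ WW A := Multiset.mem_bind.2 ⟨l, hl, by
    rw [wts, ← Multiset.map_coe, ← JJ_eq (h.1 l hl)]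
    exact Multiset.mem_map.2 ⟨0, mem_JJ.2 (by simp), by simp⟩⟩
  obtain ⟨j, -, a4⟩ := Multiset.mem_map.1 (Multiset.mem_of_le (a2.symm.trans a1).le
    (Multiset.mem_map_of_mem _ h0))
  have : Fact (2 < 3) := ⟨by norm_num⟩
  have := Nat.even_iff.1 ((neg_one_pow_eq_one_iff_even (R := K3) (CharP.neg_one_ne_one _ 3)).1
    (a4.symm.trans (one_pow _)))
  omega

theorem Ch.roots_half {A : Multiset ℕ} (h : Ch ι σ A) (he : ∀ l ∈ A, l % 2 = 0) {g : SL(2, F)} {η : K3}
    (hg : Eig ι g η) (hη : η ^ 3280 = 1) : (σ g).charpoly.roots = (HW A).map ((η ^ 2) ^ ·) := by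
  rw [h.roots hg hη, WW_eq fun l hl => ⟨h.1 l hl, he l hl⟩, Multiset.map_map]
  exact Multiset.map_congr rfl fun w _ => pow_mul η 2 w

end Cfsg.Agent.L81
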