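import Mathlib
import Cfsg.Agent.L81.Defs

/-!
# The feasible decompositions
-/

set_option autoImplicit false
set_option maxRecDepth 100000

namespace Cfsg.Agent.L81

open Cfsg.Lie Cfsg.Lie.ChevalleyDatum Cfsg.Agent.Chev Cfsg.Agent.Chev.S2M Cfsg.Agent.Chev.Chk Matrix
  MatrixGroups Polynomial Module
open Kac (K3 pw js)
open FV (G0)

namespace Srch

open Kac

/-- An orbit of the twist. -/
def orb (x : ℕ × ℕ) : List ℕ := (List.range x.2).map (rot^[·] x.1)

/-- The sum over an orbit. -/
def osum (g : ℕ → ℕ) (x : ℕ × ℕ) : ℕ := ((orb x).map g).sum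

/-- The orbits on the nonzero even highest weights. -/
def rp : List (ℕ × ℕ) := [(30, 2), (76, 4), (78, 4), (80, 1), (70, 2), (66, 4), (48, 4), (42, 4), (72, 4),
  (60, 2), (36, 4), (40, 1), (54, 4)]

/-- The dimension. -/
def dm (l : ℕ) : ℕ := (hw l).length

theorem rp_ok : (0 :: rp.flatMap orb).Nodup ∧ (∀ l < 81, l % 2 = 0 → l ∈ 0 :: rp.flatMap orb) ∧
    (∀ x ∈ rp, x.1 < 81 ∧ 0 < osum dm x) ∧ (∀ l < 81, rot l < 81 ∧ 0 < dm l) ∧
    ∀ a < 81, ∀ b < 81, rot a = rot b → a = b := by decide +kernel

theorem sum_orb {A : Multiset ℕ} (hA : ∀ l ∈ A, l < 81 ∧ l % 2 = 0) (h3 : A.map rot = A)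
    (g : ℕ → ℕ) : (A.map g).sum = (rp.map fun x => A.count x.1 * osum g x).sum + A.count 0 * g 0 := by
  obtain ⟨o1, o2, o3, o4, o5⟩ := rp_ok
  have h4 : ∀ k, ∀ l < 81, rot^[k] l < 81 ∧ A.count (rot^[k] l) = A.count l := fun k l hl => by
    induction k with
    | zero => exact ⟨hl, rfl⟩
    | succ k ih =>
      rw [Function.iterate_succ_apply', ← ih.2]
      refine ⟨(o4 _ ih.1).1, ?_⟩
      conv_lhs => rw [← h3]
      simpa using count_map_eq {rot^[k] l} (by simp) fun w hw e => by
        simp [o5 _ ih.1 _ (hA w hw).1 e]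
  rw [Finset.sum_multiset_map_count,
    Finset.sum_subset (s₂ := (0 :: rp.flatMap orb).toFinset) (fun l hl => List.mem_toFinset.2
      (o2 l (hA l (Multiset.mem_toFinset.1 hl)).1 (hA l (Multiset.mem_toFinset.1 hl)).2))
      fun l _ hl => by simpa using .inl (by simpa using hl), List.sum_toFinset _ o1, List.map_cons,
    List.sum_cons, add_comm, List.map_flatMap, List.flatMap_def, List.sum_flatten, List.map_map, smul_eq_mul]
  refine congrArg (· + _) (congrArg List.sum (List.map_congr_left fun x hx => ?_))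
  simp only [Function.comp_apply, osum, orb, List.map_map]
  rw [← List.sum_map_mul_left]
  refine congrArg List.sum (List.map_congr_left fun k _ => ?_)
  simp only [(h4 k _ (o3 x hx).1).2, Function.comp_def, smul_eq_mul]

/-- The packed data of a weight. -/
def fw (w : ℕ) : ℕ := 257 ^ (w % 8) + 257 ^ 8 * (257 ^ (w % 10) + 257 ^ 10 * 257 ^ (w % 20))

/-- The packed data of a simple module. -/
def gl (l : ℕ) : ℕ := ((hw l).map fw).sum + 257 ^ 38 * 257 ^ l

/-- The code of a list. -/
def code (L : List ℕ) : ℕ := (L.map (257 ^ ·)).sum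

/-- A quick filter. -/
def flt (a : ℕ) : Bool := Nat.beq (Nat.mod (Nat.shiftRight
  0x4000000000000000000000000000008200000000000000200000000000000000000000010000010000000000000010000000000000000000000000000800000000020000000000000000000000000000000000000000001000000001000020000000040000000000000000000000002000000000001000000002000
  (Nat.mod a 1021)) 2) 1

/-- The final test. -/
noncomputable def QQ (t : ℕ) : Bool := force (Nat.mod t 19031147999601100801) fun a =>
  cond (flt a) (cond (memN L8 a)
    (force (Nat.mod (Nat.div t (pw 8)) (pw 10)) fun a => cond (memN L10 a)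
      (force (Nat.mod (Nat.div t (pw 18)) (pw 20)) fun a => cond (memN B20 a) true
        (force (Nat.div t (pw 38)) (memN (C14.map code)))) true) true) true

theorem mem_of_memN {L : List ℕ} {a : ℕ} (h : memN L a = true) : a ∈ L := by
  induction L with
  | nil => exact absurd h (by simp [memN])
  | cons b L ih =>
    change cond (Nat.beq a b) true (memN L a) = true at h
    cases e : Nat.beq a b
    · rw [e] at h
      exact .tail _ (ih h)
    · exact Nat.eq_of_beq_eq_true e ▸ .head _

theorem QQ_spec {a b c d : ℕ} (ha : a ∈ L8) (hb : b ∈ L10) (hc : c ∉ B20) (h3 : c < 257 ^ 20)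
    (h : QQ (a + 257 ^ 8 * (b + 257 ^ 10 * c) + 257 ^ 38 * d) = true) : d ∈ C14.map code := by
  have h1 := (by decide +kernel : ∀ a ∈ L8, a < 257 ^ 8) a ha
  have h2 := (by decide +kernel : ∀ a ∈ L10, a < 257 ^ 10) b hb
  generalize ht : a + 257 ^ 8 * (b + 257 ^ 10 * c) + 257 ^ 38 * d = t at h
  have e1 : Nat.mod t 19031147999601100801 = a := show t % 19031147999601100801 = a by omega
  have e2 : Nat.mod (Nat.div t (pw 8)) (pw 10) = b := show t / 257 ^ 8 % 257 ^ 10 = b by omega
  have e3 : Nat.mod (Nat.div t (pw 18)) (pw 20) = c := show t / 257 ^ 18 % 257 ^ 20 = c by omega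
  have e4 : Nat.div t (pw 38) = d := show t / 257 ^ 38 = d by omega
  have e5 : memN B20 c = false := Bool.eq_false_iff.2 fun e => hc (mem_of_memN e)
  rw [QQ, force_eq, force_eq, force_eq, force_eq, e1, e2, e3, e4, memN_of ha, memN_of hb, e5,
    (by decide +kernel : ∀ a ∈ L8, flt a = true) a ha] at h
  exact mem_of_memN h

/-- The search over all twist-invariant multisets, for a range of multiplicities of the first orbit. -/
noncomputable def part (lo n : ℕ) : Bool :=
  force (gl 0) fun z => force (osum gl (30, 2)) fun V => forceT (rp.tail.map fun x => [osum dm x, osum gl x])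
    fun T => allLt n fun a => force (Nat.sub 248 (Nat.mul (Nat.add lo a) 8)) fun r =>
      force (Nat.mul (Nat.add lo a) V) (mulS (fun e s => force (Nat.add s (Nat.mul e z)) QQ) T r)

theorem part0 : part 0 1 = true := by decide +kernel
theorem part1 : part 1 1 = true := by decide +kernel
theorem part2 : part 2 1 = true := by decide +kernel
theorem part3 : part 3 1 = true := by decide +kernel
theorem part4 : part 4 2 = true := by decide +kernel
theorem part6 : part 6 3 = true := by decide +kernel
theorem part9 : part 9 23 = true := by decide +kernel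

theorem part_spec {lo n a : ℕ} (h : part lo n = true) (h1 : lo ≤ a) (h2 : a < lo + n) :
    mulS (fun e s => force (Nat.add s (Nat.mul e (gl 0))) QQ) (rp.tail.map fun x => [osum dm x, osum gl x])
      (248 - a * 8) (a * osum gl (30, 2)) = true := by
  obtain ⟨k, rfl⟩ := Nat.exists_eq_add_of_le h1
  rw [part, force_eq, force_eq, forceT_eq] at h
  have := allLt_iff.1 h k (by omega)
  rwa [force_eq, force_eq] at this

theorem srch_ok {a : ℕ} (h : a < 32) :
    mulS (fun e s => force (Nat.add s (Nat.mul e (gl 0))) QQ) (rp.tail.map fun x => [osum dm x, osum gl x])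
      (248 - a * 8) (a * osum gl (30, 2)) = true := by
  rcases (by omega : a = 0 ∨ a = 1 ∨ a = 2 ∨ a = 3 ∨ (4 ≤ a ∧ a < 6) ∨ (6 ≤ a ∧ a < 9) ∨ 9 ≤ a) with
    e | e | e | e | e | e | e
  · exact part_spec part0 (by omega) (by omega)
  · exact part_spec part1 (by omega) (by omega)
  · exact part_spec part2 (by omega) (by omega)
  · exact part_spec part3 (by omega) (by omega)
  · exact part_spec part4 (by omega) (by omega)
  · exact part_spec part6 (by omega) (by omega)
  · exact part_spec part9 (by omega) (by omega)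

theorem sum_HW (A : Multiset ℕ) (f : ℕ → ℕ) : ((HW A).map f).sum = (A.map fun l => ((hw l).map f).sum).sum := by
  rw [HW, Multiset.map_bind, Multiset.sum_bind]
  simp only [Multiset.map_coe, Multiset.sum_coe]

theorem card_HW (A : Multiset ℕ) : (HW A).card = (A.map dm).sum := by
  rw [HW, Multiset.card_bind]
  rfl

theorem srch_spec {A : Multiset ℕ} (hA : ∀ l ∈ A, l < 81 ∧ l % 2 = 0) (h3 : A.map rot = A)
    (h4 : (HW A).card = 248) :
    QQ (((HW A).map fw).sum + 257 ^ 38 * (A.map (257 ^ ·)).sum) = true := by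
  have e : ∀ g : ℕ → ℕ, (A.map g).sum = A.count 30 * osum g (30, 2) +
      (rp.tail.map fun x => A.count x.1 * osum g x).sum + A.count 0 * g 0 := fun g => sum_orb hA h3 g
  have h5 := e dm
  rw [← card_HW, h4, show dm 0 = 1 from rfl, mul_one, show osum dm (30, 2) = 8 by decide +kernel] at h5
  have := mulS_spec (fun x => A.count x.1) (fun x hx => (rp_ok.2.2.1 x (List.mem_of_mem_tail hx)).2)
    (srch_ok (a := A.count 30) (by omega)) (e := A.count 0) (by omega)
  rw [force_eq, Nat.add_eq, Nat.mul_eq, ← e] at this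
  rwa [sum_HW, ← Multiset.sum_map_mul_left, ← Multiset.sum_map_add]

theorem sum_fw (W : Multiset ℕ) :
    (W.map fw).sum = hist 8 W + 257 ^ 8 * (hist 10 W + 257 ^ 10 * hist 20 W) := by
  rw [hist, hist, hist, ← Multiset.sum_map_mul_left, ← Multiset.sum_map_add, ← Multiset.sum_map_mul_left,
    ← Multiset.sum_map_add]
  rfl

theorem hist_lt {W : Multiset ℕ} (h : W.card = 248) : hist 20 W < 257 ^ 20 := by
  have := Multiset.sum_le_card_nsmul (W.map fun w => 257 ^ (w % 20)) (257 ^ 19) fun x hx => by
    obtain ⟨w, -, rfl⟩ := Multiset.mem_map.1 hx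
    exact Nat.pow_le_pow_right (by norm_num) (by omega)
  rw [Multiset.card_map, h, smul_eq_mul] at this
  exact this.trans_lt (by norm_num)

end Srch

open Srch in
theorem srch {A : Multiset ℕ} (hA : ∀ l ∈ A, l < 81 ∧ l % 2 = 0) (h1 : A.map rot = A) (h2 : (HW A).card = 248)
    (h8 : hist 8 (HW A) ∈ L8) (h10 : hist 10 (HW A) ∈ L10) (h20 : hist 20 (HW A) ∉ B20) :
    ∃ L ∈ C14, A = (L : Multiset ℕ) := by
  have h5 := srch_spec hA h1 h2
  rw [sum_fw] at h5
  obtain ⟨L, hL, e⟩ := List.mem_map.1 (QQ_spec h8 h10 h20 (hist_lt h2) h5)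
  have hc : A.card < 257 := by
    have := Multiset.card_nsmul_le_sum (s := A.map dm) (a := 1) fun d hd => by
      obtain ⟨l, hl, rfl⟩ := Multiset.mem_map.1 hd
      exact (rp_ok.2.2.2.1 l (hA l hl).1).2
    rw [← card_HW, h2, Multiset.card_map, smul_eq_mul] at this
    omega
  exact ⟨L, hL, Kac.pack_inj hc (by simpa using (by decide +kernel : ∀ L ∈ C14, L.length < 257) L hL)
    (by simpa [code] using e.symm)⟩

end Cfsg.Agent.L81
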