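import Mathlib
import Cfsg.Agent.L81.Defs
import Cfsg.Agent.L81.Wt
import Cfsg.Agent.L81.Mod
import Cfsg.Agent.L81.Frm
import Cfsg.Agent.L81.K8
import Cfsg.Agent.L81.K20
import Cfsg.Agent.L81.K40a
import Cfsg.Agent.L81.K40b
import Cfsg.Agent.L81.K40c
import Cfsg.Agent.L81.K40d
import Cfsg.Agent.L81.K41
import Cfsg.Agent.L81.Srch

set_option autoImplicit false

namespace Cfsg.Agent.L81

open Cfsg.Lie Cfsg.Lie.ChevalleyDatum Cfsg.Agent.Chev Cfsg.Agent.Chev.S2M Cfsg.Agent.Chev.Chk Matrix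
  MatrixGroups Polynomial Module
open Kac (K3 pw js)
open FV (G0)

namespace Cases

theorem tab : ∀ L ∈ C14, L = L9 ∨ ∃ p ∈ T40, p.1 = hist 40 (HW (L : Multiset ℕ)) ∧ ∀ s ∈ p.2,
    s ∈ SR ∨ (L = L1 ∧ s = s1) ∨ (L = L2 ∧ s = s2) ∨ (L = L3 ∧ s = s3) ∨ (L = L7 ∧ s = s7) := by
  decide +kernel

theorem tab9 : hist 41 (HW (L9 : Multiset ℕ)) = H41 := by decide +kernel

theorem k40 {s : List ℕ} (hs : s.length = 8) (hd : dotL ms8 s ≤ 40) :
    ∀ p ∈ T40, hT 40 s = p.1 → s ∈ p.2 := fun p hp => by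
  rw [← List.take_append_drop 4 T40, ← List.take_append_drop 4 (T40.drop 4), List.drop_drop,
    ← List.take_append_drop 4 (T40.drop (4 + 4)), List.drop_drop] at hp
  simp only [List.mem_append] at hp
  rcases hp with hp | hp | hp | hp
  exacts [k40a hs hd p hp, k40b hs hd p hp, k40c hs hd p hp, k40d hs hd p hp]

theorem frame {m : ℕ} (hm : m ∣ 1640) {ξ : K3} (hξ : IsPrimitiveRoot ξ m) {x : G0} (hx : orderOf x = m)
    {W : Multiset ℕ} (hW : ev x = W.map (ξ ^ ·)) :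
    ∃ s : List ℕ, s.length = 8 ∧ dotL ms8 s ≤ m ∧ hist m W = hT m s := by
  obtain ⟨u, rfl⟩ := hξ.isUnit (by rintro rfl; simp at hm)
  obtain ⟨g, f, s, e⟩ := exists_frame hm (IsPrimitiveRoot.coe_units_iff.1 hξ) (hx ▸ pow_orderOf_eq_one x)
  exact ⟨s, e.len, e.alc, e.hist_eq hm hW⟩

end Cases

variable {F : Type*} [Field F] [Fintype F] {ι : F →+* K3}

theorem ch_cases (hF : Fintype.card F = 81) {φ : SL(2, F) →* G0}
    (hφ : ∀ s, φ s = 1 ↔ s ∈ Subgroup.center SL(2, F)) {A : Multiset ℕ} (h : Ch ι (rep φ) A) {a : Fˣ}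
    (ha : orderOf a = 80) {ξ : K3ˣ} (hξ : (ξ : K3) = ι ((a⁻¹ ^ 2 : Fˣ) : F)) {g : GG} {f : Lat →+ ℤ} {s : List ℕ}
    (e : Frame (φ (bb a 0)) ξ 40 g f s) :
    s ∈ SR ∨ (A = L1 ∧ s = s1) ∨ (A = L2 ∧ s = s2) ∨ (A = L3 ∧ s = s3) ∨ (A = L7 ∧ s = s7) := by
  have he : ∀ l ∈ A, l % 2 = 0 := h.even hF (by
    rw [rep, MonoidHom.comp_apply, (hφ _).2 (Subgroup.mem_center_iff.2 fun g => by simp), map_one])
  have elt : ∀ n, 2 < n → n ∣ 80 ∨ n ∣ 82 → ∃ (η : K3) (g : SL(2, F)), IsPrimitiveRoot η n ∧ Eig ι g η ∧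
      η ^ 3280 = 1 := fun n h1 hn => by
    have hd : n ∣ 3280 := hn.elim (·.trans (by norm_num)) (·.trans (by norm_num))
    obtain ⟨η, hη⟩ := exists_root (n := n) fun k => absurd (k.trans hd) (by norm_num)
    obtain ⟨c, hc, -⟩ := exists_elt ι hF h1 hn hη
    exact ⟨η, _, hη, hc, (hη.pow_eq_one_iff_dvd _).2 hd⟩
  have key : ∀ m, 1 < m → 2 * m ∣ 80 ∨ 2 * m ∣ 82 → ∃ (ζ : K3) (x : G0), IsPrimitiveRoot ζ m ∧ orderOf x = m ∧
      ev x = (HW A).map (ζ ^ ·) := fun m h1 hn => by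
    obtain ⟨η, g, hη, hg, h2⟩ := elt (2 * m) (by omega) hn
    have h3 := hη.pow (by omega) (rfl : 2 * m = 2 * m)
    have h4 : ∀ k, φ g ^ k = 1 ↔ m ∣ k := fun k => by
      rw [← map_pow, hφ, Kac.eig_center (Kac.eig_pow hg k), ← pow_mul, mul_comm, pow_mul, h3.pow_eq_one_iff_dvd]
    exact ⟨η ^ 2, φ g, h3, Nat.dvd_antisymm (orderOf_dvd_of_pow_eq_one ((h4 m).2 dvd_rfl))
      ((h4 _).1 (pow_orderOf_eq_one _)), (charpoly_rep φ g).symm.trans (h.roots_half he hg h2)⟩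
  have hr : A.map rot = A := rot_inv h.1 fun n hn => by
    have h12 : 2 < n ∧ (n ∣ 80 ∨ n ∣ 82) := by
      simp only [List.mem_cons, List.not_mem_nil, or_false] at hn
      rcases hn with rfl | rfl
      exacts [⟨by norm_num, .inl dvd_rfl⟩, ⟨by norm_num, .inr dvd_rfl⟩]
    obtain ⟨η, g, a1, hg, h2⟩ := elt n h12.1 h12.2
    have a2 := (charpoly_rep φ g).symm.trans (h.roots hg h2)
    have a3 := ev_frob (φ g)
    rw [a2, Multiset.map_map] at a3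
    simpa using Kac.map_mod_eq (by omega) a1 (A := (WW A).map (3 * ·)) (B := WW A)
      (by rw [← a3]; simp [← pow_mul, mul_comm])
  obtain ⟨ξ8, x8, a1, a2, a3⟩ := key 8 (by norm_num) (.inl (by norm_num))
  obtain ⟨ξ10, x10, b1, b2, b3⟩ := key 10 (by norm_num) (.inl (by norm_num))
  obtain ⟨ξ20, x20, c1, c2, c3⟩ := key 20 (by norm_num) (.inl (by norm_num))
  obtain ⟨s20, c4, c5, c6⟩ := Cases.frame (by norm_num) c1 c2 c3
  obtain ⟨L, hL, rfl⟩ := srch (fun l hl => ⟨h.1 l hl, he l hl⟩) hr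
    (by rw [← card_ev x8, a3, Multiset.card_map]) (kac8 a1 a2 a3) (kac10 b1 b2 b3) (c6 ▸ k20 c4 c5)
  rcases Cases.tab L hL with rfl | ⟨p, hp, p1, p2⟩
  · obtain ⟨ξ41, x41, d1, d2, d3⟩ := key 41 (by norm_num) (.inr (by norm_num))
    obtain ⟨s41, d4, d5, d6⟩ := Cases.frame (by norm_num) d1 d2 d3
    exact absurd (d6.symm.trans Cases.tab9) (k41 d4 d5)
  have h1 : ι ((a⁻¹ : Fˣ) : F) ^ 3280 = 1 := by
    rw [← map_pow, ← Units.val_pow_eq_pow_val, inv_pow,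
      orderOf_dvd_iff_pow_eq_one.1 (ha ▸ by norm_num : orderOf a ∣ 3280), inv_one, Units.val_one, map_one]
  have h2 := (charpoly_rep φ _).symm.trans (h.roots_half he (eig_bb ι a) h1)
  rw [← map_pow, ← Units.val_pow_eq_pow_val, ← hξ] at h2
  have h3 := p2 s (Cases.k40 e.len e.alc p hp ((e.hist_eq (by norm_num) h2).symm.trans p1.symm))
  exact h3.imp_right (Or.imp (And.imp_left (congrArg _)) (Or.imp (And.imp_left (congrArg _))
    (Or.imp (And.imp_left (congrArg _)) (And.imp_left (congrArg _)))))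

end Cfsg.Agent.L81
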