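import Mathlib
import Cfsg.Agent.L81.Defs
import Cfsg.Agent.KFI.ExcT

/-!
# Elements of the Weyl group that twist a torus element
-/

set_option autoImplicit false

namespace Cfsg.Agent.L81

open Cfsg.Lie Cfsg.Lie.ChevalleyDatum Cfsg.Agent.Chev Cfsg.Agent.Chev.Chk
open Kac (forceT forceT_eq)

/-- The value of a root. -/
def vl (s : List ℕ) (r : ℕ) : ℤ := sumLt chevE8.rank fun i => Int.mul (cwE8 r i) (Int.ofNat (nth s i))

/-- The value of a functional on a root. -/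
def evZ (d : List ℤ) (r : ℕ) : ℤ := sumLt chevE8.rank fun i => Int.mul (nthZ d i) (wtE8 r i)

/-- The functional with given coefficients. -/
def lfZ (d : List ℤ) : Lat →+ ℤ where
  toFun x := ∑ i : chevE8.Nd, nthZ d i * x i
  map_zero' := by simp
  map_add' x y := by simp [mul_add, Finset.sum_add_distrib]

/-- The pairing of two roots. -/
def pr (r s : ℕ) : ℤ := sumLt chevE8.rank fun i => Int.mul (cwE8 r i) (wtE8 s i)

/-- The simple roots. -/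
def sm (i : ℕ) : ℕ := nth [162, 141, 135, 130, 126, 123, 121, 120] i

theorem nth_getD (l : List ℕ) (i : ℕ) : nth l i = l.getD i 0 := by
  induction l generalizing i with
  | nil => rfl
  | cons a l ih => cases i; exacts [rfl, ih _]

theorem sm_eq : ∀ i : chevE8.Nd, (chevE8.sr i : ℕ) = sm i := by decide +kernel

theorem lfZ_wt (d : List ℤ) (r : Rt) : lfZ d (wt r) = evZ d r := by
  rw [evZ, sumLt_eq]
  change ∑ i : chevE8.Nd, nthZ d i * chevE8.wt r i = _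
  exact Finset.sum_congr rfl fun i _ => by rw [wtE8_eq]; rfl

theorem pr_eq (r s : Rt) : pr r s = chevE8.pairing r s := by
  rw [pr, sumLt_eq, pairing_eq_dot]
  exact Finset.sum_congr rfl fun i _ => (congrArg₂ (· * ·) (cwE8_eq r i) (wtE8_eq s i)).symm

theorem Val.dvd {m : ℕ} {f : Lat →+ ℤ} {s : List ℕ} (h : Val m f s) (r : Rt) : (m : ℤ) ∣ f (wt r) - vl s r := by
  rw [vl, sumLt_eq, wt, chevE8.wt_eq_sum_coef, map_sum, ← Finset.sum_sub_distrib]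
  refine Finset.dvd_sum fun i _ => ?_
  rw [map_zsmul, KFI.coef_E8, nth_getD]
  simpa [mul_sub] using (h i).mul_left (cwE8 r i)

theorem Val.iff {m : ℕ} {f : Lat →+ ℤ} {s : List ℕ} (h : Val m f s) (r : Rt) (a : ℤ) :
    (m : ℤ) ∣ f (wt r) - a ↔ (m : ℤ) ∣ vl s r - a := by
  simpa using dvd_iff_dvd_of_dvd_sub (b := f (wt r) - a) (c := vl s r - a) (by simpa using h.dvd r)

/-- backtracking -/
noncomputable def go (Q : ℕ → ℕ → Bool) (T : List (List ℕ)) : List (ℕ × ℕ) → Bool :=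
  List.rec (fun ch => allL ch fun p => Q p.1 p.2) (fun c _ ih ch => allL c.tail fun r =>
    !(allL ch fun p => ieq (pr r p.2) (pr (sm (c.headD 0)) (sm p.1))) || ih ((c.headD 0, r) :: ch)) T

theorem go_spec {Q : ℕ → ℕ → Bool} {g : ℕ → ℕ} (hg : ∀ i < 8, ∀ j < 8, pr (g i) (g j) = pr (sm i) (sm j))
    {T : List (List ℕ)} (hT : ∀ c ∈ T, c.headD 0 < 8 ∧ g (c.headD 0) ∈ c.tail) {ch : List (ℕ × ℕ)}
    (hc : ∀ p ∈ ch, p.1 < 8 ∧ p.2 = g p.1) (h : go Q T ch = true) :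
    (∀ c ∈ T, Q (c.headD 0) (g (c.headD 0)) = true) ∧ ∀ p ∈ ch, Q p.1 p.2 = true := by
  induction T generalizing ch with
  | nil => exact ⟨by simp, allL_iff.1 h⟩
  | cons c T ih =>
    have h1 := hT c List.mem_cons_self
    have h2 := allL_iff.1 h _ h1.2
    have h5 : (allL ch fun p => ieq (pr (g (c.headD 0)) p.2) (pr (sm (c.headD 0)) (sm p.1))) = true :=
      allL_iff.2 fun p hp => decide_eq_true (by rw [(hc p hp).2, hg _ h1.1 _ (hc p hp).1])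
    rw [h5] at h2
    obtain ⟨h3, h4⟩ := ih (fun d hd => hT d (List.mem_cons_of_mem _ hd))
      (List.forall_mem_cons.2 ⟨⟨h1.1, rfl⟩, hc⟩) h2
    exact ⟨List.forall_mem_cons.2 ⟨h4 _ List.mem_cons_self, h3⟩, fun p hp => h4 p (List.mem_cons_of_mem _ hp)⟩

/-- search for the images of the simple roots -/
noncomputable def wS (s : List ℕ) (a b : ℤ) (Q : ℕ → ℕ → Bool) (N : List (List ℕ)) : Bool :=
  (allLt 8 fun i => decide (i ∈ N.flatten)) && allL N fun ns => (allL ns fun i => Nat.blt i 8) &&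
    forceT (ns.map fun i => i :: (List.range 240).filter fun r => ieq ((a * vl s r - b * vl s (sm i)) % 40) 0)
      fun T => go Q T []

theorem wS_spec {s : List ℕ} {a b : ℤ} {Q : ℕ → ℕ → Bool} {N : List (List ℕ)} (h : wS s a b Q N = true)
    {f : Lat →+ ℤ} (hf : Val 40 f s) {w : Equiv.Perm Rt} (hw : w ∈ chevE8.weyl)
    (e : ∀ r : Rt, (40 : ℤ) ∣ a * f (wt (w r)) - b * f (wt r)) (i : chevE8.Nd) : Q i (w (chevE8.sr i)) = true := by
  rw [wS, Bool.and_eq_true, allLt_iff, allL_iff] at h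
  obtain ⟨ns, h1, h2⟩ := List.mem_flatten.1 (of_decide_eq_true (h.1 i i.2))
  have h3 := h.2 ns h1
  rw [Bool.and_eq_true, allL_iff, forceT_eq] at h3
  let g : ℕ → ℕ := fun j => if h : j < 8 then w (chevE8.sr ⟨j, h⟩) else 0
  have h4 := (go_spec (g := g) (fun j hj k hk => ?_) (fun c hc => ?_) (by simp) h3.2).1 _ (List.mem_map_of_mem h2)
  · simpa [g, show (i : ℕ) < 8 from i.2] using h4
  · simp only [g, dif_pos hj, dif_pos hk]
    rw [pr_eq, chevE8.weyl_pairing hw, ← pr_eq, sm_eq, sm_eq]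
  · obtain ⟨j, hj, rfl⟩ := List.mem_map.1 hc
    have h5 : j < 8 := by simpa using h3.1 j hj
    refine ⟨h5, List.mem_filter.2 ⟨List.mem_range.2 ?_, decide_eq_true (Int.emod_eq_zero_of_dvd ?_)⟩⟩
    · simp only [g, List.headD_cons, dif_pos h5]
      exact (w _).2
    · simp only [g, List.headD_cons, dif_pos h5]
      have h6 := ((e (chevE8.sr ⟨j, h5⟩)).sub ((hf.dvd (w (chevE8.sr ⟨j, h5⟩))).mul_left a)).add
        ((hf.dvd (chevE8.sr ⟨j, h5⟩)).mul_left b)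
      rw [sm_eq] at h6
      have h7 : ∀ x y u v : ℤ, a * x - b * y - a * (x - u) + b * (y - v) = a * u - b * v := fun _ _ _ _ => by ring
      rwa [h7] at h6

variable {f : Lat →+ ℤ} {s : List ℕ} {w : Equiv.Perm Rt}

theorem reg_of (hs : s ∈ SR) (hf : Val 40 f s) (r : Rt) : ¬ (40 : ℤ) ∣ f (wt r) := fun h =>
  (by decide +kernel : ∀ s ∈ SR, ∀ r < 240, ¬ (40 : ℤ) ∣ vl s r - 0) s hs r r.2 ((hf.iff r 0).1 (by simpa using h))

theorem ng_val_eq : ∀ r : Rt, (chevE8.ng r : ℕ) = 239 - r := by decide +kernel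

theorem neg_reg (hs : s ∈ SR) (hf : Val 40 f s) (hw : w ∈ chevE8.weyl)
    (e : ∀ r : Rt, (40 : ℤ) ∣ f (wt (w r)) + f (wt r)) (r : Rt) : w r = chevE8.ng r := by
  have h : ∀ i, w (chevE8.sr i) = chevE8.ng (chevE8.sr i) := fun i => Fin.ext (by
    rw [ng_val_eq, sm_eq]
    exact Nat.eq_of_beq_eq_true (wS_spec ((by decide +kernel : ∀ s ∈ SR,
      wS s 1 (-1) (fun i r => Nat.beq r (239 - sm i)) [List.range 8] = true) s hs) hf hw (by simpa using e) i))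
  refine chevE8.wt_inj ?_
  rw [chevE8.weyl_wt_eq_sum hw, wt_ng, chevE8.wt_eq_sum_coef r, ← Finset.sum_neg_distrib]
  exact Finset.sum_congr rfl fun i _ => by rw [h, wt_ng, smul_neg]

theorem phi7 (hf : Val 40 f s7) : {r : Rt | (40 : ℤ) ∣ f (wt r)} = Φ7 := Set.ext fun r => by
  have h := hf.iff r 0
  rw [sub_zero] at h
  have h1 : ∀ r : Rt, (40 : ℤ) ∣ vl s7 r - 0 ↔ r ∈ B7 ∨ chevE8.ng r ∈ B7 := by decide +kernel
  exact h.trans (h1 r)

theorem neg7 (hf : Val 40 f s7) (hw : w ∈ chevE8.weyl)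
    (e : ∀ r : Rt, (40 : ℤ) ∣ f (wt (w r)) + f (wt r)) : ∀ β ∈ B7, w β = β ∨ w β = chevE8.ng β := fun β hβ => by
  obtain ⟨i, rfl, h⟩ := (by decide +kernel : ∀ β ∈ B7, ∃ i, chevE8.sr i = β ∧ (i : ℕ) ∈ [1, 2, 4, 6]) β hβ
  have h1 := wS_spec (by decide +kernel : wS s7 1 (-1)
    (fun i r => decide (i ∈ [1, 2, 4, 6] → r = sm i ∨ r = 239 - sm i)) [List.range 8] = true) hf hw (by simpa using e) i
  rw [Fin.ext_iff, Fin.ext_iff, ng_val_eq, sm_eq]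
  exact of_decide_eq_true h1 h

theorem inv_aux {d : List ℤ} {N : List (List ℕ)} {a b : Rt} (hf : Val 40 f s) (hw : w ∈ chevE8.weyl)
    (e : ∀ r : Rt, (40 : ℤ) ∣ 3 * f (wt (w r)) - f (wt r))
    (h : wS s 3 1 (fun i r => decide ((2 : ℤ) ∣ 3 * evZ d r - evZ d (sm i))) N = true ∧
      (∀ r < 240, (40 : ℤ) ∣ vl s r - 0 → (2 : ℤ) ∣ evZ d r) ∧ ¬ (2 : ℤ) ∣ evZ d a ∧ ¬ (2 : ℤ) ∣ evZ d b - vl s b) :
    ∃ h : Lat →+ ℤ,
    (∀ i, (2 : ℤ) ∣ 3 * h (wt (w (chevE8.sr i))) - h (ws i)) ∧ (∀ r : Rt, (40 : ℤ) ∣ f (wt r) → (2 : ℤ) ∣ h (wt r)) ∧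
      (∃ r : Rt, ¬ (2 : ℤ) ∣ h (wt r)) ∧ ∃ r : Rt, ¬ (2 : ℤ) ∣ h (wt r) - f (wt r) := by
  refine ⟨lfZ d, fun i => ?_, fun r hr => ?_, ⟨a, by rw [lfZ_wt]; exact h.2.2.1⟩, b, fun hb => h.2.2.2 ?_⟩
  · rw [ws, lfZ_wt, lfZ_wt, sm_eq]
    exact of_decide_eq_true (wS_spec h.1 hf hw (by simpa using e) i)
  · rw [lfZ_wt]
    exact h.2.1 r r.2 ((hf.iff r 0).1 (by simpa using hr))
  · rw [lfZ_wt] at hb
    simpa using hb.add (Dvd.dvd.trans (by norm_num) (hf.dvd b))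

theorem inv123 (hs : s ∈ [s1, s2, s3]) (hf : Val 40 f s) (hw : w ∈ chevE8.weyl)
    (e : ∀ r : Rt, (40 : ℤ) ∣ 3 * f (wt (w r)) - f (wt r)) : ∃ h : Lat →+ ℤ,
    (∀ i, (2 : ℤ) ∣ 3 * h (wt (w (chevE8.sr i))) - h (ws i)) ∧ (∀ r : Rt, (40 : ℤ) ∣ f (wt r) → (2 : ℤ) ∣ h (wt r)) ∧
      (∃ r : Rt, ¬ (2 : ℤ) ∣ h (wt r)) ∧ ∃ r : Rt, ¬ (2 : ℤ) ∣ h (wt r) - f (wt r) := by
  simp only [List.mem_cons, List.not_mem_nil, or_false] at hs
  rcases hs with rfl | rfl | rfl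
  · exact inv_aux (d := [0, 0, 1, 0, 1, 0, 0, 0]) (N := [[7, 6, 5, 0], [1], [2], [3], [4]]) (a := (3 : Fin 240))
      (b := (0 : Fin 240)) hf hw e (by decide +kernel)
  · exact inv_aux (d := [0, 1, 1, 0, 0, 0, 0, 0]) (N := [[0], [1], [2], [3], [4], [5], [6], [7]]) (a := (14 : Fin 240))
      (b := (3 : Fin 240)) hf hw e (by decide +kernel)
  · exact inv_aux (d := [0, 1, 1, 0, 0, 1, 0, 1]) (N := [List.range 8]) (a := (0 : Fin 240))
      (b := (0 : Fin 240)) hf hw e (by decide +kernel)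

end Cfsg.Agent.L81
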