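import Mathlib
import Cfsg.Agent.L81.Defs
import Cfsg.Agent.L81.Wsr

/-!
# Certificates for the sets of indecomposable roots
-/

set_option autoImplicit false

namespace Cfsg.Agent.L81

open Cfsg.Lie Cfsg.Lie.ChevalleyDatum Cfsg.Agent.Chev Cfsg.Agent.Chev.Chk

instance neZeroRt : NeZero chevE8.nroots := ⟨by decide⟩

namespace Cmb

/-- all roots -/
def allR (P : Rt → Bool) : Bool := allLt chevE8.nroots fun n => P (Fin.ofNat _ n)

theorem allR_spec {P : Rt → Bool} (h : allR P = true) (r : Rt) : P r = true := by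
  have := allLt_iff.1 h r r.2
  rwa [Fin.ofNat_val_eq_self] at this

/-- a separating functional -/
def KK : List ℤ := [1, 64, 4096, 262144, 16777216, 1073741824, 68719476736, 4398046511104]

/-- the vector with the values `x`, `y` is not in the monoid generated by `B` -/
noncomputable def nin (d : List ℤ) (B : List Rt) (k : ℕ) : ℤ → ℤ → Bool :=
  Nat.rec (fun _ _ => false) (fun _ ih x y => !ieq x 0 && (decide (y < 1) ||
    allL B fun v => ih (x - evZ KK v) (y - evZ d v))) k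

variable {I : Set Rt} {d : List ℤ} {A B : List Rt}

theorem cl_cases {x : Lat} (hx : x ∈ cl I) : x = 0 ∨ ∃ r ∈ I, x - wt r ∈ cl I := by
  induction hx using AddSubmonoid.closure_induction_left with
  | zero => exact .inl rfl
  | add_left y hy z hz _ =>
    obtain ⟨r, hr, rfl⟩ := hy
    exact .inr ⟨r, hr, by rwa [add_sub_cancel_left]⟩

theorem cl_pos {l : Lat →+ ℤ} (h : ∀ r ∈ I, 0 < l (wt r)) {x : Lat} (hx : x ∈ cl I) : x = 0 ∨ 0 < l x := by
  induction hx using AddSubmonoid.closure_induction_left with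
  | zero => exact .inl rfl
  | add_left y hy z hz ih =>
    obtain ⟨r, hr, rfl⟩ := hy
    have := h r hr
    rcases ih with rfl | ih
    · exact .inr (by rwa [add_zero])
    · exact .inr (by rw [map_add]; omega)

/-- `d` is positive on `B` -/
def posB (d : List ℤ) (B : List Rt) : Bool := allL B fun v => decide (0 < evZ d v)

theorem nin_spec (hB : ∀ r ∈ I, r ∈ B) (hd : posB d B = true) {k : ℕ} {x : Lat}
    (h : nin d B k (lfZ KK x) (lfZ d x) = true) : x ∉ cl I := fun hx => by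
  induction k generalizing x with
  | zero => exact absurd h Bool.false_ne_true
  | succ k ih =>
    change (_ && (_ || _)) = true at h
    rw [Bool.and_eq_true, Bool.or_eq_true, allL_iff] at h
    have h0 : x ≠ 0 := by rintro rfl; simp [ieq] at h
    rcases h.2 with h1 | h1
    · have := (cl_pos (l := lfZ d) (fun r hr => by
        rw [lfZ_wt]; exact of_decide_eq_true (allL_iff.1 hd r (hB r hr))) hx).resolve_left h0
      have := of_decide_eq_true h1
      omega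
    · obtain ⟨r, hr, h2⟩ := (cl_cases hx).resolve_left h0
      exact ih (by rw [map_sub, map_sub, lfZ_wt, lfZ_wt]; exact h1 r (hB r hr)) h2

/-- `γ = α + β` -/
def sumOK (γ α β : Rt) : Bool := allLt 8 fun i => ieq (wtE8 γ i) (wtE8 α i + wtE8 β i)

theorem sumOK_spec {γ α β : Rt} (h : sumOK γ α β = true) : wt γ = wt α + wt β := funext fun i => by
  rw [Pi.add_apply, wt, wt, wt, wtE8_eq, wtE8_eq, wtE8_eq]
  exact of_decide_eq_true (allLt_iff.1 h i i.2)

/-- check of the decompositions of `γ` -/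
noncomputable def decOK (d : List ℤ) (A B : List Rt) (γ : Rt) (L : List (Rt × Rt)) : Bool :=
  (allL L fun p => decide (p.1 ∈ A ∧ p.2 ∈ A ∧ NN p.2 p.1 γ = -NN p.1 p.2 γ) && sumOK γ p.1 p.2) &&
    decide (γ :: (L.map Prod.fst ++ L.map Prod.snd)).Nodup && allR fun δ => decide (evZ d δ < 1) ||
      nin d B 9 (evZ KK γ - evZ KK δ) (evZ d γ - evZ d δ) || decide (δ ∈ γ :: (L.map Prod.fst ++ L.map Prod.snd)) ||
        nin d B 9 (evZ KK δ) (evZ d δ)

theorem decOK_spec (hA : ∀ r ∈ A, r ∈ I) (hB : ∀ r ∈ I, r ∈ B) (hd : posB d B = true) {γ : Rt} {L : List (Rt × Rt)}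
    (h : decOK d A B γ L = true) : Dec I γ L := by
  simp only [decOK, Bool.and_eq_true, allL_iff, decide_eq_true_eq] at h
  refine ⟨fun p hp => ⟨hA _ (h.1.1 p hp).1.1, hA _ (h.1.1 p hp).1.2.1, sumOK_spec (h.1.1 p hp).2, (h.1.1 p hp).1.2.2⟩,
    h.1.2, fun δ h1 h2 => ?_⟩
  have h3 := allR_spec h.2 δ
  simp only [Bool.or_eq_true, decide_eq_true_eq] at h3
  rcases h3 with ((h3 | h3) | h3) | h3
  · have := (cl_pos (l := lfZ d) (fun r hr => by
      rw [lfZ_wt]; exact of_decide_eq_true (allL_iff.1 hd r (hB r hr))) h1).resolve_left (chevE8.wt_ne_zero δ)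
    rw [lfZ_wt] at this
    omega
  · exact absurd h2 (nin_spec hB hd (by simpa only [map_sub, lfZ_wt] using h3))
  · exact h3
  · exact absurd h1 (nin_spec hB hd (by simpa only [lfZ_wt] using h3))

/-- Certificates. -/
inductive Tr
  | bad (l : List Rt)
  | cc (k : ℕ) (d : List ℤ) (r : Rt)
  | u1 (d : List ℤ) (α β γ : Rt)
  | bb (d : List ℤ) (γ α μ : Rt)
  | ss (d : List ℤ) (a a' b b' e e' γ₁ γ₂ γ₃ : Rt)
  | br (l r : Tr)

/-- check of a certificate -/
noncomputable def chk (s W : List ℕ) : Tr → List (List Rt) → List Rt → Bool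
  | .bad l, _, A => decide (l ≠ [] ∧ ∀ r ∈ l, r ∈ A) && allLt 8 fun i => ieq (l.map fun r : Rt => wtE8 r i).sum 0
  | .cc k d r, O, A => decide (k ∣ 80 ∧ (∀ v ∈ A ++ O.flatten, (k : ℤ) ∣ evZ d v) ∧
      (∀ i < 8, (k : ℤ) ∣ 3 * evZ d (nth W i) - evZ d (sm i)) ∧ ¬ (k : ℤ) ∣ evZ d r)
  | .u1 d α β γ, O, A => posB d (A ++ O.flatten) && decOK d A (A ++ O.flatten) γ [(α, β)] &&
      decide (¬ (3 : ℤ) ∣ NN α β γ ∧ ¬ (40 : ℤ) ∣ vl s α - vl s β)
  | .bb d γ α μ, O, A => posB d (A ++ O.flatten) && sumOK α μ γ &&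
      decide (α ∈ A ∧ chevE8.ng γ ≠ α ∧ γ ≠ α ∧ μ ≠ chevE8.ng γ ∧ ¬ (3 : ℤ) ∣ NN α (chevE8.ng γ) μ) &&
      nin d (A ++ O.flatten) 9 (0 - evZ KK γ) (0 - evZ d γ) &&
      (allR fun δ => decide (δ = γ) || nin d (A ++ O.flatten) 9 (evZ KK δ - evZ KK γ) (evZ d δ - evZ d γ)) &&
      nin d (A ++ O.flatten) 9 (evZ KK γ - evZ KK μ) (evZ d γ - evZ d μ)
  | .ss d a a' b b' e e' γ₁ γ₂ γ₃, O, A => posB d (A ++ O.flatten) &&
      decOK d A (A ++ O.flatten) γ₁ [(a, a'), (e, e')] && decOK d A (A ++ O.flatten) γ₂ [(a, b'), (b, e')] &&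
      decOK d A (A ++ O.flatten) γ₃ [(b, a'), (e, b')] &&
      decide ((∀ r ∈ [a, b, e], (40 : ℤ) ∣ vl s r - 1) ∧ (∀ r ∈ [a', b', e'], (40 : ℤ) ∣ vl s r - 9) ∧
        ¬ (3 : ℤ) ∣ NN a a' γ₁ * NN b e' γ₂ * NN e b' γ₃ + NN e e' γ₁ * NN a b' γ₂ * NN b a' γ₃)
  | .br _ _, [], _ => false
  | .br l r, o :: O, A => chk s W l O (o ++ A) && chk s W r O A

theorem chk_spec {s W : List ℕ} {f : Lat →+ ℤ} (hf : Val 40 f s) {w : Equiv.Perm Rt}
    (hW : ∀ i, (w (chevE8.sr i) : ℕ) = nth W i) {lam : Lat →+ ℤ} (h3 : ∀ r ∈ I, 0 < lam (wt r)) {t : Tr}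
    {O : List (List Rt)} (hO : ∀ o ∈ O, (∀ r ∈ o, r ∈ I) ∨ ∀ r ∈ o, r ∉ I) (hA : ∀ r ∈ A, r ∈ I)
    (hB : ∀ r ∈ I, r ∈ A ++ O.flatten) (h : chk s W t O A = true) : CC w I ∨ U1 f I ∨ BB I ∨ SS f I := by
  induction t generalizing O A with
  | bad l =>
    simp only [chk, Bool.and_eq_true, decide_eq_true_eq, allLt_iff, ieq] at h
    have h1 : (l.map wt).sum = 0 := funext fun i => by
      have h4 := map_list_sum (Pi.evalAddMonoidHom (fun _ : chevE8.Nd => ℤ) i) (l.map wt)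
      rw [List.map_map] at h4
      exact h4.trans ((congrArg List.sum (List.map_congr_left fun r _ => wtE8_eq r i)).trans (h.2 i i.2))
    have h2 := List.sum_pos (l.map (lam ∘ wt)) (List.forall_mem_map.2 fun r hr => h3 r (hA r (h.1.2 r hr)))
      (by simpa using h.1.1)
    rw [← List.map_map, ← map_list_sum, h1, map_zero] at h2
    exact absurd h2 (lt_irrefl _)
  | cc k d r =>
    simp only [chk, decide_eq_true_eq] at h
    refine .inl ⟨k, lfZ d, h.1, fun v hv => ?_, fun i => ?_, r, ?_⟩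
    · rw [lfZ_wt]; exact h.2.1 v (hB v hv)
    · rw [ws, lfZ_wt, lfZ_wt, hW, sm_eq]; exact h.2.2.1 i i.2
    · rw [lfZ_wt]; exact h.2.2.2
  | u1 d α β γ =>
    simp only [chk, Bool.and_eq_true, decide_eq_true_eq] at h
    refine .inr (.inl ⟨α, β, γ, decOK_spec hA hB h.1.1 h.1.2, h.2.1, fun e => h.2.2 ?_⟩)
    have h1 := (e.sub (hf.dvd α)).add (hf.dvd β)
    have h2 : ∀ x y u v : ℤ, x - y - (x - u) + (y - v) = u - v := fun _ _ _ _ => by ring
    rwa [h2] at h1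
  | bb d γ α μ =>
    simp only [chk, Bool.and_eq_true, decide_eq_true_eq] at h
    obtain ⟨⟨⟨⟨⟨h1, h2⟩, h4⟩, h5⟩, h6⟩, h7⟩ := h
    refine .inr (.inr (.inl ⟨γ, α, μ, hA _ h4.1, by rw [sumOK_spec h2, add_sub_cancel_right], h4.2.1, h4.2.2.1,
      h4.2.2.2.1, h4.2.2.2.2, ?_, nin_spec hB h1 (by simpa only [map_sub, lfZ_wt] using h7)⟩))
    rintro (i | δ) e
    · exact absurd e (nin_spec (x := 0 - wt γ) hB h1 (by simpa only [map_sub, lfZ_wt, map_zero] using h5))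
    · rcases Bool.or_eq_true_iff.1 (allR_spec h6 δ) with h8 | h8
      · rw [of_decide_eq_true h8]
      · exact absurd e (nin_spec (x := wt δ - wt γ) hB h1 (by simpa only [map_sub, lfZ_wt] using h8))
  | ss d a a' b b' e e' γ₁ γ₂ γ₃ =>
    simp only [chk, Bool.and_eq_true, decide_eq_true_eq] at h
    obtain ⟨⟨⟨⟨h1, h2⟩, h4⟩, h5⟩, h6⟩ := h
    exact .inr (.inr (.inr ⟨a, a', b, b', e, e', γ₁, γ₂, γ₃, decOK_spec hA hB h1 h2, decOK_spec hA hB h1 h4,
      decOK_spec hA hB h1 h5, fun r hr => (hf.iff r 1).2 (h6.1 r hr), fun r hr => (hf.iff r 9).2 (h6.2.1 r hr),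
      h6.2.2⟩))
  | br l r ihl ihr =>
    obtain _ | ⟨o, O⟩ := O
    · simp [chk] at h
    simp only [chk, Bool.and_eq_true] at h
    have h1 := List.forall_mem_cons.1 hO
    rcases h1.1 with h2 | h2
    · exact ihl h1.2 (List.forall_mem_append.2 ⟨h2, hA⟩) (fun v hv => by have := hB v hv; simp at this ⊢; tauto) h.1
    · exact ihr h1.2 hA (fun v hv => by have := hB v hv; have := mt (h2 v) (not_not.2 hv); simp at *; tauto) h.2

/-- `b` is the image of `a` -/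
def img (W : List ℕ) (a b : Rt) : Bool := allLt 8 fun i =>
  ieq (wtE8 b i) (sumLt chevE8.rank fun j => Int.mul (cwE8 a j) (wtE8 (nth W j) i))

theorem img_spec {W : List ℕ} {w : Equiv.Perm Rt} (hw : w ∈ chevE8.weyl) (hW : ∀ i, (w (chevE8.sr i) : ℕ) = nth W i)
    {a b : Rt} (h : img W a b = true) : w a = b := chevE8.wt_inj (funext fun i => by
  rw [chevE8.weyl_wt_eq_sum hw, Finset.sum_apply, wtE8_eq, of_decide_eq_true (allLt_iff.1 h i i.2), sumLt_eq]
  exact Finset.sum_congr rfl fun j _ => by rw [Pi.smul_apply, KFI.coef_E8, wtE8_eq, hW]; rfl)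

/-- the whole check -/
noncomputable def top (s W : List ℕ) (O : List (Rt × Rt × Rt × Rt)) (t : Tr) : Bool :=
  wS s 3 1 (fun i r => Nat.beq r (nth W i)) [List.range 8] &&
    (allL O fun o => img W o.1 o.2.1 && img W o.2.1 o.2.2.1 && img W o.2.2.1 o.2.2.2 && img W o.2.2.2 o.1) &&
    (allR fun r => decide ((∃ i < 4, (40 : ℤ) ∣ vl s r - 3 ^ i) →
      r ∈ (O.map fun o => [o.1, o.2.1, o.2.2.1, o.2.2.2]).flatten)) &&
    chk s W t (O.map fun o => [o.1, o.2.1, o.2.2.1, o.2.2.2]) []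

theorem top_spec {s W : List ℕ} {O : List (Rt × Rt × Rt × Rt)} {t : Tr} (h : top s W O t = true) {f : Lat →+ ℤ}
    (hf : Val 40 f s) {w : Equiv.Perm Rt} (hw : w ∈ chevE8.weyl)
    (h0 : ∀ r : Rt, (40 : ℤ) ∣ 3 * f (wt (w r)) - f (wt r)) (h1 : ∀ r ∈ I, w r ∈ I)
    (h2 : ∀ r ∈ I, ∃ i < 4, (40 : ℤ) ∣ f (wt r) - 3 ^ i) {lam : Lat →+ ℤ} (h3 : ∀ r ∈ I, 0 < lam (wt r)) :
    CC w I ∨ U1 f I ∨ BB I ∨ SS f I := by
  simp only [top, Bool.and_eq_true, allL_iff] at h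
  have hW : ∀ i, (w (chevE8.sr i) : ℕ) = nth W i := fun i =>
    Nat.eq_of_beq_eq_true (wS_spec h.1.1.1 hf hw (by simpa using h0) i)
  refine chk_spec hf hW h3 (List.forall_mem_map.2 fun o ho => ?_) (by simp) (fun r hr => ?_) h.2
  · obtain ⟨⟨⟨a, b⟩, c⟩, e⟩ := h.1.1.2 o ho
    have a := h1 o.1; have b := h1 o.2.1; have c := h1 o.2.2.1; have e := h1 o.2.2.2
    rw [img_spec hw hW ‹_›] at a b c e
    simp only [List.forall_mem_cons, List.not_mem_nil, false_imp_iff, implies_true, and_true]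
    tauto
  · exact of_decide_eq_true (allR_spec h.1.2 r) ((h2 r hr).imp fun i hi => ⟨hi.1, (hf.iff r _).1 hi.2⟩)

end Cmb

end Cfsg.Agent.L81
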