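import Mathlib
import Cfsg.Agent.L81.Defs
import Cfsg.Agent.L81.CmbA

set_option autoImplicit false

namespace Cfsg.Agent.L81

open Cfsg.Lie Cfsg.Lie.ChevalleyDatum Cfsg.Agent.Chev

namespace Cmb

/-- certificate -/
def t0 : Tr :=
  .br (.br (.br (.bad [123, 57, 175, 137, 120, 35, 172, 143]) (.br (.br (.bad [130, 232, 159, 147, 126, 44, 2,
  162]) (.br (.bad [135, 49, 184, 132, 120, 35, 172, 143]) (.bb [0, 0, -1, -1, 0, 0, 1, 1] 55 44 106))) (.br (.br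
  (.bad [135, 49, 184, 132, 120, 35, 172, 143]) (.u1 [4, 8, 9, 15, 12, 10, 9, 5] 130 172 176)) (.br (.bad [135, 49,
  184, 132, 120, 35, 172, 143]) (.bb [0, 0, -1, -1, 0, 0, 1, 1] 51 121 189))))) (.br (.bad [123, 57, 175, 137, 120,
  35, 172, 143]) (.br (.br (.bad [130, 232, 159, 147, 126, 44, 2, 162]) (.br (.bad [135, 49, 184, 132, 120, 35,
  172, 143]) (.bb [0, 0, -1, -1, 0, 0, 1, 1] 2 35 203))) (.br (.br (.bad [135, 49, 184, 132, 120, 35, 172, 143])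
  (.u1 [4, 8, 9, 15, 12, 10, 9, 5] 130 172 176)) (.cc 2 [0, 0, 1, 0, 0, 1, 0, 0] 2))))) (.br (.br (.br (.bad [126,
  44, 2, 162, 123, 57, 175, 137, 123, 57, 175, 137, 121, 233, 158, 125]) (.br (.br (.br (.bad [141, 48, 168, 128,
  135, 49, 184, 132]) (.u1 [4, 8, 11, 17, 12, 10, 7, 3] 125 184 187)) (.br (.bad [141, 48, 168, 128, 123, 57, 175,
  137]) (.u1 [4, 8, 11, 17, 12, 10, 7, 3] 123 57 59))) (.br (.br (.bad [141, 48, 168, 128, 135, 49, 184, 132]) (.u1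
  [4, 8, 11, 17, 12, 10, 7, 3] 125 184 187)) (.br (.bad [141, 48, 168, 128, 123, 57, 175, 137]) (.u1 [4, 8, 11, 17,
  12, 10, 7, 3] 123 57 59))))) (.br (.br (.bad [130, 232, 159, 147, 126, 44, 2, 162]) (.br (.bad [135, 49, 184,
  132, 135, 49, 184, 132, 126, 44, 2, 162, 121, 233, 158, 125]) (.u1 [0, 0, -1, -1, 0, 0, 1, 1] 2 233 101))) (.br
  (.br (.br (.bad [141, 48, 168, 128, 135, 49, 184, 132]) (.u1 [4, 8, 11, 17, 12, 10, 7, 3] 135 49 59)) (.br (.u1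
  [4, 8, 9, 15, 12, 10, 9, 5] 141 168 173) (.cc 2 [0, 0, 0, 1, 0, 1, 1, 1] 0))) (.br (.br (.bad [141, 48, 168, 128,
  135, 49, 184, 132]) (.u1 [4, 8, 11, 17, 12, 10, 7, 3] 135 49 59)) (.cc 5 [2, 3, 0, 1, 3, 2, 4, 1] 0))))) (.br
  (.br (.br (.bad [130, 232, 159, 147, 126, 44, 2, 162]) (.br (.br (.bad [141, 48, 168, 128, 135, 49, 184, 132])
  (.u1 [-4, -8, -9, -15, -12, -10, -9, -5] 184 44 106)) (.br (.bad [141, 48, 168, 128, 123, 57, 175, 137]) (.u1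
  [-4, -8, -9, -15, -12, -10, -9, -5] 123 57 59)))) (.br (.br (.br (.bad [141, 48, 168, 128, 135, 49, 184, 132])
  (.bb [0, 0, 1, 1, 0, 0, -1, -1] 28 49 144)) (.br (.bad [141, 48, 168, 128, 123, 57, 175, 137]) (.u1 [0, 0, 1, 1,
  0, 0, -1, -1] 137 175 194))) (.cc 2 [0, 0, 1, 0, 0, 1, 0, 0] 2))) (.br (.br (.bad [130, 232, 159, 147, 126, 44,
  2, 162]) (.br (.br (.bad [141, 48, 168, 128, 135, 49, 184, 132]) (.u1 [-4, -8, -9, -15, -12, -10, -9, -5] 135 49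
  59)) (.bb [0, 0, -1, -1, 0, 0, 1, 1] 4 126 236))) (.br (.br (.br (.bad [141, 48, 168, 128, 135, 49, 184, 132])
  (.u1 [0, 0, 1, 1, 0, 0, -1, -1] 132 184 194)) (.br (.u1 [4, 8, 9, 15, 12, 10, 9, 5] 141 168 173) (.cc 2 [0, 0, 0,
  1, 0, 1, 1, 1] 0))) (.cc 2 [0, 0, 1, 0, 0, 1, 0, 0] 2)))))

theorem c0 : top [3, 1, 1, 1, 1, 1, 1, 1] [126, 48, 49, 232, 44, 57, 233, 35]
    [(120, 35, 172, 143), (121, 233, 158, 125), (123, 57, 175, 137), (126, 44, 2, 162), (130, 232, 159, 147), (135, 49, 184, 132), (141, 48, 168, 128)] t0 = true := by decide +kernel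

/-- certificate -/
def t1 : Tr :=
  .br (.br (.br (.bad [123, 231, 5, 142, 121, 45, 172, 128, 121, 45, 172, 128, 120, 78, 156, 136, 120, 78, 156,
  136, 120, 78, 156, 136]) (.br (.br (.bad [130, 50, 175, 132, 130, 50, 175, 132, 130, 50, 175, 132, 126, 57, 151,
  163, 126, 57, 151, 163, 126, 57, 151, 163, 126, 57, 151, 163, 121, 45, 172, 128]) (.br (.bad [162, 52, 154, 125,
  162, 52, 154, 125, 126, 57, 151, 163, 120, 78, 156, 136]) (.u1 [0, 0, 3, -2, 0, -3, -1, 0] 136 45 61))) (.br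
  (.bad [130, 50, 175, 132, 121, 45, 172, 128, 121, 45, 172, 128, 121, 45, 172, 128, 120, 78, 156, 136, 120, 78,
  156, 136, 120, 78, 156, 136, 120, 78, 156, 136]) (.br (.bad [162, 52, 154, 125, 121, 45, 172, 128, 120, 78, 156,
  136, 120, 78, 156, 136]) (.u1 [0, 0, 3, -2, 0, -3, -1, 0] 136 45 61))))) (.br (.br (.bad [126, 57, 151, 163, 123,
  231, 5, 142]) (.br (.bb [0, 0, -1, 2, 0, 1, -1, 0] 27 130 216) (.br (.u1 [0, 0, -1, 2, 0, 1, -1, 0] 162 154 176)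
  (.cc 2 [0, 0, 1, 1, 0, 1, 0, 0] 2)))) (.br (.br (.br (.bad [162, 52, 154, 125, 130, 50, 175, 132, 126, 57, 151,
  163, 126, 57, 151, 163]) (.u1 [0, 0, 3, 2, 0, -3, -5, 0] 175 57 110)) (.br (.bad [162, 52, 154, 125, 162, 52,
  154, 125, 126, 57, 151, 163, 120, 78, 156, 136]) (.cc 2 [0, 0, 1, 1, 0, 1, 0, 0] 2))) (.br (.bb [0, 0, -1, 2, 0,
  1, -1, 0] 27 130 216) (.br (.u1 [0, 0, -1, 2, 0, 1, -1, 0] 162 154 176) (.cc 2 [0, 0, 1, 1, 0, 1, 0, 0] 2))))))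
  (.br (.br (.br (.bad [126, 57, 151, 163, 123, 231, 5, 142]) (.bb [0, 0, -1, 0, 0, 1, 1, 0] 28 5 53)) (.br (.br
  (.bad [130, 50, 175, 132, 130, 50, 175, 132, 130, 50, 175, 132, 126, 57, 151, 163, 126, 57, 151, 163, 126, 57,
  151, 163, 126, 57, 151, 163, 121, 45, 172, 128]) (.bb [0, 0, -1, -2, 0, 1, 3, 0] 24 121 216)) (.cc 2 [0, 0, 0, 1,
  0, 0, 1, 0] 1))) (.br (.br (.bad [126, 57, 151, 163, 123, 231, 5, 142]) (.bb [0, 0, -1, 0, 0, 1, 1, 0] 16 5 70))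
  (.br (.br (.br (.bad [162, 52, 154, 125, 130, 50, 175, 132, 126, 57, 151, 163, 126, 57, 151, 163]) (.u1 [0, 0, 3,
  2, 0, -3, -5, 0] 175 57 110)) (.br (.u1 [0, 0, -1, -2, 0, 1, 3, 0] 162 154 176) (.cc 2 [0, 0, 1, 1, 0, 1, 0, 0]
  2))) (.cc 2 [0, 0, 0, 1, 0, 0, 1, 0] 1))))

theorem c1 : top [1, 2, 2, 1, 1, 1, 1, 1] [52, 191, 190, 50, 57, 231, 45, 78]
    [(120, 78, 156, 136), (121, 45, 172, 128), (123, 231, 5, 142), (126, 57, 151, 163), (130, 50, 175, 132), (162, 52, 154, 125)] t1 = true := by decide +kernel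

/-- certificate -/
def t2 : Tr :=
  .br (.br (.br (.br (.bad [130, 80, 172, 123, 130, 80, 172, 123, 126, 223, 156, 137, 121, 44, 154, 1]) (.br (.br
  (.br (.bad [162, 229, 175, 164, 141, 59, 5, 122, 135, 52, 140, 143, 135, 52, 140, 143]) (.ss [-4, -3, -5, -7, -5,
  -4, -2, -1] 141 5 135 140 0 146 7 151 6)) (.br (.bad [162, 229, 175, 164, 135, 52, 140, 143, 135, 52, 140, 143,
  121, 44, 154, 1]) (.u1 [-4, -3, -5, -7, -5, -4, -2, -1] 147 35 61))) (.cc 2 [1, 0, 0, 0, 1, 0, 0, 0] 3))) (.br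
  (.br (.bad [135, 52, 140, 143, 130, 80, 172, 123]) (.u1 [-2, -3, -5, -7, -7, -4, -2, -1] 1 172 15)) (.br (.br
  (.br (.bad [162, 229, 175, 164, 141, 59, 5, 122, 135, 52, 140, 143, 135, 52, 140, 143]) (.u1 [-4, -3, -5, -7, -5,
  -4, -2, -1] 135 52 62)) (.br (.bad [162, 229, 175, 164, 135, 52, 140, 143, 135, 52, 140, 143, 121, 44, 154, 1])
  (.u1 [-4, -3, -5, -7, -5, -4, -2, -1] 135 52 62))) (.cc 2 [1, 0, 0, 0, 1, 0, 0, 0] 3)))) (.br (.br (.bad [130,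
  80, 172, 123, 130, 80, 172, 123, 126, 223, 156, 137, 0, 35, 146, 147]) (.br (.br (.br (.bad [162, 229, 175, 164,
  141, 59, 5, 122, 135, 52, 140, 143, 135, 52, 140, 143]) (.u1 [-4, -3, -5, -7, -5, -4, -2, -1] 147 5 9)) (.br
  (.bad [162, 229, 175, 164, 135, 52, 140, 143, 135, 52, 140, 143, 0, 35, 146, 147]) (.u1 [-4, -3, -5, -7, -5, -4,
  -2, -1] 147 35 61))) (.cc 2 [1, 0, 0, 0, 1, 0, 0, 0] 3))) (.br (.br (.bad [135, 52, 140, 143, 130, 80, 172, 123])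
  (.u1 [-2, -3, -5, -7, -7, -4, -2, -1] 130 172 176)) (.br (.br (.br (.bad [162, 229, 175, 164, 141, 59, 5, 122,
  135, 52, 140, 143, 135, 52, 140, 143]) (.u1 [-4, -3, -5, -7, -5, -4, -2, -1] 135 52 62)) (.br (.bad [162, 229,
  175, 164, 135, 52, 140, 143, 135, 52, 140, 143, 0, 35, 146, 147]) (.u1 [-4, -3, -5, -7, -5, -4, -2, -1] 135 52
  62))) (.cc 2 [1, 0, 0, 0, 1, 0, 0, 0] 3))))) (.br (.br (.br (.bad [130, 80, 172, 123, 130, 80, 172, 123, 126,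
  223, 156, 137, 121, 44, 154, 1]) (.br (.br (.br (.bad [162, 229, 175, 164, 141, 59, 5, 122, 135, 52, 140, 143,
  135, 52, 140, 143]) (.u1 [-4, -3, -5, -7, -5, -4, -2, -1] 154 44 74)) (.br (.bad [162, 229, 175, 164, 135, 52,
  140, 143, 135, 52, 140, 143, 121, 44, 154, 1]) (.u1 [-4, -3, -5, -7, -5, -4, -2, -1] 121 44 45))) (.cc 2 [1, 0,
  0, 0, 1, 0, 0, 0] 3))) (.br (.br (.bad [135, 52, 140, 143, 130, 80, 172, 123]) (.u1 [-2, -3, -5, -7, -7, -4, -2,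
  -1] 1 154 9)) (.br (.br (.br (.bad [162, 229, 175, 164, 141, 59, 5, 122, 135, 52, 140, 143, 135, 52, 140, 143])
  (.u1 [-4, -3, -5, -7, -5, -4, -2, -1] 135 143 148)) (.br (.bad [162, 229, 175, 164, 135, 52, 140, 143, 135, 52,
  140, 143, 121, 44, 154, 1]) (.u1 [-4, -3, -5, -7, -5, -4, -2, -1] 135 52 62))) (.cc 2 [1, 0, 0, 0, 1, 0, 0, 0]
  3)))) (.br (.br (.br (.bad [135, 52, 140, 143, 130, 80, 172, 123]) (.br (.bad [141, 59, 5, 122, 130, 80, 172,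
  123, 130, 80, 172, 123, 126, 223, 156, 137]) (.u1 [10, 9, 15, 21, 17, 12, 6, 3] 130 172 176))) (.br (.br (.br
  (.bad [162, 229, 175, 164, 141, 59, 5, 122, 135, 52, 140, 143, 135, 52, 140, 143]) (.u1 [-4, -3, -5, -7, -5, -4,
  -2, -1] 122 59 61)) (.u1 [8, 9, 15, 21, 19, 12, 6, 3] 135 52 62)) (.cc 2 [1, 0, 0, 0, 1, 0, 0, 0] 3))) (.br (.br
  (.bad [135, 52, 140, 143, 130, 80, 172, 123]) (.u1 [-2, -3, -5, -7, -7, -4, -2, -1] 130 172 176)) (.br (.br (.br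
  (.bad [162, 229, 175, 164, 141, 59, 5, 122, 135, 52, 140, 143, 135, 52, 140, 143]) (.u1 [-4, -3, -5, -7, -5, -4,
  -2, -1] 135 143 148)) (.u1 [8, 9, 15, 21, 19, 12, 6, 3] 135 52 62)) (.cc 2 [1, 0, 0, 0, 1, 0, 0, 0] 3)))))

theorem c2 : top [1, 1, 1, 1, 1, 3, 1, 2] [229, 59, 52, 80, 223, 130, 44, 205]
    [(0, 35, 146, 147), (121, 44, 154, 1), (126, 223, 156, 137), (130, 80, 172, 123), (135, 52, 140, 143), (141, 59, 5, 122), (162, 229, 175, 164)] t2 = true := by decide +kernel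

end Cmb

theorem cmb {s : List ℕ} (hs : s ∈ SR) {f : Lat →+ ℤ} (hf : Val 40 f s) {w : Equiv.Perm Rt} (hw : w ∈ chevE8.weyl)
    (h0 : ∀ r : Rt, (40 : ℤ) ∣ 3 * f (wt (w r)) - f (wt r)) {I : Set Rt} (h1 : ∀ r ∈ I, w r ∈ I)
    (h2 : ∀ r ∈ I, ∃ i < 4, (40 : ℤ) ∣ f (wt r) - 3 ^ i) {lam : Lat →+ ℤ} (h3 : ∀ r ∈ I, 0 < lam (wt r)) :
    CC w I ∨ U1 f I ∨ BB I ∨ SS f I := by
  simp only [SR, List.mem_cons, List.not_mem_nil, or_false] at hs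
  rcases hs with rfl | rfl | rfl
  exacts [Cmb.top_spec Cmb.c0 hf hw h0 h1 h2 h3, Cmb.top_spec Cmb.c1 hf hw h0 h1 h2 h3,
    Cmb.top_spec Cmb.c2 hf hw h0 h1 h2 h3]

end Cfsg.Agent.L81
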