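import Mathlib
import Cfsg.Agent.L81.Defs
import Cfsg.Agent.L81.Mod
import Cfsg.Agent.E82.Coc

set_option autoImplicit false

namespace Cfsg.Agent.L81

open Cfsg.Lie Cfsg.Lie.ChevalleyDatum Cfsg.Agent.Chev Cfsg.Agent.Chev.S2M Cfsg.Agent.Chev.Chk Matrix
  MatrixGroups Polynomial Module
open Kac (K3 pw js)
open FV (G0)

variable {F : Type*} [Field F] [Fintype F] {ι : F →+* K3} {M : Type} [AddCommGroup M] [Module K3 M]
  [FiniteDimensional K3 M] {σ : Representation K3 SL(2, F) M}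

namespace Coc

open E82.Coc (nn_mul_bb nn_bb bb_pow)

theorem exists_coef (hF : Fintype.card F = 81) {l : ℕ} (hl : l < 81) {ψ : SL(2, F) → K3}
    (h : ψ ∈ LL ι l) : ∃ c : ℕ → K3, (∀ j, j ∉ JJ K3 l → c j = 0) ∧
      ∀ g, ψ g = ∑ j ∈ Finset.range (80 + 1), c j * (ι (g.1 1 1) ^ j * ι (g.1 1 0) ^ (l - j)) := by
  classical
  rw [← span_eq ι (hF ▸ hl) (c := ![1, 0]) (d := ![0, 1]) (by simp),
    Submodule.mem_span_range_iff_exists_fun] at h
  obtain ⟨c, rfl⟩ := h
  refine ⟨fun i => if h : i ∈ JJ K3 l then c ⟨i, h⟩ else 0, fun j hj => dif_neg hj, fun g => ?_⟩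
  rw [← Finset.sum_subset (s₁ := JJ K3 l)
    (fun i hi => Finset.mem_range.2 (lt_of_le_of_lt (mem_JJ.1 hi).1 hl)) fun i _ hi => by simp [hi],
    ← Finset.sum_coe_sort (JJ K3 l), Finset.sum_apply]
  exact Finset.sum_congr rfl fun j _ => by simp [lf_10, lf_01]

omit [Fintype F] in
theorem hom {l : ℕ} {ψ : SL(2, F) → K3} (h : ψ ∈ LL ι l) (a : Fˣ) (x : F) (g : SL(2, F)) :
    ψ (bb a x * g) = ι a ^ l * ψ g := by
  induction h using Submodule.span_induction with
  | mem _ h =>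
    obtain ⟨c, rfl⟩ := h
    have : lf ι c (bb a x * g) = ι a * lf ι c g := by
      simp [lf, coe_bb, Matrix.mul_apply, Fin.sum_univ_two]
      ring
    simp only [Pi.pow_apply, this, mul_pow]
  | zero => simp
  | add _ _ _ _ h1 h2 => simp only [Pi.add_apply, h1, h2, mul_add]
  | smul c _ _ h1 => simp only [Pi.smul_apply, h1, smul_eq_mul]; ring

/-- The admissible exponents. -/
def adm (l e : ℕ) : Prop := ∀ i < e, i ∈ js 4 e → i ∈ js 4 l

instance (l e : ℕ) : Decidable (adm l e) := inferInstanceAs (Decidable (∀ i < e, _))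

theorem tab : ∀ l < 80, l ≠ 0 → l % 2 = 0 → (if adm l (l / 2) then 1 else 0) + (if adm l (l / 2 + 40) then 1 else 0) ≤
    (if l / 2 ∈ js 4 l then 1 else 0) + if l ∈ P4 then 1 else 0 := by
  decide +kernel

theorem mem_JJ' {l j : ℕ} (hl : l < 81) : j ∈ JJ K3 l ↔ j ∈ js 4 l := by
  rw [← Finset.mem_val, Kac.JJ_eq (r := 4) hl, Multiset.mem_coe]

theorem two_ne : (2 : K3) ≠ 0 := fun h => by
  have := (CharP.cast_eq_zero_iff K3 3 2).1 (by exact_mod_cast h)
  omega

omit [Fintype F] [FiniteDimensional K3 M] in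
theorem z_one {f : SL(2, F) → M} (hf : f ∈ Z1 σ) : f 1 = 0 := by
  have := hf 1 1
  simpa using this

theorem rank_le {W : Type*} [AddCommGroup W] [Module K3 W] [FiniteDimensional K3 W] (γ γ' : W →ₗ[K3] K3)
    (h : ∀ w, γ w = 0 → γ' w = 0 → w = 0) {P Q : Prop} [Decidable P] [Decidable Q] (hP : ¬ P → γ = 0)
    (hQ : ¬ Q → γ' = 0) : finrank K3 W ≤ (if P then 1 else 0) + if Q then 1 else 0 := by
  have key : ∀ (δ : W →ₗ[K3] K3) (R : Prop) [Decidable R], (¬ R → δ = 0) →
      finrank K3 (LinearMap.range δ) ≤ if R then 1 else 0 := fun δ R _ hR => by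
    split_ifs with k
    · exact (Submodule.finrank_le _).trans (finrank_self K3).le
    · rw [hR k, LinearMap.range_zero, finrank_bot]
  rw [← γ.finrank_range_add_finrank_ker]
  refine add_le_add (key γ P hP) (le_trans ?_ (key γ' Q hQ))
  refine LinearMap.finrank_le_finrank_of_injective (f := γ'.rangeRestrict.comp (LinearMap.ker γ).subtype)
    ((injective_iff_map_eq_zero _).2 fun w hw => Subtype.ext (h _ w.2 (congrArg Subtype.val hw)))

section
variable {l : ℕ} {Φ : M →ₗ[K3] (SL(2, F) → K3)}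

omit [FiniteDimensional K3 M] in
theorem eq_zero (hF : Fintype.card F = 81) (hl : l < 81) (h1 : Function.Injective Φ)
    (h3 : LinearMap.range Φ = LL ι l) {w : M} (hw : ∀ a, Φ w (nn a) = 0) : w = 0 := by
  obtain ⟨c, -, hc⟩ := exists_coef hF hl (h3 ▸ LinearMap.mem_range_self Φ w)
  have h4 := fun j => coef_eq_zero ι (l := 80) (by omega) c (fun s => by
    simpa [hc, coe_nn] using hw s) (j := j)
  refine h1 (_root_.funext fun g => ?_)
  rw [hc, map_zero]
  exact Finset.sum_eq_zero fun j hj => by rw [h4 j (Finset.mem_range_succ_iff.1 hj), zero_mul]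

omit [FiniteDimensional K3 M] in
theorem z_zero (hF : Fintype.card F = 81) (hl : l < 80) (h0 : l ≠ 0) (h1 : Function.Injective Φ)
    (h2 : ∀ g w h, Φ (σ g w) h = Φ w (h * g)) (h3 : LinearMap.range Φ = LL ι l) {a : Fˣ}
    (ha : orderOf a = 80) {f : SL(2, F) → M} (hf : f ∈ Z1 σ) (hT : ∀ t, f (bb t 0) = 0)
    (hU : ∀ b, f (bb 1 b) = 0) : f = 0 := by
  have hm : ∀ x y, f y = 0 → f (x * y) = f x := fun x y hy => by rw [hf x y, hy, map_zero, add_zero]
  have hB : ∀ t x, f (bb t x) = 0 := fun t x => by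
    have := (hm _ _ (hU (t * x))).trans (hT t)
    rw [bb_mul] at this
    simpa using this
  have hn : ∀ y, f (nn y) = f (nn 0) := fun y => by
    have := hm (nn 0) _ (hU y)
    rwa [nn_mul_bb, zero_add] at this
  have hH := hom (h3 ▸ LinearMap.mem_range_self Φ (f (nn 0)))
  have hw : ∀ t, σ (bb t 0) (f (nn 0)) = f (nn 0) := fun t => by
    have e := congrArg f (nn_bb t)
    rw [hf, hf, hT, hT, map_zero, add_zero, zero_add] at e
    exact e.symm
  have hal : ι a ^ l ≠ 1 := fun e => by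
    have : a ^ l = 1 := Units.ext (ι.injective (by simpa using e))
    have := Nat.le_of_dvd (Nat.pos_of_ne_zero h0) (ha ▸ orderOf_dvd_of_pow_eq_one this)
    omega
  have k1 : Φ (f (nn 0)) 1 = 0 := by
    have := h2 (bb a 0) (f (nn 0)) 1
    rw [hw, one_mul, ← mul_one (bb a 0), hH] at this
    exact (mul_left_eq_self₀.1 this.symm).resolve_left hal
  have k2 : Φ (f (nn 0)) (nn 0) = 0 := by
    have := h2 (bb a⁻¹ 0) (f (nn 0)) (nn 0)
    rw [hw, nn_bb, hH] at this
    exact (mul_left_eq_self₀.1 this.symm).resolve_left hal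
  have hw0 : f (nn 0) = 0 := eq_zero hF (by omega) h1 h3 fun c => by
    by_cases hc : c = 0
    · rw [hc, k2]
    have e : nn c * nn 0 = bb (Units.mk0 c hc) (-1) * nn (-c⁻¹) :=
      Subtype.ext (by simp [coe_bb, coe_nn, hc])
    have e1 := congrArg (fun g => Φ (f g) 1) e
    simp only [hf _ _, hB, hn c, hn (-c⁻¹), zero_add, map_add, Pi.add_apply, h2, one_mul, k1] at e1
    rw [e1, ← mul_one (bb _ _), hH, k1, mul_zero]
  funext g
  rcases bruhat g with ⟨t, x, rfl⟩ | ⟨t, x, y, rfl⟩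
  · exact hB t x
  · exact (hm _ _ ((hn y).trans hw0)).trans (hB t x)

omit [FiniteDimensional K3 M] in
theorem val_eq (hl : l % 2 = 0) (h0 : l ≠ 0) {a : Fˣ} (ha : ∀ t, t ∈ Subgroup.zpowers a) (h40 : ι a ^ 40 = -1)
    (h2 : ∀ g w h, Φ (σ g w) h = Φ w (h * g)) (h3 : LinearMap.range Φ = LL ι l)
    {f : SL(2, F) → M} (hf : f ∈ Z1 σ) (hT : ∀ t, f (bb t 0) = 0) {γ γ' : K3}
    (g1 : Φ (f (bb 1 1)) (nn 0) = γ + γ') (g2 : Φ (f (bb 1 a)) (nn 0) = ι a ^ (l / 2) * (γ - γ')) (b c : F) :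
    Φ (f (bb 1 c)) (nn b) = γ * (ι (b + c) ^ (l / 2) - ι b ^ (l / 2)) +
      γ' * (ι (b + c) ^ (l / 2 + 40) - ι b ^ (l / 2 + 40)) := by
  have step : ∀ x : F, Φ (f (bb 1 (a * a * x))) (nn 0) = ι a ^ l * Φ (f (bb 1 x)) (nn 0) := fun x => by
    have e1 : bb a⁻¹ 0 * bb 1 x = bb 1 (a * a * x) * bb a⁻¹ (0 : F) := by
      rw [bb_mul, bb_mul, mul_one, one_mul]
      congr 1
      simp [mul_assoc, mul_comm]
    have e3 := congrArg (fun g => Φ (f g) (nn 0)) e1
    simp only [hf _ _, hT, zero_add, map_zero, add_zero, h2] at e3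
    have hH := hom (h3 ▸ LinearMap.mem_range_self Φ (f (bb 1 x)))
    rw [← e3, nn_bb, hH]
  have hp : ∀ k : ℕ, Φ (f (bb 1 ((a : F) ^ k))) (nn 0) =
      γ * (ι a ^ k) ^ (l / 2) + γ' * (ι a ^ k) ^ (l / 2 + 40) := fun k => by
    induction k using Nat.twoStepInduction with
    | zero => simpa using g1
    | one => rw [pow_one, pow_one, g2, pow_add, h40]; ring
    | more k ih _ =>
      have e : ι a ^ l = (ι a ^ 2) ^ (l / 2) := by rw [← pow_mul]; congr 1; omega
      have e' : (ι a ^ 2) ^ 40 = 1 := by rw [← pow_mul, mul_comm, pow_mul, h40]; norm_num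
      rw [show (a : F) ^ (k + 2) = a * a * a ^ k by ring, step, ih, e, pow_add (ι a) k 2, mul_pow, mul_pow,
        pow_add (ι a ^ 2), e']
      ring
  have hA : ∀ x : F, Φ (f (bb 1 x)) (nn 0) = γ * ι x ^ (l / 2) + γ' * ι x ^ (l / 2 + 40) := fun x => by
    by_cases hx : x = 0
    · rw [hx, bb_one, z_one hf, map_zero, map_zero, zero_pow (by omega), zero_pow (by omega)]
      simp
    obtain ⟨k, hk⟩ := (mem_powers_iff_mem_zpowers.2 (ha (Units.mk0 x hx)) : _ ∈ Submonoid.powers a)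
    have hk' : (a : F) ^ k = x := by simpa using congrArg Units.val hk
    rw [← hk', hp, map_pow]
  have e := congrArg (fun g => Φ (f g) (nn 0)) (bb_mul (1 : Fˣ) 1 b c)
  simp only [hf _ _, map_add, Pi.add_apply, h2, nn_mul_bb, zero_add, mul_one, inv_one, Units.val_one,
    one_mul] at e
  rw [hA b, hA (c + b), add_comm c b] at e
  linear_combination e

theorem expand (x y : K3) {e : ℕ} (he : e ≤ 80) : (x + y) ^ e - x ^ e =
    ∑ j ∈ Finset.range (80 + 1), (if j < e then (e.choose j : K3) * y ^ (e - j) else 0) * x ^ j := by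
  rw [add_pow, Finset.sum_range_succ (n := e), Nat.sub_self, pow_zero, mul_one, Nat.choose_self, Nat.cast_one,
    mul_one, add_sub_cancel_right, ← Finset.sum_subset (s₁ := Finset.range e) (s₂ := Finset.range (80 + 1))
      (Finset.range_mono (by omega)) fun j _ hj => by simp [mt Finset.mem_range.2 hj]]
  exact Finset.sum_congr rfl fun j hj => by rw [if_pos (Finset.mem_range.1 hj)]; ring

theorem gam_zero (hF : Fintype.card F = 81) (hl : l < 80) {a : Fˣ} (h40 : ι a ^ 40 = -1) {γ γ' : K3}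
    {ψ : F → SL(2, F) → K3} (hψ : ∀ c, ψ c ∈ LL ι l)
    (hv : ∀ b c, ψ c (nn b) = γ * (ι (b + c) ^ (l / 2) - ι b ^ (l / 2)) +
      γ' * (ι (b + c) ^ (l / 2 + 40) - ι b ^ (l / 2 + 40))) :
    (¬ adm l (l / 2) → γ = 0) ∧ (¬ adm l (l / 2 + 40) → γ' = 0) := by
  have he : l / 2 < 40 := by omega
  generalize l / 2 = e at hv he
  have key : ∀ c i, i ≤ 80 → i ∉ js 4 l → γ * (if i < e then (e.choose i : K3) * ι c ^ (e - i) else 0) +
      γ' * (if i < e + 40 then ((e + 40).choose i : K3) * ι c ^ (e + 40 - i) else 0) = 0 := fun c i hi hj => by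
    obtain ⟨d, hz, hd⟩ := exists_coef hF (by omega : l < 81) (hψ c)
    have h6 := coef_eq_zero ι (l := 80) (by omega)
      (fun j => d j - (γ * (if j < e then (e.choose j : K3) * ι c ^ (e - j) else 0) +
        γ' * (if j < e + 40 then ((e + 40).choose j : K3) * ι c ^ (e + 40 - j) else 0))) (fun s => by
        have e1 := hv s c
        rw [hd, map_add, expand _ _ (by omega : e ≤ 80), expand _ _ (by omega : e + 40 ≤ 80)] at e1
        simp only [coe_nn, of_apply, cons_val', cons_val_one, cons_val_fin_one, cons_val_zero, map_one,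
          one_pow, mul_one] at e1
        simp only [sub_mul, add_mul, Finset.sum_sub_distrib, Finset.sum_add_distrib, e1, Finset.mul_sum, mul_assoc,
          sub_self]) hi
    rwa [hz i (mt (mem_JJ' (by omega)).1 hj), zero_sub, neg_eq_zero] at h6
  have nz : ∀ n i, n < 81 → i ∈ js 4 n → (n.choose i : K3) ≠ 0 := fun n i hn hi =>
    (mem_JJ.1 ((mem_JJ' hn).2 hi)).2
  have ha : ι a ≠ 0 := (map_ne_zero ι).2 a.ne_zero
  have both : ∀ i < e, i ∉ js 4 l → γ * e.choose i = 0 ∧ γ' * (e + 40).choose i = 0 := fun i hi hj => by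
    have k1 := key 1 i (by omega) hj
    have k2 := key a i (by omega) hj
    rw [if_pos hi, if_pos (by omega)] at k1 k2
    rw [map_one, one_pow, one_pow] at k1
    rw [show e + 40 - i = e - i + 40 by omega, pow_add, h40] at k2
    have k3 : γ * e.choose i - γ' * (e + 40).choose i = 0 :=
      (mul_eq_zero.1 (show _ * ι a ^ (e - i) = 0 by linear_combination k2)).resolve_right (pow_ne_zero _ ha)
    exact ⟨(mul_eq_zero.1 (show (2 : K3) * (γ * e.choose i) = 0 by linear_combination k1 + k3)).resolve_left two_ne,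
      (mul_eq_zero.1 (show (2 : K3) * (γ' * (e + 40).choose i) = 0 by linear_combination k1 - k3)).resolve_left two_ne⟩
  simp only [adm, not_forall]
  refine ⟨fun ⟨i, hi, h1, h2⟩ => (mul_eq_zero.1 (both i hi h2).1).resolve_right (nz _ _ (by omega) h1),
    fun ⟨i, hi, h1, h2⟩ => (mul_eq_zero.1 ?_).resolve_right (nz _ _ (by omega) h1)⟩
  by_cases k : i < e
  · exact (both i k h2).2
  · simpa [k, hi] using key 1 i (by omega) h2

end

omit [Fintype F] [FiniteDimensional K3 M] in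
theorem mem_range {y : SL(2, F)} (hy : y ^ 80 = 1) {f : SL(2, F) → M} (hf : f ∈ Z1 σ) :
    f y ∈ LinearMap.range (σ y - 1) := by
  have h1 : ∀ n : ℕ, f (y ^ n) - (n : K3) • f y ∈ LinearMap.range (σ y - 1) := fun n => by
    induction n with
    | zero => simp [z_one hf]
    | succ n ih =>
      have : f (y ^ (n + 1)) - ((n + 1 : ℕ) : K3) • f y = (σ y - 1) (f (y ^ n)) + (f (y ^ n) - (n : K3) • f y) := by
        rw [pow_succ', hf, Nat.cast_succ, add_smul, one_smul, LinearMap.sub_apply, Module.End.one_apply]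
        abel
      rw [this]
      exact add_mem ⟨_, rfl⟩ ih
  have h2 := h1 80
  have h3 : ((80 : ℕ) : K3) = -1 := by
    have := CharP.cast_eq_zero K3 3
    push_cast at this ⊢
    linear_combination 27 * this
  rwa [hy, z_one hf, h3, neg_one_smul, zero_sub, neg_neg] at h2

end Coc

theorem Model.z1_le (hF : Fintype.card F = 81) {l : ℕ} (h : Model ι σ l) (h0 : l ≠ 0) (h1 : l ≠ 80)
    (h2 : l % 2 = 0) : finrank K3 (Z1 σ) ≤ finrank K3 M + if l ∈ P4 then 1 else 0 := by
  obtain ⟨hl', Φ, h3, h4, h5⟩ := h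
  have hl : l < 80 := by omega
  obtain ⟨a, ha⟩ := IsCyclic.exists_generator (α := Fˣ)
  have ho : orderOf a = 80 := by
    rw [orderOf_eq_card_of_forall_mem_zpowers ha, Nat.card_units, Nat.card_eq_fintype_card, hF]
  have ha0 : ι a ≠ 0 := (map_ne_zero ι).2 a.ne_zero
  have h40 : ι a ^ 40 = -1 := by
    have e : a ^ 80 = 1 := ho ▸ pow_orderOf_eq_one a
    have e1 : (ι a ^ 40) ^ 2 = 1 := by simpa [← pow_mul] using congrArg (fun x : Fˣ => ι x) e
    refine (sq_eq_one_iff.1 e1).resolve_left fun k => ?_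
    have : a ^ 40 = 1 := Units.ext (ι.injective (by simpa using k))
    have := Nat.le_of_dvd (by norm_num) (ho ▸ orderOf_dvd_of_pow_eq_one this)
    omega
  let ev : Z1 σ →ₗ[K3] M := (LinearMap.proj (bb a 0)).comp (Z1 σ).subtype
  have hT : ∀ f : LinearMap.ker ev, ∀ t, f.1.1 (bb t 0) = 0 := fun f t => by
    obtain ⟨k, rfl⟩ := (mem_powers_iff_mem_zpowers.2 (ha t) : t ∈ Submonoid.powers a)
    have hy : f.1.1 (bb a 0) = 0 := f.2
    beta_reduce
    rw [← E82.Coc.bb_pow]
    induction k with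
    | zero => rw [pow_zero, Coc.z_one f.1.2]
    | succ k ih => rw [pow_succ, f.1.2, ih, hy, map_zero, add_zero]
  let g : F → LinearMap.ker ev →ₗ[K3] K3 := fun c => ((LinearMap.proj (nn 0)).comp Φ).comp
    (((LinearMap.proj (bb 1 c)).comp (Z1 σ).subtype).comp (LinearMap.ker ev).subtype)
  let γ : LinearMap.ker ev →ₗ[K3] K3 := (2 : K3)⁻¹ • (g 1 + (ι a ^ (l / 2))⁻¹ • g a)
  let γ' : LinearMap.ker ev →ₗ[K3] K3 := (2 : K3)⁻¹ • (g 1 - (ι a ^ (l / 2))⁻¹ • g a)
  have hv : ∀ f : LinearMap.ker ev, ∀ b c, _ := fun f =>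
    Coc.val_eq h2 h0 ha h40 h4 h5 f.1.2 (hT f) (γ := γ f) (γ' := γ' f)
      (show g 1 f = 2⁻¹ * (g 1 f + (ι a ^ (l / 2))⁻¹ * g a f) + 2⁻¹ * (g 1 f - (ι a ^ (l / 2))⁻¹ * g a f) by
        have := Coc.two_ne
        field_simp
        ring)
      (show g a f = ι a ^ (l / 2) *
          (2⁻¹ * (g 1 f + (ι a ^ (l / 2))⁻¹ * g a f) - 2⁻¹ * (g 1 f - (ι a ^ (l / 2))⁻¹ * g a f)) by
        have := Coc.two_ne
        field_simp
        ring)
  have hg := fun f : LinearMap.ker ev => Coc.gam_zero hF hl h40 (ψ := fun c => Φ (f.1.1 (bb 1 c)))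
    (fun c => h5 ▸ LinearMap.mem_range_self Φ _) (hv f)
  have k1 := Coc.rank_le γ γ' (fun f e e' => Subtype.ext (Subtype.ext
      (Coc.z_zero hF hl h0 h3 h4 h5 ho f.1.2 (hT f) fun b => Coc.eq_zero hF hl' h3 h5 fun s => by
        rw [hv f, e, e', zero_mul, zero_mul, add_zero])))
    (fun k => LinearMap.ext fun f => (hg f).1 k) fun k => LinearMap.ext fun f => (hg f).2 k
  have k2 : finrank K3 (LinearMap.range ev) ≤ finrank K3 (LinearMap.range (σ (bb a 0) - 1)) :=
    Submodule.finrank_mono (by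
      rintro _ ⟨f, rfl⟩
      exact Coc.mem_range (by rw [E82.Coc.bb_pow, ← ho, pow_orderOf_eq_one, bb_one]) f.2)
  have k3 : (if l / 2 ∈ js 4 l then 1 else 0) ≤ finrank K3 (LinearMap.ker (σ (bb a 0) - 1)) := by
    split_ifs with k
    · obtain ⟨w, hw⟩ : lf ι ![0, 1] ^ (l / 2) * lf ι ![1, 0] ^ (l - l / 2) ∈ LinearMap.range Φ :=
        h5 ▸ mem_LL ι (hF ▸ hl') _ _ ((Coc.mem_JJ' hl').2 k)
      rw [show l - l / 2 = l / 2 by omega] at hw
      refine Submodule.one_le_finrank_iff.2 ((Submodule.ne_bot_iff _).2 ⟨w, ?_, fun e => ?_⟩)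
      · refine sub_eq_zero.2 (h3 (_root_.funext fun x => ?_))
        change Φ (σ (bb a 0) w) x = Φ w x
        rw [h4, hw]
        simp only [Pi.mul_apply, Pi.pow_apply, lf_10, lf_01, ← mul_pow, ← map_mul]
        congr 2
        simp [coe_bb, Matrix.mul_apply, Fin.sum_univ_two]
        field_simp
      · have := congrFun hw (nn 1)
        simp [e, lf_10, lf_01, coe_nn] at this
    · exact Nat.zero_le _
  have k4 := (σ (bb a 0) - 1).finrank_range_add_finrank_ker
  have k5 := ev.finrank_range_add_finrank_ker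
  have k6 := Coc.tab l hl h0 h2
  omega

end Cfsg.Agent.L81
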