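import Mathlib
import Cfsg.Agent.L81.Defs
import Cfsg.Agent.L81.Wt
import Cfsg.Agent.S1054
import Cfsg.Agent.FV.Irr
import Cfsg.Agent.FV.Seitz
import Cfsg.Agent.GT.FStar
import Cfsg.Agent.GT.QuadSL2
import Cfsg.Agent.Loc.BlkKer
import Cfsg.Agent.Chev.StFin

set_option autoImplicit false

namespace Cfsg.Agent.L81

open Cfsg.Lie Cfsg.Lie.ChevalleyDatum Cfsg.Agent.Chev Cfsg.Agent.Chev.S2M Cfsg.Agent.Chev.Chk Matrix
  MatrixGroups Polynomial Module
open Kac (K3 pw js)
open FV (G0)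

variable {F : Type*} [Field F] [Fintype F] {H : Subgroup G0} {φ : SL(2, F) →* G0}

namespace Grp

theorem cen_psl (hF : Fintype.card F = 81) :
    Subgroup.center (ProjectiveSpecialLinearGroup (Fin 2) F) = ⊥ := by
  have : Group.IsPerfect SL(2, F) :=
    ⟨Loc.Blk.commutator_eq_top (by rw [Nat.card_eq_fintype_card, hF]; norm_num)⟩
  exact Group.IsPerfect.center_quotient_center_eq_bot SL(2, F)

omit [Fintype F] in
theorem gen {P : Subgroup SL(2, F)} (h1 : ∀ b, bb 1 b ∈ P) (h2 : ∀ b, nn 0 * bb 1 b * (nn 0)⁻¹ ∈ P) : P = ⊤ := by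
  refine GT.eq_top_of_slUp_slLo_mem P (fun t => ?_) fun t => ?_
  · have : GT.slUp t = bb 1 t := Subtype.ext (by simp [GT.slUp, coe_bb])
    rw [this]; exact h1 t
  · have : GT.slLo t = nn 0 * bb 1 (-t) * (nn 0)⁻¹ := by
      rw [eq_mul_inv_iff_mul_eq]
      exact Subtype.ext (by
        change (GT.slLo t).1 * (nn (0 : F)).1 = (nn (0 : F)).1 * (bb 1 (-t)).1
        simp [GT.slLo, coe_bb, coe_nn])
    rw [this]; exact h2 _

theorem simple : IsSimpleGroup G0 := (S1054.result (F := ZMod 3) chevE8 (by simp)).1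

omit [Fintype F] in
theorem ne_bot (c : Ctx H φ) : φ.range ≠ ⊥ := fun h => by
  have h1 : φ (bb 1 1) = 1 := Subgroup.mem_bot.1 (h ▸ ⟨_, rfl⟩)
  have h2 := Subgroup.mem_center_iff.1 ((c.ker _).1 h1) (nn 0)
  have h3 := congrFun (congrFun (congrArg Subtype.val h2) 0) 0
  simp [coe_bb, coe_nn] at h3

omit [Fintype F] in
theorem le_norm (c : Ctx H φ) : H ≤ Subgroup.normalizer (φ.range : Set G0) := fun h hh =>
  Subgroup.mem_normalizer_iff.2 fun y => ⟨fun ⟨s, hs⟩ => by
    obtain ⟨s', e⟩ := c.nrm h hh s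
    exact ⟨s', by rw [← e, hs]⟩, fun ⟨s, hs⟩ => by
    obtain ⟨s', e⟩ := c.nrm h⁻¹ (H.inv_mem hh) s
    exact ⟨s', by rw [← e, hs]; group⟩⟩

omit [Fintype F] in
theorem norm_eq (c : Ctx H φ) (hH : IsCoatom H) : Subgroup.normalizer (φ.range : Set G0) = H := by
  by_contra hne
  have h1 := hH.2 _ (lt_of_le_of_ne (le_norm c) (Ne.symm hne))
  have h2 : φ.range.Normal := Subgroup.normalizer_eq_top_iff.1 h1
  rcases simple.eq_bot_or_eq_top_of_normal _ h2 with h | h
  · exact ne_bot c h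
  · exact hH.1 (top_le_iff.1 (h ▸ fun _ ⟨s, hs⟩ => hs ▸ c.le s))

/-- The pointwise stabiliser of a subspace. -/
def Fix (W : Submodule K3 VV) : Subgroup G0 where
  carrier := {a | ∀ v ∈ W, (emb a).val *ᵥ v = v}
  one_mem' := fun v _ => by rw [map_one, Units.val_one, one_mulVec]
  mul_mem' {a b} ha hb v hv := by rw [map_mul, Units.val_mul, ← mulVec_mulVec, hb v hv, ha v hv]
  inv_mem' {a} ha v hv := by
    conv_lhs => rw [← ha v hv]
    rw [map_inv, mulVec_mulVec, Units.inv_mul, one_mulVec]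

end Grp

theorem exists_ctx (hF : Fintype.card F = 81) (H : Subgroup G0)
    (hH : Nonempty (Cfsg.generalizedFittingSubgroup H ≃* ProjectiveSpecialLinearGroup (Fin 2) F)) :
    ∃ φ : SL(2, F) →* G0, Ctx H φ := by
  have : Finite G0 := finite_group _ _
  have hn := GT.genFitting_normal (G := H)
  obtain ⟨e⟩ := hH
  let e1 : SL(2, F) →* Cfsg.generalizedFittingSubgroup H :=
    e.symm.toMonoidHom.comp (QuotientGroup.mk' (Subgroup.center SL(2, F)))
  have sj : Function.Surjective e1 := e.symm.surjective.comp (QuotientGroup.mk'_surjective _)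
  refine ⟨(H.subtype.comp (Subgroup.subtype _)).comp e1, fun s => ?_, fun s => (e1 s).1.2,
    fun h hh s => ?_, fun h hh hc => ?_⟩
  · rw [← QuotientGroup.eq_one_iff]
    refine ⟨fun h => e.symm.injective ?_, fun h => ?_⟩
    · rw [map_one]; exact Subtype.ext (Subtype.ext h)
    · have h1 : e1 s = 1 := (congrArg e.symm h).trans (map_one _)
      rw [MonoidHom.comp_apply, h1, map_one]
  · obtain ⟨s', hs'⟩ := sj ⟨_, hn.conj_mem _ (e1 s).2 ⟨h, hh⟩⟩
    exact ⟨s', (congrArg (fun z : Cfsg.generalizedFittingSubgroup H => (z.1 : G0)) hs').symm⟩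
  · have h1 : (⟨h, hh⟩ : H) ∈ Subgroup.centralizer (Cfsg.generalizedFittingSubgroup H : Set H) := by
      intro z hz
      obtain ⟨s, hs⟩ := sj ⟨z, hz⟩
      have h2 := hc s
      change h * ((e1 s).1 : G0) = ((e1 s).1 : G0) * h at h2
      rw [hs] at h2
      exact Subtype.ext h2.symm
    obtain ⟨s, hs⟩ := e.symm.surjective ⟨_, GT.centralizer_genFitting_le h1⟩
    have h3 : s ∈ Subgroup.center _ := Subgroup.mem_center_iff.2 fun t => e.symm.injective (by
      rw [map_mul, map_mul, hs]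
      exact Subtype.ext (h1 _ (e.symm t).2))
    rw [Grp.cen_psl hF, Subgroup.mem_bot] at h3
    rw [h3, map_one] at hs
    exact (congrArg (fun z : Cfsg.generalizedFittingSubgroup H => (z.1 : G0)) hs).symm

theorem Ctx.neg_one (c : Ctx H φ) : φ (-1) = 1 :=
  (c.ker _).2 (Subgroup.mem_center_iff.2 fun g => by simp)

theorem Ctx.cent (hF : Fintype.card F = 81) (c : Ctx H φ) (hH : IsCoatom H) {a : G0}
    (h1 : ∀ b, a * φ (bb 1 b) = φ (bb 1 b) * a)
    (h2 : ∀ b, a * φ (nn 0 * bb 1 b * (nn 0)⁻¹) = φ (nn 0 * bb 1 b * (nn 0)⁻¹) * a) : a = 1 := by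
  have h3 : (Subgroup.centralizer {a}).comap φ = ⊤ :=
    Grp.gen (fun b => Subgroup.mem_centralizer_singleton_iff.2 (h1 b).symm)
      fun b => Subgroup.mem_centralizer_singleton_iff.2 (h2 b).symm
  have h4 : ∀ s, a * φ s = φ s * a := fun s =>
    (Subgroup.mem_centralizer_singleton_iff.1 (h3.ge (Subgroup.mem_top s))).symm
  refine c.cen a ?_ h4
  rw [← Grp.norm_eq c hH]
  exact Subgroup.centralizer_le_normalizer _ fun _ ⟨s, hs⟩ => hs ▸ (h4 s).symm

theorem Ctx.stable (c : Ctx H φ) {h : G0} (hh : h ∈ H) {v : VV} (hv : v ∈ (rep φ).invariants) :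
    (emb h).val *ᵥ v ∈ (rep φ).invariants := fun s => by
  obtain ⟨s', e⟩ := c.nrm h⁻¹ (H.inv_mem hh) s
  have e1 : φ s * h = h * φ s' := by rw [← e]; group
  have e2 := hv s'
  rw [rep_apply] at e2
  rw [rep_apply, mulVec_mulVec, ← Units.val_mul, ← map_mul, e1, map_mul, Units.val_mul, ← mulVec_mulVec, e2]

theorem Ctx.fix_mem (hF : Fintype.card F = 81) (c : Ctx H φ) (hH : IsCoatom H) (h0 : (rep φ).invariants ≠ ⊥)
    {a : G0} (ha : ∀ v ∈ (rep φ).invariants, (emb a).val *ᵥ v = v) : a ∈ H := by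
  have hle : H ≤ (FV.Stb (rep φ).invariants).comap emb := FV.le_Stb emb fun g hg v hv => c.stable hg hv
  have hfix : Grp.Fix (rep φ).invariants ≤ (FV.Stb (rep φ).invariants).comap emb :=
    FV.le_Stb emb fun g hg v hv => by rw [hg v hv]; exact hv
  rcases hle.eq_or_lt with h | h
  · rw [h]; exact hfix ha
  exfalso
  have ht := hH.2 _ h
  have hs : ∀ g : G0, ∀ v ∈ (rep φ).invariants, (emb g).val *ᵥ v ∈ (rep φ).invariants := fun g v hv =>
    ((ht.ge (Subgroup.mem_top g) : emb g ∈ FV.Stb _) v).2 hv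
  have hn : (Grp.Fix (rep φ).invariants).Normal := ⟨fun x hx g v hv => by
    rw [map_mul, map_mul, Units.val_mul, Units.val_mul, ← mulVec_mulVec, ← mulVec_mulVec, hx _ (hs _ v hv),
      map_inv, mulVec_mulVec, Units.mul_inv, one_mulVec]⟩
  have hX : φ.range ≤ Grp.Fix (rep φ).invariants := fun _ ⟨s, hs⟩ v hv => by
    rw [← hs, ← rep_apply]; exact hv s
  rcases Grp.simple.eq_bot_or_eq_top_of_normal _ hn with e | e
  · exact Grp.ne_bot c (le_bot_iff.1 (e ▸ hX))
  obtain ⟨v, hv, v0⟩ := (Submodule.ne_bot_iff _).1 h0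
  have hv' : ∀ g : G0, (emb g).val *ᵥ v = v := fun g => (e.ge (Subgroup.mem_top g) : g ∈ Grp.Fix _) v hv
  obtain ⟨r, r1, r2, -⟩ := FV.irr (W := K3 ∙ v) (fun g w hw => by
    obtain ⟨k, rfl⟩ := Submodule.mem_span_singleton.1 hw
    rw [mulVec_smul, hv']; exact hw) (by rwa [Ne, Submodule.span_singleton_eq_bot])
  obtain ⟨k, hk⟩ := Submodule.mem_span_singleton.1 r1
  obtain ⟨k', hk'⟩ := Submodule.mem_span_singleton.1 r2
  have ne : (r : ℕ) ≠ chevE8.ng r := fun h => chevE8.ne_ng r (Fin.ext h)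
  have a1 := congrFun hk (Sum.inr r)
  have a2 := congrFun hk' (Sum.inr r)
  have a3 := congrFun hk' (Sum.inr (chevE8.ng r))
  simp only [eN, Pi.smul_apply, smul_eq_mul, Sum.elim_inr, if_true, if_neg ne] at a1 a2 a3
  rcases mul_eq_zero.1 a2 with h | h
  · rw [h, zero_mul] at a3; exact zero_ne_one a3
  · rw [h, mul_zero] at a1; exact zero_ne_one a1

theorem frob_mem_inv {Γ : Type*} [Group Γ] (φ : Γ →* G0) (v : VV) :
    frobenius K3 3 ∘ v ∈ (rep φ).invariants ↔ v ∈ (rep φ).invariants := by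
  refine forall_congr' fun s => ?_
  rw [rep_apply, rep_apply, ← fr_emb, FV.fr_mulVec, fr_emb]
  exact (frobenius K3 3).injective.comp_left.eq_iff

end Cfsg.Agent.L81
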