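import Mathlib
import Cfsg.Agent.L81.Defs
import Cfsg.Agent.L81.Grp
import Cfsg.Agent.Loc.MssSyl
import Cfsg.Agent.Cl.LinearBasic

set_option autoImplicit false
set_option linter.unusedSectionVars false

namespace Cfsg.Agent.L81

open Cfsg.Lie Cfsg.Lie.ChevalleyDatum Cfsg.Agent.Chev Cfsg.Agent.Chev.S2M Cfsg.Agent.Chev.Chk Matrix
  MatrixGroups Polynomial Module
open Kac (K3 pw js)
open FV (G0)

namespace G41

open Cfsg.Agent.Loc.Mss Subgroup

variable {F : Type*} [Field F] [Fintype F] {G : Type*} [Group G] [Finite G] {φ : SL(2, F) →* G}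

theorem bb_add (x y : F) : bb 1 x * bb 1 y = bb 1 (x + y) := by
  rw [bb_mul]; simp [add_comm]

theorem bb_inv (x : F) : (bb 1 x)⁻¹ = bb 1 (-x) :=
  inv_eq_of_mul_eq_one_right (by rw [bb_add, add_neg_cancel, bb_one])

variable (F) in
/-- The upper unipotent subgroup. -/
def U : Subgroup SL(2, F) where
  carrier := {g | ∃ b, g = bb 1 b}
  one_mem' := ⟨0, bb_one.symm⟩
  mul_mem' := by rintro _ _ ⟨a, rfl⟩ ⟨b, rfl⟩; exact ⟨_, bb_add a b⟩
  inv_mem' := by rintro _ ⟨a, rfl⟩; exact ⟨_, bb_inv a⟩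

theorem bb_mem (b : F) : bb 1 b ∈ U F := ⟨b, rfl⟩

theorem bb_inj {a b : F} (h : bb 1 a = bb 1 b) : a = b := by
  simpa [coe_bb] using congrArg (fun g : SL(2, F) => g.1 0 1) h

theorem card_U : Nat.card (U F) = Fintype.card F := by
  rw [← Nat.card_eq_fintype_card]
  exact (Nat.card_eq_of_bijective (fun b : F => (⟨bb 1 b, bb_mem b⟩ : U F))
    ⟨fun _ _ h => bb_inj (congrArg Subtype.val h), fun ⟨_, b, e⟩ => ⟨b, Subtype.ext e.symm⟩⟩).symm

theorem norm_U {g : SL(2, F)} (h : g.1 1 0 = 0) : g ∈ 𝐍[U F] := by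
  refine mem_norm_of_cj_le (cj_le_iff.2 ?_)
  rintro _ ⟨b, rfl⟩
  have hd := g.2
  rw [det_fin_two, h, mul_zero, sub_zero] at hd
  refine ⟨g.1 0 0 ^ 2 * b, ?_⟩
  rw [mul_inv_eq_iff_eq_mul]
  ext i j
  fin_cases i <;> fin_cases j <;> simp [coe_bb, Matrix.mul_apply, Fin.sum_univ_two, h]
  linear_combination (-(g.1 0 0 * b)) * hd

theorem norm_iff (ker : ∀ s, φ s = 1 → s ∈ center SL(2, F)) {g : SL(2, F)} :
    φ g ∈ 𝐍[(U F).map φ] ↔ g.1 1 0 = 0 := by
  refine ⟨fun h => ?_, fun h => map_norm_le φ (zpowers_le.2 (norm_U h)) ⟨g, mem_zpowers g, rfl⟩⟩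
  obtain ⟨_, ⟨x, rfl⟩, e⟩ := conj_mem_of_norm h (mem_map_of_mem φ (bb_mem 1))
  obtain ⟨r, -, hr⟩ := Matrix.SpecialLinearGroup.mem_center_iff.1 (ker ((bb 1 x)⁻¹ * (g * bb 1 1 * g⁻¹)) (by
    simp only [map_mul, map_inv]; rw [← e, inv_mul_cancel]))
  have h1 : (g * bb 1 1).1 = (bb 1 x).1 * scalar (Fin 2) r * g.1 := by
    rw [hr, ← Matrix.SpecialLinearGroup.coe_mul, ← Matrix.SpecialLinearGroup.coe_mul]
    rw [mul_inv_cancel_left, inv_mul_cancel_right]
  have h2 := congrFun (congrFun h1 1) 0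
  have h3 := congrFun (congrFun h1 1) 1
  simp [coe_bb, Matrix.mul_apply, Fin.sum_univ_two] at h2 h3
  by_contra h4
  have h5 : r = 1 := mul_right_cancel₀ h4 (by rw [← h2, one_mul])
  rw [h5, one_mul] at h3
  exact h4 (by linear_combination h3)

/-- The points of the projective line. -/
def pt (b : F) : SL(2, F) := bb 1 b * nn 0

theorem pt_inv_mul (b : F) (g : SL(2, F)) : ((pt b)⁻¹ * g).1 1 0 = b * g.1 1 0 - g.1 0 0 := by
  simp [pt, coe_bb, coe_nn, Matrix.mul_apply, Fin.sum_univ_two, adjugate_fin_two]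
  ring

theorem pt_up {g : SL(2, F)} (h : g.1 1 0 ≠ 0) : ((pt (g.1 0 0 / g.1 1 0))⁻¹ * g).1 1 0 = 0 := by
  rw [pt_inv_mul, div_mul_cancel₀ _ h, sub_self]

theorem pt_conj (b e : F) : ((pt b)⁻¹ * (bb 1 e * pt b)).1 1 0 = -e := by
  rw [pt_inv_mul]
  simp [pt, coe_bb, coe_nn, Matrix.mul_apply, Fin.sum_univ_two]

theorem gen {T : Subgroup SL(2, F)} (h1 : U F ≤ T) {s : SL(2, F)} (hs : s ∈ T) (h0 : s.1 1 0 ≠ 0) (g : SL(2, F)) :
    g ∈ T := by
  have h2 : ∀ c, nn 0 * bb 1 c * (nn 0)⁻¹ ∈ T := fun c => by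
    have k := mul_mem (mul_mem hs (h1 (conj_mem_of_norm' (norm_U (pt_up h0)) (bb_mem c)))) (inv_mem hs)
    have k' := mul_mem (mul_mem (inv_mem (h1 (bb_mem (s.1 0 0 / s.1 1 0)))) k) (h1 (bb_mem (s.1 0 0 / s.1 1 0)))
    convert k' using 1
    rw [pt]; group
  have h3 : ∀ c : F, (nn 0 * bb 1 c * (nn 0)⁻¹).1 = !![1, 0; -c, 1] := fun c => by
    ext i j
    fin_cases i <;> fin_cases j <;>
      simp [coe_bb, coe_nn, Matrix.mul_apply, Fin.sum_univ_two, adjugate_fin_two]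
  have h4 : ∀ g : SL(2, F), g.1 1 0 ≠ 0 → g ∈ T := fun g hg => by
    have hd := g.2
    rw [det_fin_two] at hd
    have e : g = bb 1 ((g.1 0 0 - 1) / g.1 1 0) * (nn 0 * bb 1 (-g.1 1 0) * (nn 0)⁻¹) *
        bb 1 ((g.1 1 1 - 1) / g.1 1 0) := by
      ext i j
      rw [Matrix.SpecialLinearGroup.coe_mul, Matrix.SpecialLinearGroup.coe_mul, h3]
      fin_cases i <;> fin_cases j <;> simp [coe_bb, Matrix.mul_apply, Fin.sum_univ_two] <;> field_simp
      · ring
      · linear_combination -hd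
      · ring
    rw [e]
    exact mul_mem (mul_mem (h1 (bb_mem _)) (h2 _)) (h1 (bb_mem _))
  by_cases hg : g.1 1 0 = 0
  · refine (mul_mem_cancel_right (h2 1)).1 (h4 _ ?_)
    have hd := g.2
    rw [det_fin_two, hg, mul_zero, sub_zero] at hd
    rw [Matrix.SpecialLinearGroup.coe_mul, h3]
    simpa [Matrix.mul_apply, Fin.sum_univ_two, hg] using right_ne_zero_of_mul_eq_one hd
  · exact h4 g hg

theorem up_pow (hF : Fintype.card F = 81) {g : SL(2, F)} (h : g.1 1 0 = 0) : g ^ 240 = 1 := by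
  obtain ⟨a, x, rfl⟩ | ⟨a, x, y, rfl⟩ := bruhat g
  · have h1 : ∀ n : ℕ, ∃ y, bb a x ^ n = bb (a ^ n) y := fun n => by
      induction n with
      | zero => exact ⟨0, by rw [pow_zero, pow_zero, bb_one]⟩
      | succ n ih =>
        obtain ⟨y, e⟩ := ih
        exact ⟨_, by rw [pow_succ, e, bb_mul, pow_succ]⟩
    obtain ⟨y, e⟩ := h1 80
    have h2 : a ^ 80 = 1 := by
      classical
      have := pow_card_eq_one (x := a)
      rwa [Fintype.card_units, hF] at this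
    have h3 : (3 : F) = 0 := by
      have h := FiniteField.cast_card_eq_zero F
      rw [hF] at h
      exact (pow_eq_zero_iff (n := 4) (by norm_num)).1 (by rw [← h]; norm_num)
    rw [show 240 = 80 * 3 from rfl, pow_mul, e, h2, pow_three, bb_add, bb_add,
      show y + (y + y) = 0 by linear_combination y * h3, bb_one]
  · simp [coe_bb, coe_nn, Matrix.mul_apply, Fin.sum_univ_two] at h

theorem fix (hF : Fintype.card F = 81) (ker : ∀ s, φ s = 1 → s ∈ center SL(2, F)) {a : G}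
    (ha : a ∈ 𝐍[(U F).map φ]) {s : SL(2, F)} (hs : Commute a (φ s)) (ho : orderOf (φ s) = 41) (g : SL(2, F)) :
    a * φ g = φ g * a := by
  have low : ∀ i : ℕ, 0 < i → i < 41 → (s ^ i).1 1 0 ≠ 0 := fun i h1 h2 h => by
    have h3 : φ s ^ (i * 240) = 1 := by rw [← map_pow, pow_mul, up_pow hF h, map_one]
    rw [← orderOf_dvd_iff_pow_eq_one, ho] at h3
    have := Nat.le_of_dvd h1 ((Nat.Coprime.dvd_mul_right (by norm_num)).1 h3)
    omega
  let β : Fin 40 → F := fun i => (s ^ (i.1 + 1)).1 0 0 / (s ^ (i.1 + 1)).1 1 0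
  have hβ : ∀ i, (φ (pt (β i)))⁻¹ * φ s ^ (i.1 + 1) ∈ 𝐍[(U F).map φ] := fun i => by
    have := (norm_iff ker).2 (pt_up (low (i.1 + 1) (by omega) (by omega)))
    rwa [map_mul, map_inv, map_pow] at this
  have hfx : ∀ i, (φ (pt (β i)))⁻¹ * a * φ (pt (β i)) ∈ 𝐍[(U F).map φ] := fun i => by
    have := mul_mem (mul_mem (hβ i) ha) (inv_mem (hβ i))
    rw [mul_assoc _ _ a, ← (hs.pow_right _).eq] at this
    convert this using 1
    group
  have hlt : ∀ i j : Fin 40, i < j → β i ≠ β j := fun i j h e => by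
    have h1 := mul_mem (inv_mem (hβ i)) (e ▸ hβ j)
    have h2 : j.1 + 1 = i.1 + 1 + (j.1 - i.1) := by have := Fin.lt_def.1 h; omega
    refine low (j.1 - i.1) (by have := Fin.lt_def.1 h; omega) (by omega) ((norm_iff ker).1 ?_)
    rw [h2, pow_add (φ s) (i.1 + 1)] at h1
    rw [map_pow]
    convert h1 using 1
    group
  have hinj : Function.Injective β := fun i j e => by
    rcases lt_trichotomy i j with h | h | h
    exacts [absurd e (hlt i j h), h, absurd e.symm (hlt j i h)]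
  let T : Subgroup SL(2, F) := (centralizer {a}).comap φ
  have hT : ∀ {g}, g ∈ T ↔ φ g * a = a * φ g := mem_centralizer_singleton_iff
  have hc : ∀ i, bb 1 (β i - β 0) ∈ T := fun i => by
    obtain ⟨_, ⟨c, rfl⟩, e⟩ := conj_mem_of_norm ha (mem_map_of_mem φ (bb_mem (β i - β 0)))
    have e1 : pt (β i) = bb 1 (β i - β 0) * pt (β 0) := by rw [pt, pt, ← mul_assoc, bb_add, sub_add_cancel]
    have h1 := mul_mem (hfx i) (inv_mem (hfx 0))
    have h2 : φ ((pt (β 0))⁻¹ * (bb 1 (-(β i - β 0) + c) * pt (β 0))) ∈ 𝐍[(U F).map φ] := by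
      rw [e1] at h1
      rw [← bb_add, ← bb_inv]
      simp only [map_mul, map_inv] at h1 ⊢
      rw [e]
      convert h1 using 1
      group
    have h3 := (norm_iff ker).1 h2
    rw [pt_conj, neg_eq_zero, neg_add_eq_zero] at h3
    rw [hT, eq_comm, ← mul_inv_eq_iff_eq_mul, ← e, ← h3]
  have h40 : 40 ≤ Nat.card ↥(U F ⊓ T) := by
    simpa using Nat.card_le_card_of_injective (fun i : Fin 40 => (⟨bb 1 (β i - β 0), bb_mem _, hc i⟩ : ↥(U F ⊓ T)))
      fun i j e => hinj (sub_left_injective (bb_inj (congrArg Subtype.val e)))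
  have h81 : U F ⊓ T = U F := by
    refine eq_of_le_of_card_ge inf_le_left ?_
    have h1 := card_dvd_of_le (inf_le_left : U F ⊓ T ≤ U F)
    rw [card_U, hF] at h1 ⊢
    obtain ⟨k, hk, e⟩ := (Nat.dvd_prime_pow (m := 4) Nat.prime_three).1 h1
    rw [e] at h40 ⊢
    interval_cases k <;> omega
  exact (hT.1 (gen (h81.ge.trans inf_le_right) (hT.2 hs.eq.symm) (by simpa using low 1 one_pos (by norm_num)) g)).symm

theorem syl (hF : Fintype.card F = 81) : Syl 3 (U F) ⊤ := by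
  refine ⟨le_top, IsPGroup.of_card (n := 4) (by rw [card_U, hF]; norm_num), fun h => ?_⟩
  have h1 := (U F).card_mul_index
  rw [card_U, Cl.card_sl_two, Nat.card_eq_fintype_card, hF] at h1
  rw [relIndex_top_right] at h
  omega

theorem main (hF : Fintype.card F = 81) (ker : ∀ s, φ s = 1 → s ∈ center SL(2, F)) {A : Subgroup G}
    (nrm : ∀ h ∈ A, ∀ s, ∃ s', h * φ s * h⁻¹ = φ s') (cen : ∀ h ∈ A, (∀ s, h * φ s = φ s * h) → h = 1)
    {s : SL(2, F)} (hs : ∀ a ∈ A, Commute a (φ s)) (ho : orderOf (φ s) = 41) : Nat.card A ≤ 82 := by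
  have := Fact.mk Nat.prime_three
  have hS := (syl hF).map φ
  have h1 : ∀ a : A, ∃ o : Option F, (φ (o.elim 1 pt))⁻¹ * a ∈ 𝐍[(U F).map φ] := fun a => by
    have h2 : (a : G) ∈ 𝐍[(⊤ : Subgroup SL(2, F)).map φ] := mem_norm_of_cj_le (cj_le_iff.2 (by
      rintro _ ⟨g, -, rfl⟩
      obtain ⟨g', e⟩ := nrm a a.2 g
      exact ⟨g', trivial, e.symm⟩))
    obtain ⟨_, ⟨g, -, rfl⟩, e⟩ := hS.conj_eq (hS.cj_norm h2)
    have h3 : (φ g)⁻¹ * a ∈ 𝐍[(U F).map φ] := cj_eq_iff.1 (by rw [← cj_cj, ← e, cj_inv_cj])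
    by_cases hg : g.1 1 0 = 0
    · exact ⟨none, by simpa using mul_mem ((norm_iff ker).2 hg) h3⟩
    · exact ⟨some _, by simpa [mul_assoc] using mul_mem ((norm_iff ker).2 (pt_up hg)) h3⟩
  choose f hf using h1
  have h2 : Function.Injective f := fun a b e => by
    have h3 := mul_mem (inv_mem (hf a)) (e ▸ hf b)
    have h4 : (a : G)⁻¹ * b ∈ 𝐍[(U F).map φ] := by
      convert h3 using 1
      group
    have h5 := mul_mem (inv_mem a.2) b.2
    exact Subtype.ext (inv_mul_eq_one.1 (cen _ h5 (fix hF ker h4 (hs _ h5) ho)))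
  have h3 := Nat.card_le_card_of_injective f h2
  rwa [Finite.card_option, Nat.card_eq_fintype_card (α := F), hF] at h3

omit [Finite G] in
theorem comm {A : Subgroup G} (h : IsMulCommutative A) {a b : G} (ha : a ∈ A) (hb : b ∈ A) : Commute a b :=
  congrArg Subtype.val (h.is_comm.comm ⟨a, ha⟩ ⟨b, hb⟩)

end G41

variable {F : Type*} [Field F] [Fintype F] {H : Subgroup G0} {φ : SL(2, F) →* G0}

theorem Ctx.card41 (hF : Fintype.card F = 81) (c : Ctx H φ) {A : Subgroup G0} (hA : A ≤ H)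
    (h1 : IsMulCommutative A) {y : G0} (hy : y ∈ φ.range) (h2 : y ∈ A) (h3 : orderOf y = 41) : Nat.card A ≤ 82 := by
  have : Finite G0 := finite_group _ _
  obtain ⟨s, rfl⟩ := hy
  exact G41.main hF (fun s => (c.ker s).1) (fun h hh => c.nrm h (hA hh)) (fun h hh => c.cen h (hA hh))
    (fun _ ha => G41.comm h1 ha h2) h3

end Cfsg.Agent.L81
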