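import Mathlib
import Cfsg.Agent.L81.Defs
import Cfsg.Agent.L81.Grp
import Cfsg.Agent.L81.Add

set_option autoImplicit false

namespace Cfsg.Agent.L81

open Cfsg.Lie Cfsg.Lie.ChevalleyDatum Cfsg.Agent.Chev Cfsg.Agent.Chev.S2M Cfsg.Agent.Chev.Chk Matrix
  MatrixGroups Polynomial Module
open Kac (K3 pw js)
open FV (G0)

variable {F : Type*} [Field F] [Fintype F] {H : Subgroup G0} {φ : SL(2, F) →* G0}


/-- `a` acts on the upper unipotent elements as the map `ψ`. -/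
def Acts (φ : SL(2, F) →* G0) (a : G0) (ψ : F → F) : Prop := ∀ b, a * φ (bb 1 b) * a⁻¹ = φ (bb 1 (ψ b))

namespace Syl

/-- `Ctx` for an arbitrary group. -/
structure Cx {G : Type*} [Group G] (H : Subgroup G) (φ : SL(2, F) →* G) : Prop where
  ker : ∀ s, φ s = 1 ↔ s ∈ Subgroup.center SL(2, F)
  le : ∀ s, φ s ∈ H
  nrm : ∀ h ∈ H, ∀ s, ∃ s', h * φ s * h⁻¹ = φ s'
  cen : ∀ h ∈ H, (∀ s, h * φ s = φ s * h) → h = 1

/-- `Acts` for an arbitrary group. -/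
def Ac {G : Type*} [Group G] (φ : SL(2, F) →* G) (a : G) (ψ : F → F) : Prop :=
  ∀ b, a * φ (bb 1 b) * a⁻¹ = φ (bb 1 (ψ b))

variable {G : Type*} [Group G] {H : Subgroup G} {φ : SL(2, F) →* G}

section

omit [Fintype F]

theorem b00 (a : Fˣ) (x : F) : (bb a x).1 0 0 = (a⁻¹ : Fˣ) := rfl
theorem b01 (a : Fˣ) (x : F) : (bb a x).1 0 1 = x := rfl
theorem b10 (a : Fˣ) (x : F) : (bb a x).1 1 0 = 0 := rfl
theorem b11 (a : Fˣ) (x : F) : (bb a x).1 1 1 = a := rfl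
theorem n00 (x : F) : (nn x).1 0 0 = 0 := rfl
theorem n01 (x : F) : (nn x).1 0 1 = -1 := rfl
theorem n10 (x : F) : (nn x).1 1 0 = 1 := rfl
theorem n11 (x : F) : (nn x).1 1 1 = x := rfl

theorem sext {s s' : SL(2, F)} (h0 : s.1 0 0 = s'.1 0 0) (h1 : s.1 0 1 = s'.1 0 1) (h2 : s.1 1 0 = s'.1 1 0)
    (h3 : s.1 1 1 = s'.1 1 1) : s = s' := Subtype.ext (by
  ext i j
  fin_cases i <;> fin_cases j
  exacts [h0, h1, h2, h3])

theorem cmul (s s' : SL(2, F)) : (s * s').1 = s.1 * s'.1 := rfl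

theorem o00 : (1 : SL(2, F)).1 0 0 = 1 := rfl
theorem o01 : (1 : SL(2, F)).1 0 1 = 0 := rfl
theorem o10 : (1 : SL(2, F)).1 1 0 = 0 := rfl
theorem o11 : (1 : SL(2, F)).1 1 1 = 1 := rfl

theorem cneg (s : SL(2, F)) (i j : Fin 2) : (-s).1 i j = -s.1 i j := rfl

theorem ent (s s' : SL(2, F)) (i j : Fin 2) : (s * s').1 i j = s.1 i 0 * s'.1 0 j + s.1 i 1 * s'.1 1 j := by
  rw [cmul, Matrix.mul_apply, Fin.sum_univ_two]

theorem det' (s : SL(2, F)) : s.1 0 0 * s.1 1 1 - s.1 0 1 * s.1 1 0 = 1 := by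
  rw [← det_fin_two]; exact s.2

/-- The lower unipotent elements. -/
def lo (b : F) : SL(2, F) := ⟨!![1, 0; -b, 1], by simp [det_fin_two]⟩

theorem l00 (x : F) : (lo x).1 0 0 = 1 := rfl
theorem l01 (x : F) : (lo x).1 0 1 = 0 := rfl
theorem l10 (x : F) : (lo x).1 1 0 = -x := rfl
theorem l11 (x : F) : (lo x).1 1 1 = 1 := rfl

attribute [local simp] o00 o01 o10 o11 b00 b01 b10 b11 n00 n01 n10 n11 l00 l01 l10 l11

theorem nn_bb (b : F) : nn 0 * bb 1 b = lo b * nn 0 := sext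
  (by simp [ent]) (by simp [ent]) (by simp [ent]) (by simp [ent])

theorem nn_t (d : Fˣ) : nn 0 * bb d (0 : F) = bb d⁻¹ 0 * nn 0 := sext
  (by simp [ent]) (by simp [ent]) (by simp [ent]) (by simp [ent])

theorem t_bb (d : Fˣ) (b : F) : bb d 0 * bb 1 b = bb 1 ((d⁻¹ ^ 2 : Fˣ) * b) * bb d 0 := by
  rw [bb_mul, bb_mul, mul_one, one_mul]
  congr 1
  simp only [Units.val_pow_eq_pow_val, Units.val_inv_eq_inv_val, Units.val_one, mul_one, mul_zero, zero_add, add_zero]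
  field_simp

theorem t_inv (d : Fˣ) : (bb d (0 : F))⁻¹ = bb d⁻¹ 0 := by
  rw [inv_eq_iff_mul_eq_one, bb_mul, mul_inv_cancel, mul_zero, zero_mul, add_zero, bb_one]

theorem u_add (x y : F) : bb 1 (x + y) = bb 1 x * bb 1 y := by
  rw [bb_mul, mul_one]
  simp [add_comm]

theorem pm (c : Cx H φ) {s s' : SL(2, F)} (h : φ s = φ s') : ∃ r : F, r ^ 2 = 1 ∧ ∀ i j, s.1 i j = r * s'.1 i j := by
  obtain ⟨r, h1, h2⟩ := Matrix.SpecialLinearGroup.mem_center_iff.1 ((c.ker (s * s'⁻¹)).1 (by rw [map_mul, map_inv, h, mul_inv_cancel]))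
  refine ⟨r, by simpa using h1, fun i j => ?_⟩
  have : s.1 = scalar (Fin 2) r * s'.1 := by
    rw [h2, ← cmul, inv_mul_cancel_right]
  rw [this, scalar_apply, diagonal_mul]

theorem u_inj (c : Cx H φ) {x y : F} (h : φ (bb 1 x) = φ (bb 1 y)) : x = y := by
  obtain ⟨r, -, k⟩ := pm c h
  have k0 := k 0 0
  have k1 := k 0 1
  simp only [b00, b01, inv_one, Units.val_one, mul_one] at k0 k1
  rw [k1, ← k0, one_mul]

theorem lo_ne (c : Cx H φ) (x : F) : φ (lo 1) ≠ φ (bb 1 x) := fun h => by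
  obtain ⟨r, -, k⟩ := pm c h
  simpa using k 1 0

theorem lift (h3 : (3 : F) = 0) (c : Cx H φ) {s : SL(2, F)} (h : φ s ^ 3 = 1) :
    ∃ s' : SL(2, F), φ s' = φ s ∧ s'.1 0 0 + s'.1 1 1 = 2 := by
  obtain ⟨r, -, k⟩ := pm c (s := s * s * s) (s' := 1) (by rw [map_mul, map_mul, map_one, ← h, pow_succ, pow_two])
  have k0 := k 0 0
  have k1 := k 0 1
  have k2 := k 1 0
  have k3 := k 1 1
  have dt := det' s
  simp only [ent, o00, o01, o10, o11, mul_one, mul_zero] at k0 k1 k2 k3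
  have e : (s.1 0 0 + s.1 1 1) ^ 2 - 1 = 0 := by
    by_contra n
    generalize s.1 0 0 = p, s.1 0 1 = q, s.1 1 0 = v, s.1 1 1 = u at *
    have a1 : q = 0 := (mul_eq_zero.1 (show ((p + u) ^ 2 - 1) * q = 0 by
      linear_combination k1 + q * dt)).resolve_left n
    have a2 : v = 0 := (mul_eq_zero.1 (show ((p + u) ^ 2 - 1) * v = 0 by
      linear_combination k2 + v * dt)).resolve_left n
    have a3 : p - u = 0 := (mul_eq_zero.1 (show ((p + u) ^ 2 - 1) * (p - u) = 0 by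
      linear_combination k0 - k3 + (p - u) * dt)).resolve_left n
    subst a1 a2
    exact n (by linear_combination (p - u) * a3 + 4 * dt + h3)
  rcases mul_eq_zero.1 (show (s.1 0 0 + s.1 1 1 - 2) * (s.1 0 0 + s.1 1 1 + 2) = 0 by linear_combination e - h3) with e | e
  · exact ⟨s, rfl, by linear_combination e⟩
  · refine ⟨-1 * s, by rw [map_mul, (c.ker _).2 (Subgroup.mem_center_iff.2 fun g => by simp), one_mul], ?_⟩
    rw [neg_mul, one_mul, cneg, cneg]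
    linear_combination -e

theorem comm (h3 : (3 : F) = 0) (c : Cx H φ) {s s' : SL(2, F)} (h : φ s * φ s' = φ s' * φ s)
    (t : s'.1 0 0 + s'.1 1 1 = 2) : (s * s').1 0 0 = (s' * s).1 0 0 := by
  obtain ⟨r, r2, k⟩ := pm c (s := s * s') (s' := s' * s) (by rw [map_mul, map_mul, h])
  obtain ⟨r', -, k'⟩ := pm c (s := s * s' * s⁻¹) (s' := s') (by rw [map_mul, map_mul, map_inv, h, mul_inv_cancel_right])
  have t1 : (s * s' * s⁻¹).1 0 0 + (s * s' * s⁻¹).1 1 1 = 2 := by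
    rw [← trace_fin_two, cmul, trace_mul_comm, ← cmul, inv_mul_cancel_left,
      trace_fin_two, t]
  rw [k', k', ← mul_add, t] at t1
  have r1 : r' = 1 := by linear_combination (r' - 1) * h3 - t1
  have : s * s' * s⁻¹ = s' := sext (by rw [k', r1, one_mul]) (by rw [k', r1, one_mul]) (by rw [k', r1, one_mul])
    (by rw [k', r1, one_mul])
  rw [mul_inv_eq_iff_eq_mul.1 this]

theorem lemA (h3 : (3 : F) = 0) (c : Cx H φ) {a : G} (ha : a ∈ H) {d e : Fˣ} (hd : d ^ 4 ≠ 1)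
    (h : φ (bb d 0) * a = a * φ (bb e 0)) :
    (∀ b, ∃ x, a * φ (bb 1 b) * a⁻¹ = φ (bb 1 x)) ∨ ∀ b, ∃ x, a * φ (bb 1 b) * a⁻¹ = φ (lo x) := by
  have cm : ∀ b b', a * φ (bb 1 b) * a⁻¹ * (a * φ (bb 1 b') * a⁻¹) = a * φ (bb 1 b') * a⁻¹ * (a * φ (bb 1 b) * a⁻¹) :=
    fun b b' => by rw [conj_mul, conj_mul, ← map_mul, ← map_mul, ← u_add, ← u_add, add_comm]
  have one : ∀ b, (∃ x, a * φ (bb 1 b) * a⁻¹ = φ (bb 1 x)) ∨ ∃ x, a * φ (bb 1 b) * a⁻¹ = φ (lo x) := fun b => by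
    obtain ⟨s0, e0⟩ := c.nrm a ha (bb 1 b)
    obtain ⟨s, e1, t⟩ := lift h3 c (s := s0) (by
      rw [← e0, conj_pow, ← map_pow, pow_succ, pow_two, ← u_add, ← u_add, show b + b + b = 0 by linear_combination b * h3,
        bb_one, map_one, mul_one, mul_inv_cancel])
    rw [← e1] at e0
    have e2 : φ (bb d 0 * s * bb d⁻¹ 0) = a * φ (bb 1 ((e⁻¹ ^ 2 : Fˣ) * b)) * a⁻¹ := by
      rw [← t_inv, map_mul, map_mul, map_inv, ← e0, ← mul_assoc, ← mul_assoc, h, mul_assoc a, ← map_mul, t_bb, map_mul,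
        mul_assoc, ← _root_.mul_inv_rev, h]
      group
    have k := comm h3 c (s := bb d 0 * s * bb d⁻¹ 0) (by rw [e2, ← e0, cm]) t
    have dt := det' s
    simp only [ent, b00, b01, b10, b11, inv_inv, Units.val_inv_eq_inv_val, mul_zero, zero_mul, add_zero, zero_add] at k
    have hd' : (d : F) ^ 4 - 1 ≠ 0 := fun l => hd (Units.ext (by simpa using sub_eq_zero.1 l))
    have d0 := d.ne_zero
    have k1 : s.1 0 1 * s.1 1 0 = 0 := (mul_eq_zero.1 (show ((d : F) ^ 4 - 1) * (s.1 0 1 * s.1 1 0) = 0 by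
      field_simp at k
      linear_combination -k)).resolve_left hd'
    have k2 : s.1 0 0 = 1 := sub_eq_zero.1 (pow_eq_zero_iff two_ne_zero |>.1
      (show (s.1 0 0 - 1) ^ 2 = 0 by linear_combination s.1 0 0 * t - dt - k1))
    have k3 : s.1 1 1 = 1 := by linear_combination t - k2
    rcases mul_eq_zero.1 k1 with k4 | k4
    · exact .inr ⟨-s.1 1 0, e0.trans (congrArg φ (sext (by simpa using k2) (by simpa using k4) (by simp)
        (by simpa using k3)))⟩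
    · exact .inl ⟨s.1 0 1, e0.trans (congrArg φ (sext (by simpa using k2) (by simp) (by simpa using k4)
        (by simpa using k3)))⟩
  by_contra! n
  obtain ⟨⟨b, n1⟩, b', n2⟩ := n
  obtain ⟨x, e1⟩ := (one b).resolve_left (not_exists.2 n1)
  obtain ⟨y, e2⟩ := (one b').resolve_right (not_exists.2 n2)
  have k := comm h3 c (s := bb 1 y) (s' := lo x) (by rw [← e1, ← e2, cm]) (by simp [one_add_one_eq_two])
  have z : lo (0 : F) = bb 1 0 := sext (by simp) (by simp) (by simp) (by simp)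
  simp only [ent, b00, b01, b10, l00, l01, l10, inv_one, Units.val_one,
    mul_one, mul_zero, add_zero, mul_neg, add_neg_eq_iff_eq_add, left_eq_add, mul_eq_zero] at k
  rcases k with rfl | rfl
  · exact n2 0 (z ▸ e2)
  · exact n1 0 (z ▸ e1)

theorem mkψ (c : Cx H φ) {a : G} (h : ∀ b, ∃ x, a * φ (bb 1 b) * a⁻¹ = φ (bb 1 x)) :
    ∃ ψ : F →+ F, Function.Injective ψ ∧ Ac φ a ψ := by
  choose ψ hψ using h
  refine ⟨AddMonoidHom.mk' ψ fun x y => u_inj c ?_, fun x y e => u_inj c ?_, hψ⟩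
  · rw [← hψ, u_add, u_add, map_mul, map_mul, ← hψ, ← hψ, conj_mul]
  · have := (hψ x).trans ((congrArg (fun z => φ (bb 1 z)) e).trans (hψ y).symm)
    exact mul_left_cancel (mul_right_cancel this)

theorem eqv (c : Cx H φ) {a : G} {ψ : F → F} (h : Ac φ a ψ) {d e : Fˣ} (k : a * φ (bb d 0) = φ (bb e 0) * a) (b : F) :
    ψ ((d⁻¹ ^ 2 : Fˣ) * b) = (e⁻¹ ^ 2 : Fˣ) * ψ b := by
  refine u_inj c ?_
  rw [← h, ← mul_inv_eq_iff_eq_mul.2 (t_bb d b), ← mul_inv_eq_iff_eq_mul.2 (t_bb e _), map_mul, map_mul, map_mul, map_mul,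
    ← h, map_inv, map_inv, ← mul_inv_eq_iff_eq_mul.2 k]
  group

theorem an {a : G} {d : Fˣ} (h : a * φ (bb d 0) = φ (bb d 0) * a) :
    φ (bb d 0) * (a * φ (nn 0)) = a * φ (nn 0) * φ (bb d⁻¹ 0) := by
  rw [← mul_assoc, ← h, mul_assoc, mul_assoc, ← map_mul, ← map_mul, nn_t, inv_inv]

theorem an_lo (a : G) (b : F) : a * φ (nn 0) * φ (bb 1 b) * (a * φ (nn 0))⁻¹ = a * φ (lo b) * a⁻¹ := by
  rw [mul_assoc a, ← map_mul, nn_bb, map_mul]
  group

end

attribute [local simp] o00 o01 o10 o11 b00 b01 b10 b11 n00 n01 n10 n11 l00 l01 l10 l11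

theorem three_eq (hF : Fintype.card F = 81) : (3 : F) = 0 := by
  have := FiniteField.cast_card_eq_zero F
  rw [hF] at this
  exact pow_eq_zero_iff (n := 4) (by norm_num) |>.1 (by rw [← this]; norm_num)

theorem dich (hF : Fintype.card F = 81) (c : Cx H φ) {a : G} (ha : a ∈ H) {d : Fˣ} (hd : d ^ 4 ≠ 1)
    (h : a * φ (bb d 0) = φ (bb d 0) * a) :
    (∃ ψ : F →+ F, Function.Injective ψ ∧ Ac φ a ψ ∧ ∀ b, ψ ((d⁻¹ ^ 2 : Fˣ) * b) = (d⁻¹ ^ 2 : Fˣ) * ψ b) ∨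
      ∃ ψ : F →+ F, Function.Injective ψ ∧ Ac φ (a * φ (nn 0)) ψ ∧
        ∀ b, ψ ((d⁻¹ ^ 2 : Fˣ) * b) = (d ^ 2 : Fˣ) * ψ b := by
  have h3 := three_eq hF
  rcases lemA h3 c ha hd h.symm with k | k
  · obtain ⟨ψ, h1, h2⟩ := mkψ c k
    exact .inl ⟨ψ, h1, h2, eqv c h2 h⟩
  rcases lemA h3 c (mul_mem ha (c.le _)) hd (an h) with k' | k'
  · obtain ⟨ψ, h1, h2⟩ := mkψ c k'
    refine .inr ⟨ψ, h1, h2, fun b => ?_⟩
    have h' : a * φ (bb d⁻¹ 0) = φ (bb d⁻¹ 0) * a := by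
      rw [← t_inv, map_inv]
      exact (show Commute a _ from h).inv_right
    have := eqv c h2 (d := d) (e := d⁻¹) (by simpa only [inv_inv] using (an h').symm) b
    rwa [inv_inv] at this
  exfalso
  obtain ⟨ψ, h1, h2⟩ := mkψ c (a := (φ (nn 0))⁻¹ * a) fun b => (k b).imp fun x e => by
    rw [← mul_inv_eq_iff_eq_mul.2 (nn_bb x), map_mul, map_mul, map_inv] at e
    calc _ = (φ (nn 0))⁻¹ * (a * φ (bb 1 b) * a⁻¹) * φ (nn 0) := by group
      _ = _ := by rw [e]; group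
  obtain ⟨x, e⟩ := k' 1
  obtain ⟨b, rfl⟩ := Finite.surjective_of_injective h1 x
  rw [an_lo, ← mul_inv_eq_iff_eq_mul.2 (nn_bb (ψ b)), map_mul, map_mul, map_inv, ← h2] at e
  refine lo_ne c b ?_
  calc _ = a⁻¹ * (a * φ (lo 1) * a⁻¹) * a := by group
    _ = _ := by rw [e]; group

theorem eq_one (hF : Fintype.card F = 81) (c : Cx H φ) {a : G} (ha : a ∈ H) {d : Fˣ} (hd : d ^ 4 ≠ 1)
    (h : a * φ (bb d 0) = φ (bb d 0) * a) (h1 : Ac φ a id) : a = 1 := by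
  have h3 := three_eq hF
  have cu : ∀ b, Commute a (φ (bb 1 b)) := fun b => mul_inv_eq_iff_eq_mul.1 (h1 b)
  rcases lemA h3 c (mul_mem ha (c.le _)) hd (an h) with k | k
  · obtain ⟨x, e⟩ := k 1
    rw [an_lo, ← show a * φ (bb 1 x) * a⁻¹ = φ (bb 1 x) from h1 x] at e
    exact absurd (mul_left_cancel (mul_right_cancel e)) (lo_ne c x)
  obtain ⟨x, e⟩ := k 1
  rw [an_lo] at e
  have m1 : bb 1 1 * lo 1 * bb 1 1 * nn (0 : F) = 1 := sext (by simp [ent]) (by simp [ent])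
    (by simp [ent]) (by simp [ent])
  have e1 : φ (bb 1 1 * lo x * bb 1 1) = a * (φ (nn 0))⁻¹ * a⁻¹ := by
    rw [← map_inv, ← eq_inv_of_mul_eq_one_left m1, map_mul, map_mul, map_mul, map_mul, ← conj_mul, ← conj_mul, e,
      show a * φ (bb 1 1) * a⁻¹ = φ (bb 1 1) from h1 1]
  obtain ⟨r, r2, k⟩ := pm c (s := bb 1 1 * lo x * bb 1 1 * bb d⁻¹ 0) (s' := bb d 0 * (bb 1 1 * lo x * bb 1 1)) (by
    have l : φ (nn 0) * φ (bb d 0) = (φ (bb d 0))⁻¹ * φ (nn 0) := by rw [← map_mul, nn_t, map_mul, ← t_inv, map_inv]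
    rw [map_mul, map_mul _ (bb d 0), e1, ← t_inv, map_inv]
    calc _ = a * (φ (nn 0))⁻¹ * (φ (bb d 0) * a)⁻¹ := by group
      _ = a * (φ (nn 0))⁻¹ * ((φ (bb d 0))⁻¹ * φ (nn 0)) * (φ (nn 0))⁻¹ * a⁻¹ := by rw [← h]; group
      _ = a * φ (bb d 0) * (φ (nn 0))⁻¹ * a⁻¹ := by rw [← l]; group
      _ = _ := by rw [h]; group)
  have k0 := k 0 0
  simp only [ent, b00, b01, b10, b11, l00, l01, l10, l11, inv_one, Units.val_one,
    inv_inv, Units.val_inv_eq_inv_val, mul_one, one_mul, mul_zero, zero_mul, add_zero] at k0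
  have d0 := d.ne_zero
  obtain rfl : x = 1 := by
    by_contra n
    have n' : 1 + -x ≠ 0 := fun l => n (by linear_combination -l)
    refine hd (Units.ext ?_)
    field_simp at k0
    simp only [Units.val_pow_eq_pow_val, Units.val_one]
    linear_combination ((d : F) ^ 2 + r) * k0 + r2
  have cn : Commute a (φ (nn 0)) := by
    rw [eq_inv_of_mul_eq_one_left m1, map_inv] at e1
    simpa using (show Commute a _ from mul_inv_eq_iff_eq_mul.1 e1.symm).inv_right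
  have cl : ∀ b, Commute a (φ (lo b)) := fun b => by
    rw [← mul_inv_eq_iff_eq_mul.2 (nn_bb b), map_mul, map_mul, map_inv]
    exact (cn.mul_right (cu b)).mul_right cn.inv_right
  have cb : ∀ e y, Commute a (φ (bb e y)) := fun e y => by
    have : bb e y = bb 1 ((e⁻¹ : Fˣ) : F) * lo (e : F) * bb 1 ((e⁻¹ : Fˣ) : F) * nn 0 * bb 1 (e * y) := sext
      (by simp [ent]) (by simp [ent]) (by simp [ent])
      (by simp [ent])
    rw [this, map_mul, map_mul, map_mul, map_mul]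
    exact ((((cu _).mul_right (cl _)).mul_right (cu _)).mul_right cn).mul_right (cu _)
  refine c.cen a ha fun s => ?_
  rcases bruhat s with ⟨e, y, rfl⟩ | ⟨e, y, z, rfl⟩
  · exact cb e y
  · have : nn z = nn 0 * bb 1 z := sext (by simp [ent]) (by simp [ent]) (by simp [ent])
      (by simp [ent])
    rw [this, map_mul, map_mul]
    exact (cb e y).mul_right (cn.mul_right (cu z))

end Syl

theorem Ctx.dich (hF : Fintype.card F = 81) (c : Ctx H φ) {a : G0} (ha : a ∈ H) {d : Fˣ} (hd : d ^ 4 ≠ 1)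
    (h : a * φ (bb d 0) = φ (bb d 0) * a) :
    (∃ ψ : F →+ F, Function.Injective ψ ∧ Acts φ a ψ ∧ ∀ b, ψ ((d⁻¹ ^ 2 : Fˣ) * b) = (d⁻¹ ^ 2 : Fˣ) * ψ b) ∨
      ∃ ψ : F →+ F, Function.Injective ψ ∧ Acts φ (a * φ (nn 0)) ψ ∧
        ∀ b, ψ ((d⁻¹ ^ 2 : Fˣ) * b) = (d ^ 2 : Fˣ) * ψ b := 
  Syl.dich hF ⟨c.ker, c.le, c.nrm, c.cen⟩ ha hd h

theorem Ctx.eq_one (hF : Fintype.card F = 81) (c : Ctx H φ) {a : G0} (ha : a ∈ H) {d : Fˣ} (hd : d ^ 4 ≠ 1)
    (h : a * φ (bb d 0) = φ (bb d 0) * a) (h1 : Acts φ a id) : a = 1 := 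
  Syl.eq_one hF ⟨c.ker, c.le, c.nrm, c.cen⟩ ha hd h h1

end Cfsg.Agent.L81
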