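import Mathlib
import Cfsg.Agent.L81.Defs
import Cfsg.Agent.L81.Syl

/-!
# Centralisers of split torus elements
-/

set_option autoImplicit false

namespace Cfsg.Agent.L81

open Cfsg.Lie Cfsg.Lie.ChevalleyDatum Cfsg.Agent.Chev Cfsg.Agent.Chev.S2M Cfsg.Agent.Chev.Chk Matrix
  MatrixGroups Polynomial Module
open Kac (K3 pw js)
open FV (G0)

variable {F : Type*} [Field F] [Fintype F] {H : Subgroup G0} {φ : SL(2, F) →* G0}

namespace GrpC

theorem form (hF : Fintype.card F = 81) {ν ρ : Fˣ} (hν : orderOf ν = 40 ∨ orderOf ν = 5) {ψ : F →+ F}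
    (hψ : Function.Injective ψ) (h : ∀ b, ψ (ν * b) = ρ * ψ b) :
    ∃ i < 4, ν ^ 3 ^ i = ρ ∧ ∃ κ : Fˣ, ∀ b, ψ b = κ * b ^ 3 ^ i := by
  obtain ⟨ι⟩ := exists_iota hF
  have h1 : ψ 1 ≠ 0 := fun e => one_ne_zero (hψ (e.trans (map_zero ψ).symm))
  obtain ⟨i, hi, κ, -, hc⟩ := add_hom hF ι (ν := (ν : F)) (by rwa [orderOf_units])
    (c := ι.toAddMonoidHom.comp ψ) (fun e => h1 (ι.injective (by simpa using DFunLike.congr_fun e 1)))
    (ρ := ι ρ) (fun b => by simp [h])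
  have h2 : κ = ι (ψ 1) := by simpa using (hc 1).symm
  have h3 : ∀ b, ψ b = ψ 1 * b ^ 3 ^ i := fun b => ι.injective (by
    rw [map_mul, map_pow, ← h2]; exact hc b)
  refine ⟨i, hi, Units.ext ?_, Units.mk0 _ h1, h3⟩
  have h4 := h 1
  rw [mul_one, h3, mul_comm] at h4
  simpa using mul_right_cancel₀ h1 h4

omit [Fintype F] in
theorem bb_inj (c : Ctx H φ) {x y : F} (h : φ (bb 1 x) = φ (bb 1 y)) : x = y := by
  have e : bb 1 x = bb 1 (x - y) * bb 1 y := by rw [bb_mul]; simp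
  rw [e, map_mul, mul_eq_right, c.ker] at h
  have h2 := congrArg (fun g : SL(2, F) => g.1 0 0) (Subgroup.mem_center_iff.1 h (nn 0))
  simpa [coe_bb, coe_nn, mul_apply, Fin.sum_univ_two, sub_eq_zero, eq_comm] using h2

omit [Fintype F] in
theorem conj_bb (a : Fˣ) (b : F) : bb a 0 * bb 1 b * (bb a 0)⁻¹ = bb 1 ((a⁻¹ ^ 2 : Fˣ) * b) := by
  rw [mul_inv_eq_iff_eq_mul, bb_mul, bb_mul]
  congr 1
  · simp
  · simp [pow_two, mul_assoc, mul_comm b]

omit [Fintype F] in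
theorem bb_pow (a : Fˣ) (n : ℕ) : bb a (0 : F) ^ n = bb (a ^ n) 0 := by
  induction n with
  | zero => simp [bb_one]
  | succ n ih => rw [pow_succ, ih, bb_mul, pow_succ]; simp

theorem gconj {G : Type*} [Group G] (a z u : G) : a * z * u * (a * z)⁻¹ = a * (z * u * z⁻¹) * a⁻¹ := by group

theorem gcomm {G : Type*} [Group G] {a b t : G} (ha : a * t = t * a) (hb : b * t = t * b) :
    a * b⁻¹ * t = t * (a * b⁻¹) :=
  (Commute.mul_left (show Commute a t from ha) (Commute.inv_left (show Commute b t from hb))).eq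

theorem gid {G : Type*} [Group G] {a b m u v : G} (ha : a * m * u * (a * m)⁻¹ = v)
    (hb : b * m * u * (b * m)⁻¹ = v) : a * b⁻¹ * v * (a * b⁻¹)⁻¹ = v := by
  conv_lhs => rw [← hb]
  rw [← ha]; group

theorem uniq (hF : Fintype.card F = 81) (c : Ctx H φ) {d : Fˣ} (hd : d ^ 4 ≠ 1) {a b m : G0} (ha : a ∈ H)
    (hb : b ∈ H) (h1 : a * φ (bb d 0) = φ (bb d 0) * a) (h2 : b * φ (bb d 0) = φ (bb d 0) * b) {ψ : F → F}
    (hψ : Function.Injective ψ) (h3 : Acts φ (a * m) ψ) (h4 : Acts φ (b * m) ψ) : a = b := by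
  refine mul_inv_eq_one.1 (c.eq_one hF (H.mul_mem ha (H.inv_mem hb)) hd (gcomm h1 h2) fun x => ?_)
  obtain ⟨y, rfl⟩ := Finite.surjective_of_injective hψ x
  exact gid (h3 y) (h4 y)

theorem ord_sq {G : Type*} [Group G] {d : G} {n k : ℕ} (hd : orderOf d = n) (h : n / Nat.gcd n 2 = k) :
    orderOf (d⁻¹ ^ 2) = k := by
  rw [orderOf_pow' _ two_ne_zero, orderOf_inv, hd, h]

theorem dvd1 {G : Type*} [Group G] {ν : G} {k : ℕ} (h : ν ^ (k + 1) = ν) : orderOf ν ∣ k :=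
  orderOf_dvd_of_pow_eq_one (by rwa [pow_succ, mul_eq_right] at h)

theorem dvd2 {G : Type*} [Group G] {d : G} {k : ℕ} (h : (d⁻¹ ^ 2) ^ k = d ^ 2) : orderOf (d⁻¹ ^ 2) ∣ k + 1 :=
  orderOf_dvd_of_pow_eq_one (by rw [pow_succ, h]; simp)

end GrpC

open GrpC

theorem Ctx.invol (hF : Fintype.card F = 81) (c : Ctx H φ) {d : Fˣ} (hd : orderOf d = 80) {a : G0} (ha : a ∈ H)
    (h : a * φ (bb d 0) = φ (bb d 0) * a) (h2 : a ^ 2 = 1) : a = 1 ∨ a = φ (bb d 0) ^ 20 := by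
  have h4 : d ^ 4 ≠ 1 := fun e => by simpa [hd] using orderOf_dvd_of_pow_eq_one e
  have hν : orderOf (d⁻¹ ^ 2) = 40 := ord_sq hd (by norm_num)
  rcases c.dich hF ha h4 h with ⟨ψ, h5, h6, h7⟩ | ⟨ψ, h5, -, h7⟩
  · obtain ⟨i, hi, e, κ, hκ⟩ := form hF (Or.inl hν) h5 h7
    have hi0 : i = 0 := by
      interval_cases i
      · rfl
      · exact absurd (hν ▸ dvd1 (k := 2) e) (by norm_num)
      · exact absurd (hν ▸ dvd1 (k := 8) e) (by norm_num)
      · exact absurd (hν ▸ dvd1 (k := 26) e) (by norm_num)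
    subst hi0
    simp only [pow_zero, pow_one] at hκ
    have h8 : (κ : F) * κ = 1 := by
      have h9 := gconj a a (φ (bb 1 1))
      rw [h6, h6, ← pow_two, h2, one_mul, inv_one, mul_one, hκ, hκ, mul_one] at h9
      exact (bb_inj c h9).symm
    rcases mul_self_eq_one_iff.1 h8 with e1 | e1
    · exact Or.inl (c.eq_one hF ha h4 h fun b => by rw [h6, hκ, e1, one_mul, id])
    · right
      have h40 : (((d ^ 20)⁻¹ ^ 2 : Fˣ) : F) = -1 := by
        have h9 : orderOf (((d ^ 20)⁻¹ ^ 2 : Fˣ) : F) = 2 := by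
          rw [orderOf_units]
          exact ord_sq (n := 4) (by rw [orderOf_pow' _ (by norm_num), hd]; norm_num) (by norm_num)
        exact IsPrimitiveRoot.eq_neg_one_of_two_right (IsPrimitiveRoot.iff_orderOf.2 h9)
      have h9 : a * φ (bb d 0) ^ 20 = 1 := by
        refine c.eq_one hF (H.mul_mem ha (H.pow_mem (c.le _) _)) h4
          (Commute.mul_left (show Commute a _ from h) ((Commute.refl _).pow_left 20)).eq fun b => ?_
        rw [gconj, ← map_pow, ← map_inv, ← map_mul, ← map_mul, bb_pow, conj_bb, h6, hκ, e1, h40]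
        simp
      rw [pow_two] at h2
      exact mul_left_cancel (h2.trans h9.symm)
  · obtain ⟨i, hi, e, -⟩ := form hF (Or.inl hν) h5 h7
    have h8 := dvd2 e
    rw [hν] at h8
    interval_cases i <;> simp at h8

theorem Ctx.card_cent (hF : Fintype.card F = 81) (c : Ctx H φ) {d : Fˣ} (hd : orderOf d = 5) {A : Subgroup G0}
    (hA : A ≤ H) (h : ∀ a ∈ A, a * φ (bb d 0) = φ (bb d 0) * a) : Nat.card A ≤ 160 := by
  have h4 : d ^ 4 ≠ 1 := fun e => by simpa [hd] using orderOf_dvd_of_pow_eq_one e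
  have hν : orderOf (d⁻¹ ^ 2) = 5 := ord_sq hd (by norm_num)
  have key : ∀ a : A, ∃ p : Bool × Fˣ, ∃ ψ : F → F, Function.Injective ψ ∧
      Acts φ (a * bif p.1 then φ (nn 0) else 1) ψ ∧ ∀ b, ψ b = p.2 * b ^ bif p.1 then 9 else 1 := by
    intro a
    rcases c.dich hF (hA a.2) h4 (h a a.2) with ⟨ψ, h5, h6, h7⟩ | ⟨ψ, h5, h6, h7⟩
    · obtain ⟨i, hi, e, κ, hκ⟩ := form hF (Or.inr hν) h5 h7
      have hi0 : i = 0 := by
        interval_cases i
        · rfl
        · exact absurd (hν ▸ dvd1 (k := 2) e) (by norm_num)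
        · exact absurd (hν ▸ dvd1 (k := 8) e) (by norm_num)
        · exact absurd (hν ▸ dvd1 (k := 26) e) (by norm_num)
      subst hi0
      exact ⟨(false, κ), ψ, h5, by rwa [cond_false, mul_one], hκ⟩
    · obtain ⟨i, hi, e, κ, hκ⟩ := form hF (Or.inr hν) h5 h7
      have h8 := dvd2 e
      rw [hν] at h8
      have hi2 : i = 2 := by interval_cases i <;> simp at h8 ⊢
      subst hi2
      exact ⟨(true, κ), ψ, h5, h6, hκ⟩
  choose p ψ h5 h6 h7 using key
  have h8 : Function.Injective p := fun a b e => by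
    have e2 : ψ a = ψ b := funext fun x => by rw [h7, h7, e]
    exact Subtype.ext (uniq hF c h4 (hA a.2) (hA b.2) (h a a.2) (h b b.2) (h5 a) (h6 a) (e ▸ e2 ▸ h6 b))
  have h9 := Nat.card_le_card_of_injective p h8
  rwa [Nat.card_prod, Nat.card_units, Nat.card_eq_fintype_card (α := F), Nat.card_eq_fintype_card (α := Bool),
    hF] at h9

end Cfsg.Agent.L81
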