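import Mathlib
import Cfsg.Agent.L81.Defs
import Cfsg.Agent.L81.GrpC
import Cfsg.Agent.L81.G41
import Cfsg.Agent.E7V.Aut
import Cfsg.Agent.Chev.StFin

/-!
# Abelian subgroups of order prime to `3` are small
-/

set_option autoImplicit false

namespace Cfsg.Agent.L81

open Cfsg.Lie Cfsg.Lie.ChevalleyDatum Cfsg.Agent.Chev Cfsg.Agent.Chev.S2M Cfsg.Agent.Chev.Chk Matrix
  MatrixGroups Polynomial Module
open Kac (K3 pw js)
open FV (G0)

variable {F : Type*} [Field F] [Fintype F] {H : Subgroup G0} {φ : SL(2, F) →* G0}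

namespace GrpA

section Gen

variable {G : Type*} [Group G] [Finite G]

theorem conj_p {p : ℕ} [Fact p.Prime] (h : (Nat.card G).factorization p = 1) {a b : G} (ha : orderOf a = p)
    (hb : orderOf b = p) : ∃ g : G, ∃ s ∈ Subgroup.zpowers a, g * s * g⁻¹ = b := by
  let P : Sylow p G := Sylow.ofCard (Subgroup.zpowers a) (by rw [Nat.card_zpowers, ha, h, pow_one])
  let Q : Sylow p G := Sylow.ofCard (Subgroup.zpowers b) (by rw [Nat.card_zpowers, hb, h, pow_one])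
  obtain ⟨g, hg⟩ := MulAction.exists_smul_eq G P Q
  have h1 : b ∈ ((g • P : Sylow p G) : Subgroup G) := hg ▸ Subgroup.mem_zpowers b
  rw [Sylow.coe_subgroup_smul, Subgroup.mem_smul_pointwise_iff_exists] at h1
  exact ⟨g, h1⟩

theorem le_nrm {H X : Subgroup G} (hn : ∀ h ∈ H, ∀ x ∈ X, h * x * h⁻¹ ∈ X) :
    H ≤ Subgroup.normalizer (X : Set G) := fun h hh =>
  Subgroup.mem_normalizer_fintype (S := (X : Set G)) (hn h hh)

theorem card_dvd {H X : Subgroup G} (hn : ∀ h ∈ H, ∀ x ∈ X, h * x * h⁻¹ ∈ X)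
    (hc : ∀ h ∈ H, (∀ x ∈ X, h * x = x * h) → h = 1) : Nat.card H ∣ Nat.card (MulAut X) := by
  refine Subgroup.card_dvd_of_injective (X.normalizerMonoidHom.comp (Subgroup.inclusion (le_nrm hn)))
    ((injective_iff_map_eq_one _).2 fun h hh => Subtype.ext (hc h h.2 fun x hx => ?_))
  have h1 : Subgroup.inclusion (le_nrm hn) h ∈ X.normalizerMonoidHom.ker := hh
  rw [Subgroup.normalizerMonoidHom_ker] at h1
  exact (h1 x hx).symm

theorem mem_of {H X : Subgroup G} (hl : X ≤ H) (hn : ∀ h ∈ H, ∀ x ∈ X, h * x * h⁻¹ ∈ X)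
    (h8 : Nat.card H ∣ 8 * Nat.card X) {y : G} (hy : y ∈ H) (ho : Nat.gcd 8 (orderOf y) = 1) : y ∈ X := by
  have hN : (X.subgroupOf H).Normal := (Subgroup.normal_subgroupOf_iff_le_normalizer hl).2 (le_nrm hn)
  have h1 := (X.subgroupOf H).index_mul_card
  rw [Nat.card_congr (Subgroup.subgroupOfEquivOfLe hl).toEquiv] at h1
  obtain ⟨k, hk⟩ : (X.subgroupOf H).index ∣ 8 :=
    Nat.dvd_of_mul_dvd_mul_right Nat.card_pos (h1 ▸ h8)
  have h2 : (⟨y, hy⟩ : H) ^ 8 ∈ X.subgroupOf H := by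
    rw [hk, pow_mul]
    exact Subgroup.pow_mem _ (Subgroup.pow_index_mem _ _) _
  exact (Subgroup.zpowers_le.2 (show y ^ 8 ∈ X from h2)) (mem_zpowers_pow_iff.2 ho)

theorem small {H X A : Subgroup G} (hl : X ≤ H) (hn : ∀ h ∈ H, ∀ x ∈ X, h * x * h⁻¹ ∈ X)
    (hc : ∀ h ∈ H, (∀ x ∈ X, h * x = x * h) → h = 1) (c1 : Nat.card (MulAut X) = 2125440)
    (c2 : Nat.card X = 265680) (hA : A ≤ H) (h1 : IsMulCommutative A) (h3 : ¬ 3 ∣ Nat.card A)
    (h41 : ∀ y ∈ X, y ∈ A → orderOf y = 41 → Nat.card A ≤ 82) {t : G} (ht : t ∈ X) (h5 : orderOf t = 5)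
    (hB : ∀ B ≤ H, (∀ b ∈ B, b * t = t * b) → Nat.card B ≤ 160) : Nat.card A < 256 := by
  have d1 := card_dvd hn hc
  rw [c1] at d1
  have d2 : Nat.card H ∣ 8 * Nat.card X := by rw [c2]; exact d1
  have d3 : Nat.card A ∣ 26240 := by
    have d0 : Nat.card A ∣ 3 ^ 4 * 26240 := (Subgroup.card_dvd_of_le hA).trans d1
    exact (((Nat.Prime.coprime_iff_not_dvd Nat.prime_three).2 h3).symm.pow_right 4).dvd_of_dvd_mul_left d0
  by_cases e1 : 41 ∣ Nat.card A
  · have : Fact (Nat.Prime 41) := ⟨by norm_num⟩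
    obtain ⟨y, hy⟩ := exists_prime_orderOf_dvd_card' 41 e1
    rw [← Subgroup.orderOf_coe] at hy
    have := h41 y (mem_of hl hn d2 (hA y.2) (by rw [hy]; norm_num)) y.2 hy
    omega
  by_cases e2 : 5 ∣ Nat.card A
  · have : Fact (Nat.Prime 5) := ⟨by norm_num⟩
    obtain ⟨y, hy⟩ := exists_prime_orderOf_dvd_card' 5 e2
    rw [← Subgroup.orderOf_coe] at hy
    have hX := mem_of hl hn d2 (hA y.2) (by rw [hy]; norm_num)
    obtain ⟨g, s, hs, e⟩ := conj_p (G := X) (p := 5) (a := ⟨y, hX⟩) (b := ⟨t, ht⟩)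
      (by rw [c2, show 265680 = 5 * 53136 from rfl, Nat.factorization_mul (by norm_num) (by norm_num)]
          simp [Nat.factorization_eq_zero_of_not_dvd, Nat.Prime.factorization_self (show Nat.Prime 5 by norm_num)])
      (by rw [← Subgroup.orderOf_coe, hy]) (by rw [← Subgroup.orderOf_coe, h5])
    have hsA : (s : G) ∈ A := by
      obtain ⟨k, rfl⟩ := hs
      exact A.zpow_mem y.2 k
    have e' : (g : G) * s * (g : G)⁻¹ = t := congrArg Subtype.val e
    have := hB (A.map (MulAut.conj (g : G)).toMonoidHom) (by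
      rintro _ ⟨a, ha, rfl⟩
      exact H.mul_mem (H.mul_mem (hl g.2) (hA ha)) (H.inv_mem (hl g.2))) (by
      rintro _ ⟨a, ha, rfl⟩
      have h6 : a * s = s * a := congrArg Subtype.val (h1.is_comm.comm (⟨a, ha⟩ : A) ⟨s, hsA⟩)
      change (g * a * (g : G)⁻¹) * t = t * (g * a * (g : G)⁻¹)
      rw [← e', conj_mul, conj_mul, h6])
    rw [Subgroup.card_map_of_injective (MulAut.conj (g : G)).injective] at this
    omega
  have d4 : Nat.card A ∣ 128 := by
    have d0 : Nat.card A ∣ 5 * 41 * 128 := d3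
    refine Nat.Coprime.dvd_of_dvd_mul_left (Nat.Coprime.mul_right ?_ ?_) d0
    · exact ((Nat.Prime.coprime_iff_not_dvd (by norm_num)).2 e2).symm
    · exact ((Nat.Prime.coprime_iff_not_dvd (by norm_num)).2 e1).symm
  have := Nat.le_of_dvd (by norm_num) d4
  omega

end Gen

theorem cards (hF : Fintype.card F = 81) {G : Type*} [Group G] (φ : SL(2, F) →* G)
    (hk : ∀ s, φ s = 1 ↔ s ∈ Subgroup.center SL(2, F)) :
    Nat.card (MulAut φ.range) = 2125440 ∧ Nat.card φ.range = 265680 := by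
  obtain ⟨-, c1, c2⟩ := E7V.Aut.psl (F := F) 3 4 2 2125440 265680 (by norm_num) (by norm_num) hF le_rfl
    (by norm_num) (by decide +kernel) (by decide +kernel) (by norm_num)
  let e : ProjectiveSpecialLinearGroup (Fin 2) F ≃* φ.range :=
    (QuotientGroup.quotientMulEquivOfEq (Subgroup.ext fun s => (hk s).symm)).trans
      (QuotientGroup.quotientKerEquivRange φ)
  exact ⟨(Nat.card_congr (MulAut.congr e).toEquiv).symm.trans c1, (Nat.card_congr e.toEquiv).symm.trans c2⟩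

end GrpA

theorem Ctx.small (hF : Fintype.card F = 81) (c : Ctx H φ) {A : Subgroup G0} (hA : A ≤ H)
    (h1 : IsMulCommutative A) (h3 : ¬ 3 ∣ Nat.card A) : Nat.card A < 256 := by
  have : Finite G0 := finite_group _ _
  obtain ⟨c3, c2⟩ := GrpA.cards hF φ c.ker
  obtain ⟨a, ha⟩ := exists_gen hF
  have hd : orderOf (a ^ 16) = 5 := by rw [orderOf_pow' _ (by norm_num), ha]; norm_num
  generalize a ^ 16 = d at hd
  have : Fact (Nat.Prime 5) := ⟨by norm_num⟩
  have h5 : orderOf (φ (bb d 0)) = 5 := by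
    refine orderOf_eq_prime ?_ fun e => ?_
    · rw [← map_pow, GrpC.bb_pow, ← hd, pow_orderOf_eq_one, bb_one, map_one]
    · have h2 := congrArg (fun g : SL(2, F) => g.1 0 1) (Subgroup.mem_center_iff.1 ((c.ker _).1 e) (nn 0))
      have h4 : d = d⁻¹ := Units.ext (by simpa [coe_bb, coe_nn, mul_apply, Fin.sum_univ_two] using h2)
      have h6 : d ^ 2 = 1 := by rw [pow_two]; exact mul_eq_one_iff_eq_inv.2 h4
      exact absurd (hd ▸ orderOf_dvd_of_pow_eq_one h6) (by norm_num)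
  refine GrpA.small (X := φ.range) (by rintro _ ⟨s, rfl⟩; exact c.le s) ?_
    (fun h hh hc => c.cen h hh fun s => hc _ ⟨s, rfl⟩) c3
    c2 hA h1 h3 (fun y hy h2 h4 => c.card41 hF hA h1 hy h2 h4)
    ⟨_, rfl⟩ h5 fun B hB h => c.card_cent hF hd hB h
  rintro h hh _ ⟨s, rfl⟩
  obtain ⟨s', hs⟩ := c.nrm h hh s
  exact ⟨s', hs.symm⟩

end Cfsg.Agent.L81
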