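import Mathlib
import Cfsg.Agent.L81.Defs
import Cfsg.Agent.FV.Seitz

set_option autoImplicit false

namespace Cfsg.Agent.L81

open Cfsg.Lie Cfsg.Lie.ChevalleyDatum Cfsg.Agent.Chev Cfsg.Agent.Chev.S2M Cfsg.Agent.Chev.Chk Matrix
  MatrixGroups Polynomial Module
open Kac (K3 pw js)
open FV (G0)

namespace SeitzH

/-- A root as a linear functional. -/
noncomputable def rtL (r : Rt) : Module.Dual K3 VV where
  toFun := FV.rt chevE8 r
  map_add' := FV.rt_add r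
  map_smul' := FV.rt_smul r

theorem generic (W : Submodule K3 VV) :
    ∃ b ∈ W, ∀ r : Rt, FV.rt chevE8 r b = 0 ↔ ∀ w ∈ W, FV.rt chevE8 r w = 0 := by
  obtain ⟨b, hb, h⟩ := Module.Dual.exists_forall_mem_ne_zero_of_forall_exists W
    (fun i : {r : Rt // ∃ w ∈ W, FV.rt chevE8 r w ≠ 0} => rtL i.1) fun i => i.2
  refine ⟨b, hb, fun r => ⟨fun e w hw => ?_, fun e => e b hb⟩⟩
  by_contra k
  exact h ⟨r, w, hw, k⟩ e

theorem perm_iff {α : Type*} [Finite α] (w : Equiv.Perm α) {S : Set α} (h : ∀ r, w r ∈ S → r ∈ S) (r : α) :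
    w r ∈ S ↔ r ∈ S := by
  refine ⟨h r, fun hr => ?_⟩
  have h1 : Set.MapsTo w.symm S S := fun x hx => h _ (by rwa [Equiv.apply_symm_apply])
  obtain ⟨x, hx, e⟩ := ((Set.toFinite S).injOn_iff_bijOn_of_mapsTo h1).1 w.symm.injective.injOn |>.surjOn hr
  rwa [← e, Equiv.apply_symm_apply]

theorem not_sup {g : GG} (hg : g ∈ chevE8.group K3) {r : Rt} (hr : chevE8.IsPosRoot r) :
    ¬ FV.Sup chevE8 ∅ (g.val *ᵥ chevE8.eN K3 r) := fun h => by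
  have h0 : FV.hp chevE8 (chevE8.eN K3 r) = 0 := funext fun a => by rcases a with i | s <;> rfl
  have h1 : FV.Std chevE8 (chevE8.eN K3 r) := fun s hs => by
    rw [eN_inr] at hs
    have e : s = r := by
      by_contra k
      exact hs (if_neg k)
    exact ⟨e ▸ hr, FV.rt_eq_zero h0 s⟩
  obtain ⟨-, -, n, -, -, -, -, h2⟩ := FV.transport hg h1 (h.mono (Set.empty_subset _))
  rw [h0, FV.hp_eq_self h, mulVec_zero] at h2
  have h3 := congrFun (FV.mv_eq_zero h2.symm) (.inr r)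
  rw [eN_inr, if_pos rfl] at h3
  exact one_ne_zero h3

end SeitzH

open SeitzH in
theorem seitz_tor {H : Subgroup G0} (hH : IsCoatom H) {W : Submodule K3 VV} (h0 : W ≠ ⊥)
    (h1 : ∀ h ∈ H, ∀ v ∈ W, (emb h).val *ᵥ v ∈ W) (h2 : ∀ v : VV, frobenius K3 3 ∘ v ∈ W ↔ v ∈ W) {g : GG}
    (hg : g ∈ chevE8.group K3) (h3 : ∀ v ∈ W, FV.Sup chevE8 ∅ (g.val *ᵥ v)) :
    ∃ A ≤ H, IsMulCommutative A ∧ ¬ 3 ∣ Nat.card A ∧ 256 ≤ Nat.card A := by
  let W' : Submodule K3 VV := W.map (mulVecLin g.val)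
  have mW : ∀ {x}, x ∈ W' ↔ ∃ v ∈ W, g.val *ᵥ v = x := Submodule.mem_map
  have sW : ∀ x ∈ W', FV.Sup chevE8 ∅ x := fun x hx => by
    obtain ⟨v, hv, rfl⟩ := mW.1 hx
    exact h3 v hv
  obtain ⟨b, hb, hS⟩ := generic W'
  obtain ⟨v, hv, e⟩ := mW.1 hb
  obtain ⟨v', rfl⟩ : ∃ v' : VV, frobenius K3 3 ∘ v' = v :=
    ⟨fun a => (frobeniusEquiv K3 3).symm (v a), funext fun a => (frobeniusEquiv K3 3).apply_symm_apply (v a)⟩
  have hv' : g.val *ᵥ v' ∈ W' := mW.2 ⟨v', (h2 v').1 hv, rfl⟩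
  have k2 : (fr g * g⁻¹).val *ᵥ b = frobenius K3 3 ∘ (g.val *ᵥ v') := by
    rw [← e, FV.mv_mul, FV.mv_inv, FV.fr_mulVec]
  generalize g.val *ᵥ v' = b' at hv' k2
  have k3 : FV.Sup chevE8 ∅ (frobenius K3 3 ∘ b') := fun r hr => sW b' hv' r fun k => hr ((map_eq_zero _).2 k)
  obtain ⟨u, hu, n, hn, u', hu', e', h5⟩ := FV.transport (mul_mem (FV.fr_mem hg) (inv_mem hg))
    ((sW b hb).mono (Set.empty_subset _)) (by rw [k2]; exact k3.mono (Set.empty_subset _))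
  rw [k2] at hu h5
  rw [FV.hp_eq_self (sW b hb), FV.hp_eq_self k3] at h5
  have h6 : ∀ r : Rt, FV.rt chevE8 (chevE8.wOf K3 n r) (frobenius K3 3 ∘ b') = 0 ↔ FV.rt chevE8 r b = 0 := fun r => by
    rw [← h5, FV.rt_mono hn]
  have h7 : ∀ r : Rt, chevE8.wOf K3 n r ∈ {r : Rt | FV.rt chevE8 r b = 0} ↔ r ∈ {r : Rt | FV.rt chevE8 r b = 0} :=
    perm_iff _ fun r hr => (h6 r).1 (by rw [FV.rt_map, (hS _).1 hr b' hv', map_zero])
  have h8 : ∀ {w : VV}, (∀ r : Rt, FV.rt chevE8 r w = 0 → FV.rt chevE8 r b = 0) →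
      chevE8.XS K3 (FV.Zr chevE8 w) ≤ FV.TX chevE8 K3 {r | FV.rt chevE8 r b = 0} :=
    fun h => (FV.XS_mono' (T := {r : Rt | FV.rt chevE8 r b = 0}) fun r k => h r k.2).trans le_sup_left
  refine FV.seitz_core hH hg hn h7 (h8 (fun r hr => ?_) hu) (h8 (fun _ h => h) hu') e' (W := W') (fun k => h0 ?_)
    (fun c hc w hw => ?_) (fun h hh w hw => ?_) fun r j1 j2 _ => ?_
  · obtain ⟨s, rfl⟩ := (chevE8.wOf K3 n).surjective r
    exact (h7 s).2 ((h6 s).1 hr)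
  · exact eq_bot_iff.2 fun x hx => FV.mv_eq_zero (a := g) ((Submodule.mem_bot K3).1 (k.le (mW.2 ⟨x, hx, rfl⟩)))
  · have h9 : c ∈ FV.TX chevE8 K3 {r | FV.rt chevE8 r w = 0} :=
      sup_le_sup_right (FV.XS_mono' fun r hr => (hS r).1 hr w hw) _ hc
    have h10 := FV.TX_mulVec_hp h9
    rw [FV.hp_eq_self (sW w hw)] at h10
    rwa [h10]
  · obtain ⟨x, hx, rfl⟩ := mW.1 hw
    rw [FV.mv_mul, FV.mv_mul, FV.mv_inv]
    exact mW.2 ⟨_, h1 h hh x hx, rfl⟩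
  · by_cases hr : chevE8.IsPosRoot r
    · exact not_sup hg hr (sW _ j1)
    · exact not_sup hg ((chevE8.isPos_ng r).2 hr) (sW _ j2)

end Cfsg.Agent.L81
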