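import Mathlib
import Cfsg.Agent.FV.Seitz
import Cfsg.Agent.Chev.BglBase

/-!
# Strongly orthogonal roots: the action on the adjoint module in terms of `2 × 2` matrices
-/

set_option autoImplicit false

namespace Cfsg.Agent.L81.Sl4

open Cfsg.Lie Cfsg.Lie.ChevalleyDatum Cfsg.Agent.Chev Cfsg.Agent.FV Matrix

variable {D : ChevalleyDatum} [hG : D.Good] {K : Type*} [Field K]

/-- `2 × 2` matrices. -/
abbrev M2 (K : Type*) : Type _ := Matrix (Fin 2) (Fin 2) K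

variable (D) in
/-- A set of strongly orthogonal roots and their negatives. -/
structure Ort (Φ : Set D.Rt) : Prop where
  ng : ∀ r ∈ Φ, D.ng r ∈ Φ
  ort : ∀ r ∈ Φ, ∀ s ∈ Φ, s ≠ r → s ≠ D.ng r → D.chainEntry r s = [] ∧ D.pairing r s = 0

/-- The component of a vector in the `𝔰𝔩₂` of a root. -/
def ph (r : D.Rt) : (D.Idx → K) →ₗ[K] M2 K where
  toFun x := !![rt D r x, 2 * x (.inr r); 2 * x (.inr (D.ng r)), -rt D r x]
  map_add' x y := by
    ext i j; fin_cases i <;> fin_cases j <;> simp [rt_add, mul_add, add_comm]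
  map_smul' c x := by
    ext i j; fin_cases i <;> fin_cases j <;> simp [rt_smul, mul_left_comm]

theorem ph_apply (r : D.Rt) (x : D.Idx → K) :
    ph r x = !![rt D r x, 2 * x (.inr r); 2 * x (.inr (D.ng r)), -rt D r x] := rfl

omit hG in
theorem rt_eN (r s : D.Rt) : rt D r (D.eN K s) = 0 := by simp [rt, eN_inl]

omit hG in
theorem rt_hV (r s : D.Rt) : rt D s (D.hV K (D.cw r)) = D.pairing r s := by
  simp [rt, hV_inl, pairing_eq_dot, dotProduct, mul_comm]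

omit hG in
theorem rt_sub (r : ℕ) (v w : D.Idx → K) : rt D r (v - w) = rt D r v - rt D r w := by
  simp [rt, mul_sub, Finset.sum_sub_distrib]

omit hG in
theorem sup_add {Φ : Set D.Rt} {x y : D.Idx → K} (hx : Sup D Φ x) (hy : Sup D Φ y) : Sup D Φ (x + y) :=
  fun r hr => by
    by_contra h
    exact hr (by rw [Pi.add_apply, not_not.1 (mt (hx r) h), not_not.1 (mt (hy r) h), add_zero])

omit hG in
theorem sup_eN {Φ : Set D.Rt} {r : D.Rt} (hr : r ∈ Φ) : Sup D Φ (D.eN K r) := fun s hs => by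
  rw [eN_inr] at hs
  by_cases h : s = r
  · exact h ▸ hr
  · simp [h] at hs

omit hG in
theorem sup_hV {Φ : Set D.Rt} (v : D.Lat) : Sup D Φ (D.hV K v) := fun s hs => absurd (D.hV_inr K v s) hs

/-- `g` acts on the component of `r` as conjugation with `M`. -/
def Act (Φ : Set D.Rt) (r : D.Rt) (g : GL D.Idx K) (M : M2 K) : Prop :=
  M.det ≠ 0 ∧ ∀ x, Sup D Φ x → Sup D Φ (g.val *ᵥ x) ∧ ph r (g.val *ᵥ x) * M = M * ph r x

variable {Φ : Set D.Rt}

theorem Act.mul {r : D.Rt} {g g' : GL D.Idx K} {M M' : M2 K} (h : Act Φ r g M) (h' : Act Φ r g' M') :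
    Act Φ r (g * g') (M * M') := ⟨by rw [det_mul]; exact mul_ne_zero h.1 h'.1, fun x hx => by
  rw [mv_mul]
  refine ⟨(h.2 _ (h'.2 x hx).1).1, ?_⟩
  rw [← Matrix.mul_assoc, (h.2 _ (h'.2 x hx).1).2, Matrix.mul_assoc, (h'.2 x hx).2, Matrix.mul_assoc]⟩

theorem act_one (r : D.Rt) : Act Φ r (1 : GL D.Idx K) 1 := ⟨by simp, fun x hx => by simpa using hx⟩

theorem Act.mul_one {r : D.Rt} {g g' : GL D.Idx K} (h : Act Φ r g 1) (h' : Act Φ r g' 1) :
    Act Φ r (g * g') 1 := by simpa using h.mul h'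

theorem Act.eq {r : D.Rt} {g : GL D.Idx K} {M : M2 K} (h : Act Φ r g M) {x : D.Idx → K} (hx : Sup D Φ x)
    (hc : ph r x * M = M * ph r x) : ph r (g.val *ᵥ x) = ph r x := by
  have := (h.2 x hx).2
  rw [← hc] at this
  exact ((isUnit_iff_isUnit_det _).2 h.1.isUnit).mul_right_cancel this

theorem X_mulVec (h : Ort D Φ) {r : D.Rt} (hr : r ∈ Φ) (t : K) {x : D.Idx → K} (hx : Sup D Φ x) :
    (D.X K r t).val *ᵥ x = x + (t * x (.inr (D.ng r))) • D.hV K (D.cw r) -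
      (rt D r x * t + t ^ 2 * x (.inr (D.ng r))) • D.eN K r := by
  have e : ∀ s : D.Rt, (D.X K r t).val *ᵥ (x (.inr s) • D.eN K s) = x (.inr s) • D.eN K s +
      if s = D.ng r then x (.inr s) • (t • D.hV K (D.cw r) - t ^ 2 • D.eN K r) else 0 := fun s => by
    rw [mulVec_smul, coe_X_eq_xR]
    by_cases h0 : x (.inr s) = 0
    · simp [h0]
    by_cases h1 : s = D.ng r
    · rw [if_pos h1, h1, xR_mulVec_eN_ng, ← smul_add, add_sub_assoc]
    rw [if_neg h1, add_zero]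
    by_cases h2 : s = r
    · rw [h2, xR_mulVec_eN_self]
    · rw [D.xR_mulVec_eN_of_ne K h2 h1, (h.ort r hr s (hx s h0) h2 h1).1]; simp
  conv_lhs => rw [eq_hp_add x, mulVec_add, X_mulVec_hp, mulVec_sum, Finset.sum_congr rfl fun s _ => e s,
    Finset.sum_add_distrib, Finset.sum_ite_eq' , if_pos (Finset.mem_univ _)]
  conv_rhs => enter [1, 1]; rw [eq_hp_add x]
  module

theorem sup_X (h : Ort D Φ) {r : D.Rt} (hr : r ∈ Φ) (t : K) {x : D.Idx → K} (hx : Sup D Φ x) :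
    Sup D Φ ((D.X K r t).val *ᵥ x) := by
  rw [X_mulVec h hr t hx, sub_eq_add_neg, ← neg_smul]
  exact sup_add (sup_add hx ((sup_hV _).smul _)) ((sup_eN hr).smul _)

theorem act_X_self (h : Ort D Φ) {r : D.Rt} (hr : r ∈ Φ) (t : K) : Act Φ r (D.X K r t) !![1, t; 0, 1] :=
  ⟨by simp, fun x hx => ⟨sup_X h hr t hx, by
    rw [X_mulVec h hr t hx, ph_apply, ph_apply]
    ext i j
    fin_cases i <;> fin_cases j <;>
      simp [rt_sub, rt_add, rt_smul, rt_eN, rt_hV, hV_inr, eN_inr, D.ng_ne r] <;> ring⟩⟩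

theorem act_X_ng (h : Ort D Φ) {r : D.Rt} (hr : r ∈ Φ) (t : K) :
    Act Φ r (D.X K (D.ng r) t) !![1, 0; t, 1] :=
  ⟨by simp, fun x hx => ⟨sup_X h (h.ng r hr) t hx, by
    rw [X_mulVec h (h.ng r hr) t hx, ph_apply, ph_apply]
    ext i j
    fin_cases i <;> fin_cases j <;>
      simp [rt_sub, rt_add, rt_smul, rt_eN, rt_hV, hV_inr, eN_inr, (D.ng_ne r).symm, rt_ng,
        pairing_ng_left] <;> ring⟩⟩

theorem act_X_ort (h : Ort D Φ) {r s : D.Rt} (hr : r ∈ Φ) (hs : s ∈ Φ) (h1 : r ≠ s) (h2 : r ≠ D.ng s)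
    (t : K) : Act Φ r (D.X K s t) 1 :=
  ⟨by simp, fun x hx => ⟨sup_X h hs t hx, by
    have h3 : D.ng r ≠ s := fun e => h2 (by rw [← e, ng_ng])
    rw [X_mulVec h hs t hx, ph_apply, ph_apply]
    ext i j
    fin_cases i <;> fin_cases j <;>
      simp [rt_sub, rt_add, rt_smul, rt_eN, rt_hV, hV_inr, eN_inr, h1, h3, (h.ort s hs r hr h1 h2).2]⟩⟩

theorem act_XS (h : Ort D Φ) {r : D.Rt} (hr : r ∈ Φ) {g : GL D.Idx K} (hg : g ∈ D.XS K Φ) :
    ∃ M, Act Φ r g M := by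
  refine D.XS_monoid_induction K (P := fun g => ∃ M, Act Φ r g M) ⟨1, act_one r⟩ (fun s hs t => ?_)
    (fun a b ⟨M, ha⟩ ⟨M', hb⟩ => ⟨_, ha.mul hb⟩) hg
  by_cases h1 : r = s
  · subst h1; exact ⟨_, act_X_self h hr t⟩
  by_cases h2 : r = D.ng s
  · have : s = D.ng r := by rw [h2, ng_ng]
    exact ⟨_, this ▸ act_X_ng h hr t⟩
  · exact ⟨_, act_X_ort h hr hs h1 h2 t⟩

theorem mono_coord {n : GL D.Idx K} (hn : n ∈ D.monomialSubgroup K) (r : D.Rt) : ∃ a : Kˣ,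
    ∀ x : D.Idx → K, (n.val *ᵥ x) (.inr (D.wOf K n r)) = a * x (.inr r) ∧
      (n.val *ᵥ x) (.inr (D.ng (D.wOf K n r))) = (a⁻¹ : Kˣ) * x (.inr (D.ng r)) ∧
      rt D (D.wOf K n r) (n.val *ᵥ x) = rt D r x := by
  obtain ⟨a, h1, h2, h3⟩ := exists_mono hn r
  obtain ⟨b, hb⟩ := mono_inr hn r
  obtain ⟨c, hc⟩ := mono_inr hn (D.ng r)
  rw [weyl_ng (D.wOf_mem_weyl K n)] at hc
  have e1 : (b : K) = a := by simpa [h1, eN_inr] using (hb (D.eN K r)).symm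
  have e2 : (c : K) = (a⁻¹ : Kˣ) := by simpa [h2, eN_inr] using (hc (D.eN K (D.ng r))).symm
  refine ⟨a, fun x => ⟨e1 ▸ hb x, e2 ▸ hc x, ?_⟩⟩
  have h4 := congrArg (fun g : GL D.Idx K => (g.val *ᵥ hp D x) (Sum.inr (D.wOf K n r)))
    (mul_inv_eq_iff_eq_mul.1 (h3 1))
  simp only [Units.val_mul, ← Matrix.mulVec_mulVec] at h4
  rw [hb, ← hp_mono hn, X_mulVec_hp, X_mulVec_hp] at h4
  simp only [Pi.sub_apply, hp_inr, Pi.smul_apply, eN_inr, if_true, smul_eq_mul, mul_one, zero_sub, mul_neg,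
    neg_inj, e1] at h4
  exact mul_right_cancel₀ a.ne_zero (by rw [← h4, mul_comm])

theorem act_mono {n : GL D.Idx K} (hn : n ∈ D.monomialSubgroup K) (hΦ : ∀ s ∈ Φ, D.wOf K n s ∈ Φ)
    {r : D.Rt} (hw : D.wOf K n r = r ∨ D.wOf K n r = D.ng r) : ∃ M, Act Φ r n M := by
  obtain ⟨a, ha⟩ := mono_coord hn r
  rcases hw with hw | hw
  · refine ⟨!![(a : K), 0; 0, 1], by simp, fun x hx => ⟨hx.mono_mulVec hn hΦ, ?_⟩⟩
    obtain ⟨h1, h2, h3⟩ := ha x
    rw [hw] at h1 h2 h3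
    rw [ph_apply, ph_apply, h1, h2, h3]
    ext i j
    fin_cases i <;> fin_cases j <;> simp <;> field_simp
  · refine ⟨!![0, 1; (a : K), 0], by simp, fun x hx => ⟨hx.mono_mulVec hn hΦ, ?_⟩⟩
    obtain ⟨h1, h2, h3⟩ := ha x
    rw [hw] at h1 h2 h3
    rw [ng_ng] at h2
    rw [rt_ng, neg_eq_iff_eq_neg] at h3
    rw [ph_apply, ph_apply, h1, h2, h3]
    ext i j
    fin_cases i <;> fin_cases j <;> simp <;> field_simp

end Cfsg.Agent.L81.Sl4
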