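import Mathlib
import Cfsg.Agent.L81.Defs
import Cfsg.Agent.FV.Seitz
import Cfsg.Agent.L81.Sl4A

set_option autoImplicit false

namespace Cfsg.Agent.L81

namespace Sl4

open Cfsg.Lie Cfsg.Lie.ChevalleyDatum Cfsg.Agent.Chev Cfsg.Agent.FV Matrix Module

variable {D : ChevalleyDatum} [hG : D.Good] {K : Type*} [Field K] {Φ : Set D.Rt}

/-- A traceless matrix. -/
def mat (z : K × K × K) : M2 K := !![z.2.1, z.1; z.2.2, -z.2.1]

theorem scalar_or {M : M2 K} (h : ∀ z, mat z * (M * M) = M * M * mat z) :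
    (∀ A : M2 K, A * M = M * A) ∨ M 1 1 = -M 0 0 := by
  by_cases ht : M 0 0 + M 1 1 = 0
  · exact .inr (by linear_combination ht)
  have h1 := congrFun (congrFun (h (1, 0, 0)) 0) 0
  have h2 := congrFun (congrFun (h (1, 0, 0)) 0) 1
  have h3 := congrFun (congrFun (h (0, 0, 1)) 0) 0
  simp only [mat, Matrix.mul_apply, Fin.sum_univ_two, of_apply, cons_val', cons_val_zero, cons_val_one,
    cons_val_fin_one] at h1 h2 h3
  have e1 : M 1 0 = 0 := mul_right_cancel₀ ht (by linear_combination h1)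
  have e2 : M 0 1 = 0 := mul_right_cancel₀ ht (by linear_combination -h3)
  have e3 : M 1 1 = M 0 0 := mul_right_cancel₀ ht (by linear_combination h2)
  refine .inl fun A => ?_
  ext i j
  fin_cases i <;> fin_cases j <;> simp [Matrix.mul_apply, Fin.sum_univ_two, e1, e2, e3, mul_comm]

theorem exists_comm {M : M2 K} (hM : M.det ≠ 0) (h : (∀ A : M2 K, A * M = M * A) ∨ M 1 1 = -M 0 0) :
    ∃ z, z ≠ 0 ∧ mat z * M = M * mat z := by
  rcases h with h | h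
  · exact ⟨(1, 0, 0), by simp, h _⟩
  · have e : mat (M 0 1, M 0 0, M 1 0) = M := by
      ext i j; fin_cases i <;> fin_cases j <;> simp [mat, h]
    refine ⟨(M 0 1, M 0 0, M 1 0), fun h0 => hM ?_, by rw [e]⟩
    rw [← e, h0]; simp [mat]

theorem diag [IsAlgClosed K] (h2 : (2 : K) ≠ 0) {M : M2 K} (hM : M.det ≠ 0) (h : M 1 1 = -M 0 0) :
    ∃ s t : K, ∀ A A' : M2 K, A * M = M * A →
      A' * (!![1, 0; s, 1] * !![1, t; 0, 1]) = !![1, 0; s, 1] * !![1, t; 0, 1] * A → A' 0 1 = 0 ∧ A' 1 0 = 0 := by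
  rw [det_fin_two, h] at hM
  obtain ⟨t, ht⟩ : ∃ t : K, M 0 1 - 2 * t * M 0 0 - t ^ 2 * M 1 0 = 0 := by
    by_cases h0 : M 1 0 = 0
    · have : M 0 0 ≠ 0 := fun e => hM (by rw [e, h0]; ring)
      exact ⟨M 0 1 / (2 * M 0 0), by rw [h0]; field_simp; ring⟩
    · obtain ⟨d, hd⟩ := IsAlgClosed.exists_pow_nat_eq (M 0 0 ^ 2 + M 0 1 * M 1 0) two_pos
      exact ⟨(d - M 0 0) / M 1 0, by field_simp; linear_combination -hd⟩
  have hm : M 0 0 + t * M 1 0 ≠ 0 := fun e => hM (by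
    linear_combination (-(M 0 0 + t * M 1 0)) * e - M 1 0 * ht)
  obtain ⟨s, hs⟩ : ∃ s : K, M 1 0 + 2 * s * (M 0 0 + t * M 1 0) = 0 :=
    ⟨-M 1 0 / (2 * (M 0 0 + t * M 1 0)), by
      generalize M 0 0 + t * M 1 0 = m at hm
      field_simp; ring⟩
  refine ⟨s, t, fun A A' hA hA' => ?_⟩
  obtain ⟨N, hN⟩ : ∃ N : M2 K, N = !![1, 0; s, 1] * !![1, t; 0, 1] := ⟨_, rfl⟩
  rw [← hN] at hA'
  have hNu : IsUnit N := (isUnit_iff_isUnit_det _).2 (by rw [hN, det_mul]; simp)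
  have e : !![M 0 0 + t * M 1 0, 0; 0, -(M 0 0 + t * M 1 0)] * N = N * M := by
    rw [hN]
    ext i j
    fin_cases i <;> fin_cases j <;> simp [Matrix.mul_apply, Fin.sum_univ_two, h]
    · linear_combination -ht
    · linear_combination -hs
    · linear_combination -s * ht - t * hs
  have e2 : !![M 0 0 + t * M 1 0, 0; 0, -(M 0 0 + t * M 1 0)] * A' =
      A' * !![M 0 0 + t * M 1 0, 0; 0, -(M 0 0 + t * M 1 0)] := hNu.mul_right_cancel (by
    rw [Matrix.mul_assoc, hA', ← Matrix.mul_assoc, e, Matrix.mul_assoc, ← hA, ← Matrix.mul_assoc, ← hA',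
      Matrix.mul_assoc, Matrix.mul_assoc, e])
  have h1 := congrFun (congrFun e2 0) 1
  have h3 := congrFun (congrFun e2 1) 0
  simp only [Matrix.mul_apply, Fin.sum_univ_two, of_apply, cons_val', cons_val_zero, cons_val_one,
    cons_val_fin_one] at h1 h3
  exact ⟨mul_left_cancel₀ (mul_ne_zero h2 hm) (by linear_combination h1),
    mul_left_cancel₀ (mul_ne_zero h2 hm) (by linear_combination -h3)⟩

variable (K) in
/-- The vector with a given component. -/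
noncomputable def sec (r : D.Rt) : (K × K × K) →ₗ[K] (D.Idx → K) :=
  (LinearMap.fst K K _).smulRight (D.eN K r) +
    ((LinearMap.fst K K K).smulRight (D.hV K (D.cw r)) +
      (LinearMap.snd K K K).smulRight (D.eN K (D.ng r))) ∘ₗ LinearMap.snd K K _

theorem sec_apply (r : D.Rt) (z : K × K × K) :
    sec K r z = z.1 • D.eN K r + (z.2.1 • D.hV K (D.cw r) + z.2.2 • D.eN K (D.ng r)) := rfl

theorem sup_sec (h : Ort D Φ) {r : D.Rt} (hr : r ∈ Φ) (z : K × K × K) : Sup D Φ (sec K r z) :=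
  sup_add ((sup_eN hr).smul _) (sup_add ((sup_hV _).smul _) ((sup_eN (h.ng r hr)).smul _))

theorem ph_sec (r : D.Rt) (z : K × K × K) : ph r (sec K r z) = (2 : K) • mat z := by
  rw [sec_apply, ph_apply]
  ext i j
  fin_cases i <;> fin_cases j <;>
    simp [mat, rt_add, rt_smul, rt_eN, rt_hV, hV_inr, eN_inr, D.ng_ne r, (D.ng_ne r).symm, mul_comm]

theorem ph_sec_ort (h : Ort D Φ) {r s : D.Rt} (hr : r ∈ Φ) (hs : s ∈ Φ) (h1 : r ≠ s) (h2 : r ≠ D.ng s)
    (z : K × K × K) : ph r (sec K s z) = 0 := by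
  have h3 : D.ng r ≠ s := fun e => h2 (by rw [← e, ng_ng])
  have h4 : D.ng r ≠ D.ng s := fun e => h1 (by rw [← D.ng_ng r, e, ng_ng])
  rw [sec_apply, ph_apply]
  ext i j
  fin_cases i <;> fin_cases j <;>
    simp [rt_add, rt_smul, rt_eN, rt_hV, hV_inr, eN_inr, h1, h2, h3, h4, (h.ort s hs r hr h1 h2).2]

theorem mat_smul (c : K) (z : K × K × K) : mat (c • z) = c • mat z := by
  ext i j; fin_cases i <;> fin_cases j <;> simp [mat]

theorem mat_eq_zero {z : K × K × K} (h : mat z = 0) : z = 0 := by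
  have h1 := congrFun (congrFun h 0) 0
  have h2 := congrFun (congrFun h 0) 1
  have h3 := congrFun (congrFun h 1) 0
  simp only [mat, of_apply, cons_val', cons_val_zero, cons_val_one, cons_val_fin_one, Matrix.zero_apply] at h1 h2 h3
  exact Prod.ext h2 (Prod.ext h1 h3)

variable {g : GL D.Idx K}

theorem Act.sq (h : Ort D Φ) (h2 : (2 : K) ≠ 0) {r : D.Rt} (hr : r ∈ Φ) {M : M2 K} (hM : Act Φ r g M)
    (hg : g ^ 2 = 1) : (∀ A : M2 K, A * M = M * A) ∨ M 1 1 = -M 0 0 := scalar_or fun z => by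
  have := ((hM.mul hM).2 _ (sup_sec h hr z)).2
  rw [← pow_two, hg, Units.val_one, one_mulVec, ph_sec, smul_mul_assoc, mul_smul_comm] at this
  exact smul_right_injective _ h2 this

/-- Orthogonal roots. -/
def Pp (r s : D.Rt) : Prop := r ≠ s ∧ r ≠ D.ng s

theorem Pp.symm {r s : D.Rt} (h : Pp r s) : Pp s r := ⟨h.1.symm, fun e => h.2 (by rw [e, ng_ng])⟩

theorem not_scalar (h : Ort D Φ) (h2 : (2 : K) ≠ 0) (hg : g ^ 2 = 1)
    (hd : ∀ Y : Submodule K (D.Idx → K), (∀ x ∈ Y, Sup D Φ x ∧ g.val *ᵥ x = x) → finrank K Y ≤ 4)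
    {a b c : D.Rt} (ha : a ∈ Φ) (hb : b ∈ Φ) (hc : c ∈ Φ) (hab : Pp a b) (hac : Pp a c) (hbc : Pp b c)
    {A B C : M2 K} (hA : Act Φ a g A) (hB : Act Φ b g B) (hC : Act Φ c g C) : A 1 1 = -A 0 0 := by
  refine (hA.sq h h2 ha hg).resolve_left fun hs => ?_
  obtain ⟨y, hy, hyB⟩ := exists_comm hB.1 (hB.sq h h2 hb hg)
  obtain ⟨z, hz, hzC⟩ := exists_comm hC.1 (hC.sq h h2 hc hg)
  let σ : ((K × K × K) × K × K) →ₗ[K] (D.Idx → K) := (sec K a).coprod
    ((LinearMap.toSpanSingleton K _ (sec K b y)).coprod (LinearMap.toSpanSingleton K _ (sec K c z)))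
  have hσ : ∀ w, σ w = sec K a w.1 + (w.2.1 • sec K b y + w.2.2 • sec K c z) := fun w => rfl
  have hS : ∀ w, Sup D Φ (σ w) := fun w =>
    sup_add (sup_sec h ha _) (sup_add ((sup_sec h hb _).smul _) ((sup_sec h hc _).smul _))
  let Θ := σ + g.val.mulVecLin ∘ₗ σ
  have hΘ : ∀ w, Θ w = σ w + g.val *ᵥ σ w := fun w => rfl
  have key : ∀ {r : D.Rt} {M : M2 K} {w} {x : K × K × K}, Act Φ r g M → Θ w = 0 →
      ph r (σ w) = (2 : K) • mat x → mat x * M = M * mat x → x = 0 := fun {r M w x} hM h0 e hx => by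
    have := congrArg (ph r) h0
    rw [hΘ, map_add, hM.eq (hS w) (by rw [e, smul_mul_assoc, mul_smul_comm, hx]), e, ← two_smul K,
      map_zero, smul_eq_zero, smul_eq_zero] at this
    exact mat_eq_zero ((this.resolve_left h2).resolve_left h2)
  have hinj : Function.Injective Θ := (injective_iff_map_eq_zero _).2 fun w h0 => by
    have e1 : w.1 = 0 := key hA h0 (by
      rw [hσ, map_add, map_add, map_smul, map_smul, ph_sec, ph_sec_ort h ha hb hab.1 hab.2,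
        ph_sec_ort h ha hc hac.1 hac.2]; simp) (hs _)
    have e2 : w.2.1 • y = 0 := key hB h0 (by
      rw [hσ, map_add, map_add, map_smul, map_smul, ph_sec, ph_sec_ort h hb ha hab.symm.1 hab.symm.2,
        ph_sec_ort h hb hc hbc.1 hbc.2, mat_smul, smul_comm]; simp)
      (by rw [mat_smul, smul_mul_assoc, mul_smul_comm, hyB])
    have e3 : w.2.2 • z = 0 := key hC h0 (by
      rw [hσ, map_add, map_add, map_smul, map_smul, ph_sec, ph_sec_ort h hc ha hac.symm.1 hac.symm.2,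
        ph_sec_ort h hc hb hbc.symm.1 hbc.symm.2, mat_smul, smul_comm w.2.2]; simp)
      (by rw [mat_smul, smul_mul_assoc, mul_smul_comm, hzC])
    exact Prod.ext e1 (Prod.ext ((smul_eq_zero.1 e2).resolve_right hy) ((smul_eq_zero.1 e3).resolve_right hz))
  have := hd (LinearMap.range Θ) (by
    rintro _ ⟨w, rfl⟩
    refine ⟨sup_add (hS w) (hA.2 _ (hS w)).1, ?_⟩
    rw [hΘ, mulVec_add, ← mv_mul, ← pow_two, hg, Units.val_one, one_mulVec, add_comm])
  rw [LinearMap.finrank_range_of_inj hinj] at this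
  simp at this

theorem exists_kill [IsAlgClosed K] (h : Ort D Φ) (h2 : (2 : K) ≠ 0) (M : D.Rt → M2 K) (L : List D.Rt)
    (hL : ∀ r ∈ L, r ∈ Φ ∧ (M r).det ≠ 0 ∧ M r 1 1 = -M r 0 0) (hp : L.Pairwise Pp) :
    ∃ y ∈ D.XS K Φ, (∀ x, Sup D Φ x → Sup D Φ (y.val *ᵥ x)) ∧
      (∀ s ∈ Φ, (∀ r ∈ L, Pp s r) → Act Φ s y 1) ∧ ∀ x, Sup D Φ x → ∀ r ∈ L, ph r x * M r = M r * ph r x →
        ph r (y.val *ᵥ x) 0 1 = 0 ∧ ph r (y.val *ᵥ x) 1 0 = 0 := by
  induction L with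
  | nil => exact ⟨1, one_mem _, by simp, fun s _ _ => act_one s, by simp⟩
  | cons r L ih =>
    obtain ⟨h3, h4⟩ := List.pairwise_cons.1 hp
    obtain ⟨y, hy, y0, y1, y2⟩ := ih (fun s hs => hL s (.tail _ hs)) h4
    obtain ⟨hr, hM, ht⟩ := hL r (.head _)
    obtain ⟨s, t, hst⟩ := diag h2 hM ht
    have a1 := (act_X_ng h hr s).mul (act_X_self h hr t)
    have a2 : ∀ u ∈ Φ, Pp u r → Act Φ u (D.X K (D.ng r) s * D.X K r t) 1 := fun u hu hP =>
      (act_X_ort h hu (h.ng r hr) hP.2 (by rw [ng_ng]; exact hP.1) s).mul_one (act_X_ort h hu hr hP.1 hP.2 t)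
    refine ⟨D.X K (D.ng r) s * D.X K r t * y,
      mul_mem (mul_mem (D.X_mem_XS K (h.ng r hr) s) (D.X_mem_XS K hr t)) hy,
      fun x hx => by rw [mv_mul]; exact (a1.2 _ (y0 x hx)).1,
      fun u hu hP => (a2 u hu (hP r (.head _))).mul_one (y1 u hu fun v hv => hP v (.tail _ hv)),
      fun x hx u hu hc => ?_⟩
    rw [mv_mul]
    rcases List.mem_cons.1 hu with rfl | hu
    · refine hst _ _ ?_ (a1.2 _ (y0 x hx)).2
      rwa [(y1 u hr h3).eq hx (by simp)]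
    · rw [(a2 u (hL u (.tail _ hu)).1 (h3 u hu).symm).eq (y0 x hx) (by simp)]
      exact y2 x hx u hu hc

end Sl4

open Cfsg.Lie Cfsg.Lie.ChevalleyDatum Cfsg.Agent.Chev Cfsg.Agent.Chev.S2M Cfsg.Agent.Chev.Chk Matrix
  MatrixGroups Polynomial Module
open Kac (K3 pw js)
open FV (G0)

namespace Sl4

theorem tab : ∀ r ∈ B7 ++ B7.map chevE8.ng, ∀ s ∈ B7 ++ B7.map chevE8.ng, s ≠ r → s ≠ chevE8.ng r →
    chevE8.chainEntry r s = [] ∧ chevE8.pairing r s = 0 := by decide +kernel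

theorem mem7 {r : Rt} (h : r ∈ Φ7) : r ∈ B7 ++ B7.map chevE8.ng :=
  List.mem_append.2 (h.imp id fun h => List.mem_map.2 ⟨_, h, chevE8.ng_ng r⟩)

theorem ort7 : Ort chevE8 Φ7 := ⟨fun r hr => hr.symm.imp id fun h => by rwa [ng_ng],
  fun r hr s hs => tab r (mem7 hr) s (mem7 hs)⟩

instance (r s : Rt) : Decidable (Pp r s) := inferInstanceAs (Decidable (_ ∧ _))

theorem pw7 : B7.Pairwise Pp := by decide +kernel

theorem three : ∀ a ∈ B7, ∃ b ∈ B7, ∃ c ∈ B7, Pp a b ∧ Pp a c ∧ Pp b c := by decide +kernel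

end Sl4

open Sl4 in
theorem sl4 {u n v : GG} (hu : u ∈ chevE8.XS K3 Φ7) (hv : v ∈ chevE8.XS K3 Φ7)
    (hn : n ∈ chevE8.monomialSubgroup K3)
    (hw : ∀ β ∈ B7, chevE8.wOf K3 n β = β ∨ chevE8.wOf K3 n β = chevE8.ng β) (h2 : (u * n * v) ^ 2 = 1)
    (hd : ∀ Y : Submodule K3 VV, (∀ x ∈ Y, FV.Sup chevE8 Φ7 x ∧ (u * n * v).val *ᵥ x = x) → finrank K3 Y ≤ 4) :
    ∃ y ∈ chevE8.XS K3 Φ7, ∀ x : VV, FV.Sup chevE8 Φ7 x → (u * n * v).val *ᵥ x = x →
      FV.Sup chevE8 ∅ (y.val *ᵥ x) := by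
  have two : (2 : K3) ≠ 0 := by
    have := (CharP.cast_eq_zero_iff K3 3 2).not.2 (by decide)
    exact_mod_cast this
  have hΦ : ∀ s ∈ Φ7, chevE8.wOf K3 n s ∈ Φ7 := fun s hs => by
    have a : ∀ s ∈ B7, chevE8.wOf K3 n s ∈ Φ7 := fun s hs => by
      rcases hw s hs with e | e <;> rw [e]
      exacts [.inl hs, ort7.ng s (.inl hs)]
    rcases hs with hs | hs
    · exact a s hs
    · have := ort7.ng _ (a _ hs)
      rwa [weyl_ng (chevE8.wOf_mem_weyl K3 n), ng_ng] at this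
  have hM : ∀ r : Rt, ∃ M, r ∈ B7 → Act Φ7 r (u * n * v) M := fun r => by
    by_cases hr : r ∈ B7
    · obtain ⟨A, hA⟩ := act_XS ort7 (.inl hr) hu
      obtain ⟨B, hB⟩ := act_mono hn hΦ (hw r hr)
      obtain ⟨C, hC⟩ := act_XS ort7 (.inl hr) hv
      exact ⟨_, fun _ => (hA.mul hB).mul hC⟩
    · exact ⟨1, fun h => absurd h hr⟩
  choose M hM using hM
  generalize u * n * v = g at h2 hd hM ⊢
  obtain ⟨y, hy, y0, -, y2⟩ := exists_kill ort7 two M B7 (fun a ha => by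
    obtain ⟨b, hb, c, hc, hab, hac, hbc⟩ := three a ha
    exact ⟨.inl ha, (hM a ha).1, not_scalar ort7 two h2 hd (.inl ha) (.inl hb) (.inl hc) hab hac hbc
      (hM a ha) (hM b hb) (hM c hc)⟩) pw7
  refine ⟨y, hy, fun x hx hgx r hr => hr ?_⟩
  have a : ∀ s ∈ B7, (y.val *ᵥ x) (.inr s) = 0 ∧ (y.val *ᵥ x) (.inr (chevE8.ng s)) = 0 := fun s hs => by
    have h1 := ((hM s hs).2 x hx).2
    rw [hgx] at h1
    obtain ⟨h3, h4⟩ := y2 x hx s hs h1
    exact ⟨(mul_eq_zero.1 h3).resolve_left two, (mul_eq_zero.1 h4).resolve_left two⟩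
  rcases y0 x hx r hr with h | h
  · exact (a r h).1
  · have := (a _ h).2
    rwa [ng_ng] at this

end Cfsg.Agent.L81
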