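import Mathlib
import Cfsg.Agent.L81.Defs
import Cfsg.Agent.FV.Irr

/-!
# Unitriangular matrices with respect to a monoid of weights, and their leading entries
-/

set_option autoImplicit false

namespace Cfsg.Agent.L81

open Cfsg.Lie Cfsg.Lie.ChevalleyDatum Cfsg.Agent.Chev Cfsg.Agent.Chev.S2M Cfsg.Agent.Chev.Chk Matrix
  MatrixGroups Polynomial Module
open Kac (K3 pw js)
open FV (G0)

variable {M : AddSubmonoid Lat} {a b : GG}

theorem Uni.mul (hM : ∀ x ∈ M, -x ∈ M → x = 0) (ha : Uni M a) (hb : Uni M b) : Uni M (a * b) := by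
  refine ⟨mul_mem ha.1 hb.1, fun i j h => ?_⟩
  rw [Units.val_mul, Matrix.mul_apply, Finset.sum_eq_single i, ha.2 i i rfl, hb.2 i j h, Matrix.one_apply_eq,
    one_mul]
  · intro k _ hk
    by_contra h0
    have h1 := ha.1 i k (left_ne_zero_of_mul h0)
    have h2 := hb.1 k j (right_ne_zero_of_mul h0)
    have h3 := hM _ h1 (by rwa [neg_sub, h])
    exact left_ne_zero_of_mul h0 (by rw [ha.2 i k (sub_eq_zero.1 h3), Matrix.one_apply_ne hk.symm])
  · simp

theorem Uni.X {r : Rt} (hr : wt r ∈ M) (c : K3) : Uni M (chevE8.X K3 r c) := by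
  refine ⟨EntSupp.mem_Ent_of_XS chevE8 K3 (S := {r}) (fun s hs => by rw [Set.mem_singleton_iff.1 hs]; exact hr)
    (chevE8.X_mem_XS K3 (r := r) (Set.mem_singleton r) c), fun i j h => ?_⟩
  rw [chevE8.X_entry_eq K3 r c, Matrix.one_apply]
  intro k hk
  rw [h, left_eq_add, smul_eq_zero] at hk
  exact hk.elim (by omega) (chevE8.wt_ne_zero r)

theorem Uni.entry_mul (ha : Uni M a) (hb : Uni M b) {i j : chevE8.Idx} (h0 : chevE8.wtI i ≠ chevE8.wtI j)
    (h : ∀ x ∈ M, ∀ y ∈ M, x + y = chevE8.wtI i - chevE8.wtI j → x = 0 ∨ y = 0) :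
    (a * b).val i j = a.val i j + b.val i j := by
  rw [Units.val_mul, Matrix.mul_apply, Finset.sum_eq_add j i (fun e => h0 (by rw [e])), ha.2 i i rfl,
    hb.2 j j rfl, Matrix.one_apply_eq, Matrix.one_apply_eq, one_mul, mul_one]
  · intro k _ hk
    by_contra h1
    rcases h _ (ha.1 i k (left_ne_zero_of_mul h1)) _ (hb.1 k j (right_ne_zero_of_mul h1))
      (sub_add_sub_cancel _ _ _) with e | e
    · exact left_ne_zero_of_mul h1 (by rw [ha.2 i k (sub_eq_zero.1 e), Matrix.one_apply_ne hk.2.symm])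
    · exact right_ne_zero_of_mul h1 (by rw [hb.2 k j (sub_eq_zero.1 e), Matrix.one_apply_ne hk.1])
  · simp
  · simp

theorem Lead.mul (ha : Uni M a) (hb : Uni M b) {r : Rt} (hr : r ∈ Ind M) {c d : K3} (h1 : Lead a r c)
    (h2 : Lead b r d) : Lead (a * b) r (c + d) := fun i j h => by
  have h0 : chevE8.wtI i ≠ chevE8.wtI j := fun e => chevE8.wt_ne_zero r (by rw [← sub_eq_zero, h] at e; exact e)
  have h3 : ∀ x ∈ M, ∀ y ∈ M, x + y = chevE8.wtI i - chevE8.wtI j → x = 0 ∨ y = 0 := by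
    rw [h]; exact hr.2
  rw [X_add, ha.entry_mul hb h0 h3, (Uni.X hr.1 c).entry_mul (Uni.X hr.1 d) h0 h3, h1 i j h, h2 i j h]

theorem X_entry {r s u : Rt} (h1 : s ≠ r) (h2 : s ≠ chevE8.ng r) (h3 : u ≠ s) (t : K3) :
    (chevE8.X K3 r t).val (Sum.inr u) (Sum.inr s) = NN r s u * t := by
  have e := congrFun (chevE8.mulVec_eN (chevE8.xR K3 r t) s) (Sum.inr u)
  rw [coe_X_eq_xR, ← e, chevE8.xR_mulVec_eN_of_ne K3 h1 h2, Pi.add_apply, eN_inr, if_neg h3, zero_add, NN]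
  have := FV.Irr.len_le r s
  unfold chainLen at this
  rcases h : chevE8.chainEntry r s with _ | ⟨q, _ | ⟨q', l⟩⟩
  · simp
  · simp only [List.zipIdx_cons, List.zipIdx_nil, List.map_cons, List.map_nil, List.sum_cons, List.sum_nil,
      add_zero, zero_add, pow_one, Pi.smul_apply, eN, Sum.elim_inr, smul_eq_mul]
    split_ifs <;> simp
  · simp [h] at this

theorem X_entry_inl (r : Rt) (i : chevE8.Nd) (t : K3) :
    (chevE8.X K3 r t).val (Sum.inr r) (Sum.inl i) = -((wt r i : ℤ) * t) := by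
  have e := congrFun (chevE8.mulVec_hN (chevE8.xR K3 r t) i) (Sum.inr r)
  rw [coe_X_eq_xR, ← e, xR_mulVec_hN, Pi.sub_apply, Pi.smul_apply, eN_inr, if_pos rfl, smul_eq_mul, mul_one]
  exact zero_sub _

theorem Uni.wt_tab : ∀ r : chevE8.Rt, ∃ i, ¬ (3 : ℤ) ∣ chevE8.wt r i := by
  unfold ChevalleyDatum.wt; decide +kernel

theorem exists_wt_ne (r : Rt) : ∃ i, ((wt r i : ℤ) : K3) ≠ 0 :=
  (Uni.wt_tab r).imp fun _ h e => h ((CharP.intCast_eq_zero_iff K3 3 _).1 e)

theorem Lead.uniq {r : Rt} {c d : K3} (h1 : Lead a r c) (h2 : Lead a r d) : c = d := by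
  obtain ⟨i, hi⟩ := exists_wt_ne r
  have e : chevE8.wtI (Sum.inr r) - chevE8.wtI (Sum.inl i) = wt r := sub_zero _
  have := (h1 _ _ e).symm.trans (h2 _ _ e)
  rw [X_entry_inl, X_entry_inl, neg_inj] at this
  exact mul_left_cancel₀ hi this

theorem Lead.X_ne {r s : Rt} (h : s ≠ r) (c : K3) : Lead (chevE8.X K3 s c) r 0 := fun i j e => by
  rw [X_zero, Units.val_one, Matrix.one_apply, chevE8.X_entry_eq K3 s c]
  intro k hk
  rw [hk, add_sub_cancel_left] at e
  have hk0 : (k : ℤ) + 1 ≠ 0 := by omega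
  rcases chevE8.eq_or_eq_ng_of_smul (r := r) (s := s) (b := 1) hk0 (by rw [e, one_smul]) with h1 | h1
  · exact h h1
  · have h2 : ((k : ℤ) + 2) • chevE8.wt r = 0 := by
      rw [h1, wt_ng] at e
      have e' : ((k : ℤ) + 1) • -chevE8.wt r = chevE8.wt r := e
      linear_combination (norm := module) -e'
    exact (smul_eq_zero.1 h2).elim (by omega) (chevE8.wt_ne_zero r)

theorem Lead.mem_supp {r : Rt} {c : K3} (h : Lead a r c) (h0 : c ≠ 0) : wt r ∈ EntSupp.Supp chevE8 K3 a := by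
  obtain ⟨i, hi⟩ := exists_wt_ne r
  have e : chevE8.wtI (Sum.inr r) - chevE8.wtI (Sum.inl i) = wt r := sub_zero _
  refine ⟨Sum.inr r, Sum.inl i, ?_, e.symm⟩
  rw [Matrix.sub_apply, h _ _ e, X_entry_inl, Matrix.one_apply_ne Sum.inr_ne_inl, sub_zero, neg_ne_zero]
  exact mul_ne_zero hi h0

theorem Lead.ne_zero {r : Rt} {c : K3} (h : Lead a r c) (h0 : wt r ∈ EntSupp.Supp chevE8 K3 a) : c ≠ 0 := by
  rintro rfl
  obtain ⟨i, j, h1, h2⟩ := h0
  rw [Matrix.sub_apply, h i j h2.symm, X_zero, Units.val_one, sub_self] at h1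
  exact h1 rfl

end Cfsg.Agent.L81
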