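import Mathlib
import Cfsg.Agent.L81.Defs
import Cfsg.Agent.L81.Uni
import Cfsg.Agent.Chev.SsE7
import Cfsg.Agent.Chev.TwSym

/-!
# The indecomposable roots of the monoid of supports
-/

set_option autoImplicit false

namespace Cfsg.Agent.L81

open Cfsg.Lie Cfsg.Lie.ChevalleyDatum Cfsg.Agent.Chev Cfsg.Agent.Chev.S2M Cfsg.Agent.Chev.Chk Matrix
  MatrixGroups Polynomial Module
open Kac (K3 pw js)
open FV (G0)

namespace IndA

section Gen

variable (D : ChevalleyDatum) [hG : D.Good] (F : Type*) [Field F]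

theorem wOf_mem (n : GL D.Idx F) : D.wOf F n ∈ D.stRoot.weyl := by
  rw [D.stRoot_weyl]; exact D.wOf_mem_weyl F n

theorem mono_entry {n : GL D.Idx F} (hn : n ∈ D.monomialSubgroup F) {a b : D.Idx}
    (h : n.val a b ≠ 0) : D.wtI a = D.wl (D.wOf F n) (D.wtI b) := by
  rcases b with i | s
  · rcases a with i' | s'
    · exact (map_zero _).symm
    · exact absurd (D.monomial_entry_inl F ⟨_, hn⟩ s' i) h
  · obtain ⟨c, hc⟩ := D.monomial_entry_wOf F hn s
    rw [hc] at h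
    split_ifs at h with e
    · rw [e]
      exact (D.wl_wt (wOf_mem D F n) s).symm
    · exact absurd rfl h

theorem conj_Ent {n : GL D.Idx F} (hn : n ∈ D.monomialSubgroup F) {T : AddSubmonoid D.Lat}
    {a : GL D.Idx F} (ha : a ∈ EntSupp.Ent D F T) :
    n⁻¹ * a * n ∈ EntSupp.Ent D F (T.comap (D.wl (D.wOf F n))) := fun i j hij => by
  rw [Units.val_mul, Matrix.mul_apply] at hij
  obtain ⟨l, -, hl⟩ := Finset.exists_ne_zero_of_sum_ne_zero hij
  have h1 := left_ne_zero_of_mul hl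
  rw [Units.val_mul, Matrix.mul_apply] at h1
  obtain ⟨k, -, hk⟩ := Finset.exists_ne_zero_of_sum_ne_zero h1
  have h2 := mono_entry D F hn (right_ne_zero_of_mul hl)
  have h3 := mono_entry D F (inv_mem hn) (left_ne_zero_of_mul hk)
  rw [D.wOf_inv F hn] at h3
  rw [AddSubmonoid.mem_comap, map_sub, ← h2, h3,
    ← D.wl_mul (wOf_mem D F n) (inv_mem (wOf_mem D F n)), mul_inv_cancel, D.wl_one]
  exact ha k l (right_ne_zero_of_mul hk)

theorem key_pos {T : AddSubmonoid D.Lat} {g : GL D.Idx F} (hg : g ∈ D.posUnipotent F)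
    (hT : g ∈ EntSupp.Ent D F T) : g ∈ D.XS F {r | D.wt r ∈ T} := by
  have key : ∀ k m : ℕ, D.nroots ≤ m + k → ∀ g ∈ D.XS F {s | D.IsPosRoot s ∧ m ≤ (s : ℕ)},
      g ∈ EntSupp.Ent D F T → g ∈ D.XS F {r | D.wt r ∈ T} := by
    intro k
    induction k with
    | zero =>
      intro m hm g hg _
      refine Subgroup.closure_mono ?_ hg
      rintro _ ⟨s, hs, t, rfl⟩
      have := s.2
      have := hs.2
      omega
    | succ k ih =>
      intro m hm g hg h1
      by_cases h : ∃ r : D.Rt, D.IsPosRoot r ∧ (r : ℕ) = m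
      · obtain ⟨r, hr, rfl⟩ := h
        obtain ⟨t, g', hg', rfl⟩ := EntSupp.exists_factor D F r hr hg
        by_cases ht : t = 0
        · rw [ht, X_zero, one_mul] at h1 ⊢
          exact ih (r + 1) (by omega) g' hg' h1
        · have h2 : D.wt r ∈ T := EntSupp.mem_of_mem_Supp D F h1 (EntSupp.root_mem_Supp D F r hr ht hg')
          have h3 : D.X F r t ∈ D.XS F {r | D.wt r ∈ T} := D.X_mem_XS F h2 t
          refine mul_mem h3 (ih (r + 1) (by omega) g' hg' ?_)
          have := mul_mem (EntSupp.mem_Ent_of_XS D F (fun _ hs => hs) (inv_mem h3)) h1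
          rwa [inv_mul_cancel_left] at this
      · refine ih (m + 1) (by omega) g ?_ h1
        refine Subgroup.closure_mono ?_ hg
        rintro _ ⟨s, hs, t, rfl⟩
        refine ⟨s, ⟨hs.1, ?_⟩, t, rfl⟩
        have := hs.2
        have : (s : ℕ) ≠ m := fun e => h ⟨s, hs.1, e⟩
        omega
  rw [posUnipotent_eq_XS] at hg
  exact key D.nroots 0 (by omega) g (by simpa using hg) hT

theorem conj_back {n : GL D.Idx F} (hn : n ∈ D.monomialSubgroup F) {S T : Set D.Rt}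
    (h : ∀ r ∈ S, D.wOf F n r ∈ T) {a : GL D.Idx F} (ha : n⁻¹ * a * n ∈ D.XS F S) : a ∈ D.XS F T := by
  rw [← rootBN_XS] at ha ⊢
  have := RootBN.conj_XS (R := D.rootBN F) hn h ha
  simpa [mul_assoc] using this

theorem key {n : GL D.Idx F} (hn : n ∈ D.monomialSubgroup F) {T : AddSubmonoid D.Lat} {a : GL D.Idx F}
    (ha : n⁻¹ * a * n ∈ D.posUnipotent F) (hT : a ∈ EntSupp.Ent D F T) :
    a ∈ D.XS F {r | D.wt r ∈ T} := by
  refine conj_back D F hn (fun r hr => ?_) (key_pos D F ha (conj_Ent D F hn hT))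
  rw [Set.mem_ofPred_eq, ← D.wl_wt (wOf_mem D F n)]
  exact hr

theorem exists_lam {n : GL D.Idx F} (hn : n ∈ D.monomialSubgroup F) :
    ∃ lam : D.Lat →+ ℤ, ∀ a : GL D.Idx F, n⁻¹ * a * n ∈ D.posUnipotent F →
      ∀ γ ∈ EntSupp.Supp D F a, 0 < lam γ := by
  refine ⟨D.ht.comp (D.wl (D.wOf F n)⁻¹), fun a ha γ hγ => ?_⟩
  rw [posUnipotent_eq_XS] at ha
  have h1 : a ∈ D.XS F {r | 0 < D.ht.comp (D.wl (D.wOf F n)⁻¹) (D.wt r)} := by
    refine conj_back D F hn (fun r hr => ?_) ha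
    rw [Set.mem_ofPred_eq, AddMonoidHom.comp_apply, D.wl_wt (inv_mem (wOf_mem D F n)),
      Equiv.Perm.inv_def, Equiv.symm_apply_apply]
    exact (D.isPos_iff_ht r).1 hr
  obtain ⟨i, j, hij, rfl⟩ := hγ
  by_contra h
  apply hij
  rw [map_sub] at h
  rw [Matrix.sub_apply, D.XS_entry_of_pos F _ (fun _ hr => hr) h1 (by omega), Matrix.one_apply, sub_self]

end Gen

theorem mem_of_indec {L : Type*} [AddCommMonoid L] {S : Set L} {x : L} (hx : x ∈ AddSubmonoid.closure S)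
    (h0 : x ≠ 0) (h : ∀ y ∈ AddSubmonoid.closure S, ∀ z ∈ AddSubmonoid.closure S, y + z = x → y = 0 ∨ z = 0) :
    x ∈ S := by
  induction hx using AddSubmonoid.closure_induction with
  | mem x hx => exact hx
  | zero => exact absurd rfl h0
  | add y z hy hz ihy ihz =>
    rcases h y hy z hz rfl with rfl | rfl
    · rw [zero_add] at h0 h ⊢
      exact ihz h0 h
    · rw [add_zero] at h0 h ⊢
      exact ihy h0 h

theorem main {M : AddSubmonoid Lat} (hM : ∀ x ∈ M, -x ∈ M → x = 0) {a : GG}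
    (ha : a ∈ chevE8.XS K3 {r | wt r ∈ M}) :
    Uni M a ∧ (∀ r ∈ Ind M, ∃ c, Lead a r c) ∧
      ∀ γ : Lat, γ ≠ 0 → (∀ x ∈ M, ∀ y ∈ M, x + y = γ → x = 0 ∨ y = 0) →
        γ ∈ EntSupp.Supp chevE8 K3 a → ∃ r : Rt, γ = wt r := by
  refine chevE8.XS_monoid_induction K3 (P := fun a => Uni M a ∧ (∀ r ∈ Ind M, ∃ c, Lead a r c) ∧
      ∀ γ : Lat, γ ≠ 0 → (∀ x ∈ M, ∀ y ∈ M, x + y = γ → x = 0 ∨ y = 0) →
        γ ∈ EntSupp.Supp chevE8 K3 a → ∃ r : Rt, γ = wt r) ?_ ?_ ?_ ha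
  · refine ⟨⟨one_mem _, fun _ _ _ => rfl⟩, fun r _ => ⟨0, fun i j _ => by rw [X_zero]⟩, ?_⟩
    rintro _ - - ⟨i, j, hij, rfl⟩
    exact absurd (by rw [Units.val_one, sub_self]; rfl) hij
  · intro s hs t
    refine ⟨Uni.X hs t, fun r _ => ?_, ?_⟩
    · by_cases e : s = r
      · exact ⟨t, fun i j _ => by rw [e]⟩
      · exact ⟨0, Lead.X_ne e t⟩
    · rintro _ - h ⟨i, j, hij, rfl⟩
      refine ⟨s, ?_⟩
      by_contra hne
      apply hij
      rw [Matrix.sub_apply, chevE8.X_entry_eq K3 s t, Matrix.one_apply, sub_self]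
      intro k hk
      have e : (k : ℤ) • wt s + wt s = chevE8.wtI i - chevE8.wtI j := by
        rw [hk, add_sub_cancel_left, add_smul, one_smul]
      have h1 : (k : ℤ) • wt s ∈ M := by
        rw [natCast_zsmul]; exact M.nsmul_mem hs k
      apply hne
      rcases h _ h1 _ hs e with h2 | h2
      · rw [← e, h2, zero_add]
      · rw [← e, h2, smul_zero, zero_add]
  · rintro a b ⟨ua, la, sa⟩ ⟨ub, lb, sb⟩
    refine ⟨Uni.mul hM ua ub, fun r hr => ?_, ?_⟩
    · obtain ⟨c, hc⟩ := la r hr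
      obtain ⟨d, hd⟩ := lb r hr
      exact ⟨c + d, Lead.mul ua ub hr hc hd⟩
    · rintro _ h0 h ⟨i, j, hij, rfl⟩
      have hne : i ≠ j := fun e => h0 (by rw [e, sub_self])
      rw [Matrix.sub_apply, Matrix.one_apply_ne hne, sub_zero,
        Uni.entry_mul ua ub (sub_ne_zero.1 h0) h] at hij
      by_cases e : a.val i j = 0
      · rw [e, zero_add] at hij
        exact sb _ h0 h ⟨i, j, by rwa [Matrix.sub_apply, Matrix.one_apply_ne hne, sub_zero], rfl⟩
      · exact sa _ h0 h ⟨i, j, by rwa [Matrix.sub_apply, Matrix.one_apply_ne hne, sub_zero], rfl⟩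

end IndA

theorem ind_spec {A : Set GG} {n : GG} (hn : n ∈ chevE8.monomialSubgroup K3)
    (hA : ∀ a ∈ A, n⁻¹ * a * n ∈ chevE8.posUnipotent K3) :
    (∃ lam : Lat →+ ℤ, ∀ x ∈ MM A, x ≠ 0 → 0 < lam x) ∧ cl (Ind (MM A)) = MM A ∧ (∀ a ∈ A, Uni (MM A) a) ∧
      ∀ r ∈ Ind (MM A), (∀ a ∈ A, ∃ c, Lead a r c) ∧ ∃ a ∈ A, ∃ c, c ≠ 0 ∧ Lead a r c := by
  obtain ⟨lam, hlam⟩ := IndA.exists_lam chevE8 K3 hn
  have hpos : ∀ x ∈ MM A, x ≠ 0 → 0 < lam x := by
    have : ∀ x ∈ MM A, x = 0 ∨ 0 < lam x := fun x hx => by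
      induction hx using AddSubmonoid.closure_induction with
      | mem x hx =>
        obtain ⟨a, ha, hx⟩ := Set.mem_iUnion₂.1 hx
        exact Or.inr (hlam a (hA a ha) x hx)
      | zero => exact Or.inl rfl
      | add y z _ _ ihy ihz =>
        rcases ihy with rfl | hy
        · rwa [zero_add]
        rcases ihz with rfl | hz
        · rw [add_zero]; exact Or.inr hy
        · right; rw [map_add]; omega
    exact fun x hx h0 => (this x hx).resolve_left h0
  have hM : ∀ x ∈ MM A, -x ∈ MM A → x = 0 := fun x h1 h2 => by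
    by_contra h0
    have h3 := hpos x h1 h0
    have h4 := hpos _ h2 (neg_ne_zero.2 h0)
    rw [map_neg] at h4
    omega
  have hmain := fun a (ha : a ∈ A) => IndA.main hM (IndA.key chevE8 K3 hn (hA a ha)
    (EntSupp.mem_Ent_of_Supp chevE8 K3 (T := MM A) fun γ hγ =>
      AddSubmonoid.subset_closure (Set.mem_iUnion₂.2 ⟨a, ha, hγ⟩)))
  refine ⟨⟨lam, hpos⟩, le_antisymm ?_ ?_, fun a ha => (hmain a ha).1, fun r hr =>
    ⟨fun a ha => (hmain a ha).2.1 r hr, ?_⟩⟩
  · exact AddSubmonoid.closure_le.2 (by rintro _ ⟨r, hr, rfl⟩; exact hr.1)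
  · have : ∀ k : ℕ, ∀ x ∈ MM A, lam x < k → x ∈ cl (Ind (MM A)) := fun k => by
      induction k with
      | zero =>
        intro x hx h
        by_cases h0 : x = 0
        · rw [h0]; exact zero_mem _
        · have := hpos x hx h0
          omega
      | succ k ih =>
        intro x hx h
        by_cases h0 : x = 0
        · rw [h0]; exact zero_mem _
        by_cases hd : ∀ y ∈ MM A, ∀ z ∈ MM A, y + z = x → y = 0 ∨ z = 0
        · obtain ⟨a, ha, hx'⟩ := Set.mem_iUnion₂.1 (IndA.mem_of_indec hx h0 hd)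
          obtain ⟨r, rfl⟩ := (hmain a ha).2.2 x h0 hd hx'
          exact AddSubmonoid.subset_closure ⟨r, ⟨hx, hd⟩, rfl⟩
        · push Not at hd
          obtain ⟨y, hy, z, hz, rfl, hy0, hz0⟩ := hd
          have h1 := hpos y hy hy0
          have h2 := hpos z hz hz0
          rw [map_add] at h
          exact add_mem (ih y hy (by omega)) (ih z hz (by omega))
    exact fun x hx => this ((lam x).toNat + 1) x hx (by omega)
  · have h0 : wt r ≠ 0 := fun e => by
      obtain ⟨i, hi⟩ := exists_wt_ne r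
      exact hi (by rw [e]; simp)
    obtain ⟨a, ha, hx'⟩ := Set.mem_iUnion₂.1 (IndA.mem_of_indec hr.1 h0 hr.2)
    obtain ⟨c, hc⟩ := (hmain a ha).2.1 r hr
    exact ⟨a, ha, c, hc.ne_zero hx', hc⟩

end Cfsg.Agent.L81
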