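import Mathlib
import Cfsg.Agent.L81.Defs
import Cfsg.Agent.L81.Mod

/-!
# Vectors fixed by the normaliser of the split torus
-/

set_option autoImplicit false
set_option linter.unusedSectionVars false

namespace Cfsg.Agent.L81

open Cfsg.Lie Cfsg.Lie.ChevalleyDatum Cfsg.Agent.Chev Cfsg.Agent.Chev.S2M Cfsg.Agent.Chev.Chk Matrix
  MatrixGroups Polynomial Module
open Kac (K3 pw js)
open FV (G0)

variable {F : Type*} [Field F] [Fintype F] {ι : F →+* K3} {M : Type} [AddCommGroup M] [Module K3 M]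
  [FiniteDimensional K3 M] {σ : Representation K3 SL(2, F) M}

namespace FixN

theorem exists_coef (hF : Fintype.card F = 81) {l : ℕ} (hl : l < 81) {ψ : SL(2, F) → K3}
    (h : ψ ∈ LL ι l) : ∃ c : ℕ → K3, (∀ j, j ∉ JJ K3 l → c j = 0) ∧
      ∀ g, ψ g = ∑ j ∈ Finset.range (80 + 1), c j * (ι (g.1 1 1) ^ j * ι (g.1 1 0) ^ (l - j)) := by
  classical
  rw [← span_eq ι (hF ▸ hl) (c := ![1, 0]) (d := ![0, 1]) (by simp),
    Submodule.mem_span_range_iff_exists_fun] at h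
  obtain ⟨c, rfl⟩ := h
  refine ⟨fun i => if h : i ∈ JJ K3 l then c ⟨i, h⟩ else 0, fun j hj => dif_neg hj, fun g => ?_⟩
  rw [← Finset.sum_subset (s₁ := JJ K3 l)
    (fun i hi => Finset.mem_range.2 (lt_of_le_of_lt (mem_JJ.1 hi).1 hl)) fun i _ hi => by simp [hi],
    ← Finset.sum_coe_sort (JJ K3 l), Finset.sum_apply]
  exact Finset.sum_congr rfl fun j _ => by simp [lf_10, lf_01]

theorem mem_Fx {Γ : Type*} [Group Γ] {ρ : Representation K3 Γ M} {x y : Γ} {w : M} :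
    w ∈ Fx ρ x y ↔ ρ x w = w ∧ ρ y w = w := by
  simp [Fx, sub_eq_zero]

theorem key (hF : Fintype.card F = 81) {l : ℕ} (hl : l < 80) {Φ : M →ₗ[K3] (SL(2, F) → K3)}
    (h2 : ∀ g w h, Φ (σ g w) h = Φ w (h * g)) (h3 : LinearMap.range Φ = LL ι l) {a : Fˣ}
    (ha : orderOf a = 80) {w : M} (hw : σ (bb a 0) w = w) : ∃ c : K3, (l / 2 ∉ JJ K3 l → c = 0) ∧
      ∀ g, Φ w g = c * (ι (g.1 1 1) ^ (l / 2) * ι (g.1 1 0) ^ (l - l / 2)) := by
  obtain ⟨c, hz, hc⟩ := exists_coef hF (by omega : l < 81) (h3 ▸ LinearMap.mem_range_self Φ w)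
  have h4 := fun j => coef_eq_zero ι (l := 80) (by omega)
    (fun j => c j * (ι ((a ^ j * a⁻¹ ^ (l - j) : Fˣ) : F) - 1)) (fun s => by
      have e := h2 (bb a 0) w (nn s)
      rw [hw, hc, hc] at e
      rw [← sub_eq_zero.2 e.symm, ← Finset.sum_sub_distrib]
      refine Finset.sum_congr rfl fun j _ => ?_
      simp [coe_nn, coe_bb, mul_pow]
      ring) (j := j)
  refine ⟨c (l / 2), hz _, fun g => ?_⟩
  rw [hc]
  refine Finset.sum_eq_single (l / 2) (fun j hj hne => ?_) fun h => (h (Finset.mem_range.2 (by omega))).elim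
  by_cases h5 : j ∈ JJ K3 l
  · rcases mul_eq_zero.1 (h4 j (Finset.mem_range_succ_iff.1 hj)) with h6 | h6
    · rw [h6, zero_mul]
    · have h7 := (mem_JJ.1 h5).1
      have h9 : a ^ j * a⁻¹ ^ (l - j) = 1 :=
        Units.ext (ι.injective (by rw [sub_eq_zero.1 h6]; simp))
      rw [_root_.inv_pow, mul_inv_eq_one, pow_eq_pow_iff_modEq, ha] at h9
      unfold Nat.ModEq at h9
      omega
  · rw [hz j h5, zero_mul]

theorem model (hF : Fintype.card F = 81) {l : ℕ} (h : Model ι σ l) (he : l % 2 = 0) (h80 : l ≠ 80) {a : Fˣ}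
    (ha : orderOf a = 80) : finrank K3 (Fx σ (bb a 0) (nn 0)) ≤ nf l := by
  obtain ⟨hl, Φ, h1, h2, h3⟩ := h
  have k := fun w hw => key hF (l := l) (by omega) h2 h3 ha (w := w) hw
  have z : ∀ w ∈ Fx σ (bb a 0) (nn 0), Φ w (nn 1) = 0 → w = 0 := fun w hw e => by
    obtain ⟨c, -, hc⟩ := k w (mem_Fx.1 hw).1
    have hc0 : c = 0 := by simpa [hc, coe_nn] using e
    exact h1 (_root_.funext fun g => by rw [hc, hc0, zero_mul, map_zero, Pi.zero_apply])
  rw [nf]
  split_ifs with h4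
  · refine (LinearMap.finrank_le_finrank_of_injective
      (f := (LinearMap.proj (nn 1) ∘ₗ Φ) ∘ₗ (Fx σ (bb a 0) (nn 0)).subtype)
      ((injective_iff_map_eq_zero _).2 fun w e => Subtype.ext (z w w.2 e))).trans (finrank_self K3).le
  · rw [Nat.le_zero, Submodule.finrank_eq_zero, Submodule.eq_bot_iff]
    intro w hw
    refine z w hw ?_
    obtain ⟨c, hc0, hc⟩ := k w (mem_Fx.1 hw).1
    by_cases h5 : l % 4 = 0
    · rw [hc, hc0 fun e => h4 ⟨h5, ?_⟩, zero_mul]
      rwa [← Multiset.mem_coe, ← JJ_eq hl]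
    · have e := h2 (nn 0) w (nn 1)
      rw [(mem_Fx.1 hw).2, hc, hc] at e
      have h6 : Odd (l / 2) := Nat.odd_iff.2 (by omega)
      have h7 : c = -c := by simpa [coe_nn, h6.neg_one_pow] using e
      have h8 : (2 : K3) ≠ 0 := fun e => by
        have := (CharP.cast_eq_zero_iff K3 3 2).1 e
        omega
      have h9 : c = 0 := (mul_eq_zero.1 (show 2 * c = 0 by linear_combination h7)).resolve_left h8
      rw [hc, h9, zero_mul]

theorem fx_add {Γ : Type*} [Group Γ] (ρ : Representation K3 Γ M) (N : Submodule K3 M)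
    (hN : ∀ g, N ≤ N.comap (ρ g)) (x y : Γ) : finrank K3 (Fx ρ x y) ≤
      finrank K3 (Fx (ρ.subrepresentation N hN) x y) + finrank K3 (Fx (ρ.quotient N hN) x y) := by
  let p : Fx ρ x y →ₗ[K3] Fx (ρ.quotient N hN) x y :=
    { toFun := fun w => ⟨N.mkQ w.1, mem_Fx.2 ⟨congrArg N.mkQ (mem_Fx.1 w.2).1, congrArg N.mkQ (mem_Fx.1 w.2).2⟩⟩
      map_add' := fun _ _ => rfl
      map_smul' := fun _ _ => rfl }
  have m : ∀ w : LinearMap.ker p, w.1.1 ∈ N := fun w =>
    (Submodule.Quotient.mk_eq_zero N).1 (congrArg Subtype.val (LinearMap.mem_ker.1 w.2))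
  let q : LinearMap.ker p →ₗ[K3] Fx (ρ.subrepresentation N hN) x y :=
    { toFun := fun w => ⟨⟨w.1.1, m w⟩, mem_Fx.2 ⟨Subtype.ext (mem_Fx.1 w.1.2).1, Subtype.ext (mem_Fx.1 w.1.2).2⟩⟩
      map_add' := fun _ _ => rfl
      map_smul' := fun _ _ => rfl }
  have h1 := LinearMap.finrank_le_finrank_of_injective (f := q) fun f f' e =>
    Subtype.ext (Subtype.ext (congrArg (fun u => (u.1.1 : M)) e))
  have h2 := p.finrank_range_add_finrank_ker
  have h3 := Submodule.finrank_le (LinearMap.range p)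
  omega

end FixN

theorem Ch.finrank_Fx (hF : Fintype.card F = 81) {A : Multiset ℕ} (h : Ch ι σ A)
    (h2 : ∀ l ∈ A, l % 2 = 0 ∧ l ≠ 80) {a : Fˣ} (ha : orderOf a = 80) :
    finrank K3 (Fx σ (bb a 0) (nn 0)) ≤ (A.map nf).sum :=
  ch_ind hF (fun M _ _ _ σ A => (∀ l ∈ A, l % 2 = 0 ∧ l ≠ 80) →
      finrank K3 (Fx σ (bb a 0) (nn 0)) ≤ (A.map nf).sum)
    (fun M _ _ _ _ σ _ => by rw [finrank_zero_of_subsingleton]; exact Nat.zero_le _)
    (fun M _ _ _ σ l hl h2 => by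
      have h3 := h2 l (Multiset.mem_singleton_self l)
      rw [Multiset.map_singleton, Multiset.sum_singleton]
      exact FixN.model hF hl h3.1 h3.2 ha)
    (fun M _ _ _ σ N hN A B _ _ hA hB h2 => by
      have a1 := hA fun l hl => h2 l (Multiset.mem_add.2 (.inl hl))
      have a2 := hB fun l hl => h2 l (Multiset.mem_add.2 (.inr hl))
      have a3 := FixN.fx_add σ N hN (bb a 0) (nn 0)
      rw [Multiset.map_add, Multiset.sum_add]
      omega) h h2

end Cfsg.Agent.L81
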