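import Mathlib
import Cfsg.Agent.L81.Defs

/-!
# The Frobenius twist on weight multisets
-/

set_option autoImplicit false

namespace Cfsg.Agent.L81

open Cfsg.Lie Cfsg.Lie.ChevalleyDatum Cfsg.Agent.Chev Cfsg.Agent.Chev.S2M Cfsg.Agent.Chev.Chk Matrix
  MatrixGroups Polynomial Module
open Kac (K3 pw js)
open FV (G0)

namespace N7T

theorem lucas (r l j : ℕ) :
    l.choose j ≡ (l % 3 ^ r).choose (j % 3 ^ r) * (l / 3 ^ r).choose (j / 3 ^ r) [MOD 3] := by
  have : Fact (Nat.Prime 3) := ⟨Nat.prime_three⟩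
  induction r generalizing l j with
  | zero => simp [Nat.mod_one, Nat.ModEq.refl]
  | succ r ih =>
    refine (Choose.choose_modEq_choose_mod_mul_choose_div_nat (p := 3)).trans ?_
    refine ((Nat.ModEq.refl _).mul (ih (l / 3) (j / 3))).trans ?_
    rw [pow_succ', ← mul_assoc, Nat.div_div_eq_div_mul, Nat.div_div_eq_div_mul]
    refine Nat.ModEq.mul_right _ (Nat.ModEq.symm ?_)
    refine (Choose.choose_modEq_choose_mod_mul_choose_div_nat (p := 3)).trans ?_
    rw [Nat.mod_mul_right_mod, Nat.mod_mul_right_mod, Nat.mod_mul_right_div_self,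
      Nat.mod_mul_right_div_self]

theorem mem_iff {l j : ℕ} : j ∈ JJ K3 l ↔ ¬ 3 ∣ l.choose j := by
  rw [mem_JJ, Ne, CharP.cast_eq_zero_iff K3 3]
  exact and_iff_right_of_imp fun h => not_lt.1 fun e => h (by simp [Nat.choose_eq_zero_of_lt e])

theorem small {c i : ℕ} (hc : c < 3) : ¬ 3 ∣ c.choose i ↔ i ≤ c := by
  refine ⟨fun h => not_lt.1 fun e => h (by simp [Nat.choose_eq_zero_of_lt e]), fun h => ?_⟩
  have h1 : ∀ a < 3, ∀ b ≤ a, ¬ 3 ∣ a.choose b := by decide
  exact h1 c hc i h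

theorem mem_top {r a c j : ℕ} (ha : a < 3 ^ r) (hc : c < 3) :
    j ∈ JJ K3 (a + 3 ^ r * c) ↔ j % 3 ^ r ∈ JJ K3 a ∧ j / 3 ^ r ≤ c := by
  have hp : 0 < 3 ^ r := by positivity
  rw [mem_iff, mem_iff, (lucas r _ j).dvd_iff dvd_rfl, Nat.prime_three.dvd_mul, not_or,
    Nat.add_mul_mod_self_left, Nat.mod_eq_of_lt ha, Nat.add_mul_div_left _ _ hp, Nat.div_eq_of_lt ha,
    zero_add, small hc]

theorem mem_bot {a c j : ℕ} (hc : c < 3) : j ∈ JJ K3 (3 * a + c) ↔ j / 3 ∈ JJ K3 a ∧ j % 3 ≤ c := by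
  rw [mem_iff, mem_iff, (lucas 1 _ j).dvd_iff dvd_rfl, Nat.prime_three.dvd_mul, not_or, pow_one,
    show (3 * a + c) % 3 = c by omega, show (3 * a + c) / 3 = a by omega, small hc, and_comm]

theorem map_eq {r a c : ℕ} (ha : a < 3 ^ r) (hc : c < 3) (e : ℕ → ℕ) (he : ∀ i ≤ c, e i ≤ c ∧ e (e i) = i)
    {f g : ℕ → ℕ} (h : ∀ j ≤ a, ∀ i ≤ c, f (j + 3 ^ r * i) = g (3 * j + e i)) :
    (JJ K3 (a + 3 ^ r * c)).val.map f = (JJ K3 (3 * a + c)).val.map g := by
  have hp : 0 < 3 ^ r := by positivity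
  refine Multiset.map_eq_map_of_bij_of_nodup _ _ (JJ K3 _).nodup (JJ K3 _).nodup
    (fun j _ => 3 * (j % 3 ^ r) + e (j / 3 ^ r)) (fun j hj => ?_) (fun j hj k hk h1 => ?_)
    (fun j hj => ?_) fun j hj => ?_
  · obtain ⟨h1, h2⟩ := (mem_top ha hc).1 hj
    have := (he _ h2).1
    refine (mem_bot hc).2 ⟨?_, by omega⟩
    rwa [show (3 * (j % 3 ^ r) + e (j / 3 ^ r)) / 3 = j % 3 ^ r by omega]
  · obtain ⟨-, h2⟩ := (mem_top ha hc).1 hj
    obtain ⟨-, h3⟩ := (mem_top ha hc).1 hk
    have h4 := he _ h2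
    have h5 := he _ h3
    have h6 : j % 3 ^ r = k % 3 ^ r := by omega
    have h7 : e (j / 3 ^ r) = e (k / 3 ^ r) := by omega
    have h8 : j / 3 ^ r = k / 3 ^ r := by rw [← h4.2, h7, h5.2]
    rw [← Nat.mod_add_div j (3 ^ r), h6, h8, Nat.mod_add_div]
  · obtain ⟨h1, h2⟩ := (mem_bot hc).1 hj
    have h3 : j / 3 < 3 ^ r := lt_of_le_of_lt (mem_JJ.1 h1).1 ha
    have h4 : (j / 3 + 3 ^ r * e (j % 3)) % 3 ^ r = j / 3 := by
      rw [Nat.add_mul_mod_self_left, Nat.mod_eq_of_lt h3]
    have h5 : (j / 3 + 3 ^ r * e (j % 3)) / 3 ^ r = e (j % 3) := by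
      rw [Nat.add_mul_div_left _ _ hp, Nat.div_eq_of_lt h3, zero_add]
    refine ⟨j / 3 + 3 ^ r * e (j % 3), (mem_top ha hc).2 ⟨by rwa [h4], by rw [h5]; exact (he _ h2).1⟩, ?_⟩
    rw [h4, h5, (he _ h2).2]
    omega
  · obtain ⟨h1, h2⟩ := (mem_top ha hc).1 hj
    rw [← h _ (mem_JJ.1 h1).1 _ h2, Nat.mod_add_div]

theorem mods {n M w : ℕ} (hM : M = n * (n + 1)) (h1 : w ≤ M + n) (h2 : M ≤ w + n) :
    (M ≤ w → w % (n + 1) + M = w ∧ (w < M + n → w % n + M = w) ∧ (w = M + n → w % n = 0)) ∧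
      (w < M → w % (n + 1) + M = w + n + 1 ∧ w % n + M = w + n) := by
  refine ⟨fun h => ?_, fun h => ?_⟩
  · obtain ⟨k, rfl⟩ := Nat.exists_eq_add_of_le h
    refine ⟨?_, fun h3 => ?_, fun h3 => ?_⟩
    · rw [hM, Nat.mul_comm n, Nat.mul_add_mod, Nat.mod_eq_of_lt (by omega), add_comm]
    · rw [hM, Nat.mul_add_mod, Nat.mod_eq_of_lt (by omega), add_comm]
    · rw [h3, hM, Nat.mul_add_mod, Nat.mod_self]
  · obtain ⟨k, rfl⟩ : ∃ k, n = k + 1 := ⟨n - 1, by
      rcases n with _ | n
      · omega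
      · rfl⟩
    have e1 : M = (k + 1 + 1) * k + (k + 1 + 1) := by rw [hM]; ring
    have e2 : M = (k + 1) * (k + 1) + (k + 1) := by rw [hM]; ring
    constructor
    · obtain ⟨d, rfl⟩ : ∃ d, w = (k + 1 + 1) * k + d := Nat.exists_eq_add_of_le (by omega)
      rw [Nat.mul_add_mod, Nat.mod_eq_of_lt (by omega)]
      omega
    · obtain ⟨d, rfl⟩ : ∃ d, w = (k + 1) * (k + 1) + d := Nat.exists_eq_add_of_le (by omega)
      rw [Nat.mul_add_mod, Nat.mod_eq_of_lt (by omega)]
      omega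

end N7T

theorem twist {r l : ℕ} (hl : l < 3 ^ (r + 1)) (h2 : l % 2 = 0) {n M : ℕ} (hn : 2 * n + 1 = 3 ^ (r + 1))
    (hM : M = n * (n + 1)) {m : ℕ} (hm : m = n ∨ m = n + 1) :
    Kac.rot (3 ^ r) l < 3 ^ (r + 1) ∧ Kac.rot (3 ^ r) l % 2 = 0 ∧
      (Kac.wt M (Kac.rot (3 ^ r) l)).map (· % m) = (Kac.wt M l).map (3 * · % m) := by
  have hp : 0 < 3 ^ r := by positivity
  obtain ⟨a, c, ha, rfl⟩ : ∃ a c, a < 3 ^ r ∧ l = a + 3 ^ r * c :=
    ⟨l % 3 ^ r, l / 3 ^ r, Nat.mod_lt _ hp, (Nat.mod_add_div _ _).symm⟩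
  have hrot : Kac.rot (3 ^ r) (a + 3 ^ r * c) = 3 * a + c := by
    rw [Kac.rot, Nat.add_mul_mod_self_left, Nat.mod_eq_of_lt ha, Nat.add_mul_div_left _ _ hp,
      Nat.div_eq_of_lt ha, zero_add]
  rw [pow_succ] at hl hn
  have hc : c < 3 := lt_of_mul_lt_mul_left (a := 3 ^ r) (by omega) hp.le
  have hodd : 3 ^ r % 2 = 1 := by omega
  have hMn : n ≤ M := by rw [hM]; nlinarith
  rw [hrot, pow_succ]
  generalize ht : 3 ^ r = t at hl h2 hn hodd
  have hpar : (3 * a + c) % 2 = 0 := by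
    interval_cases c <;> omega
  refine ⟨by omega, hpar, ?_⟩
  subst ht
  rw [Kac.wt, Kac.wt, Multiset.map_map, Multiset.map_map]
  symm
  rcases hm with rfl | rfl
  · refine N7T.map_eq ha hc id (fun i hi => ⟨hi, rfl⟩) fun j hj i hi => ?_
    simp only [Function.comp_apply, id]
    generalize 3 ^ r = t at hl h2 hn hodd ha
    have e : 3 * (M + (a + t * c) / 2 - (j + t * i)) + m * (2 * i) =
        (M + (3 * a + c) / 2 - (3 * j + i)) + m * (2 * (m + 1) + c) := by
      have e1 : m * (2 * (m + 1) + c) = 2 * M + m * c := by rw [hM]; ring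
      rw [e1]
      interval_cases c <;> interval_cases i <;> omega
    rw [← Nat.add_mul_mod_self_left _ m (2 * i), e, Nat.add_mul_mod_self_left]
  · refine N7T.map_eq ha hc (c - ·) (fun i hi => ⟨by omega, by omega⟩) fun j hj i hi => ?_
    simp only [Function.comp_apply]
    generalize 3 ^ r = t at hl h2 hn hodd ha
    have e : 3 * (M + (a + t * c) / 2 - (j + t * i)) + (n + 1) * (2 * i) =
        (M + (3 * a + c) / 2 - (3 * j + (c - i))) + (n + 1) * (2 * n + c) := by
      have e1 : (n + 1) * (2 * n + c) = 2 * M + (n + 1) * c := by rw [hM]; ring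
      rw [e1]
      interval_cases c <;> interval_cases i <;> omega
    rw [← Nat.add_mul_mod_self_left _ (n + 1) (2 * i), e, Nat.add_mul_mod_self_left]

theorem eq_of_mod' {n M : ℕ} (hn : 1 < n) (hM : M = n * (n + 1)) {A B : Multiset ℕ}
    (hA : ∀ w ∈ A, w ≤ M + n ∧ M ≤ w + n) (hB : ∀ w ∈ B, w ≤ M + n ∧ M ≤ w + n) (sA : A.map (2 * M - ·) = A)
    (sB : B.map (2 * M - ·) = B) (h1 : A.map (· % n) = B.map (· % n))
    (h2 : A.map (· % (n + 1)) = B.map (· % (n + 1))) : A = B := by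
  have hMn : n ≤ M := by rw [hM]; nlinarith
  have key : ∀ {A : Multiset ℕ}, (∀ w ∈ A, w ≤ M + n ∧ M ≤ w + n) → A.map (2 * M - ·) = A →
      (∀ k ≤ n, A.count (M - k) = A.count (M + k)) ∧ (A.map (· % (n + 1))).count 0 = A.count M ∧
      (A.map (· % n)).count 0 = A.count (M + n) + (A.count (M + n) + A.count M) ∧
      (∀ k < n, k ≠ 0 → (A.map (· % n)).count k = A.count (M + k) + A.count (M + (n - k))) ∧
      ∀ k < n, (A.map (· % (n + 1))).count (k + 1) = A.count (M + (k + 1)) + A.count (M + (n - k)) :=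
    fun {A} hA sA => by
      have h3 : ∀ k ≤ n, A.count (M - k) = A.count (M + k) := fun k hk => by
        conv_lhs => rw [← sA]
        rw [Kac.count_map_eq {M + k} (by simp; omega) fun w hw e => by have := hA w hw; simp; omega]
        simp
      have h4 := fun w h h' => N7T.mods (w := w) hM h h'
      refine ⟨h3, ?_, ?_, fun k hk hk' => ?_, fun k hk => ?_⟩
      · rw [Kac.count_map_eq {M} ?_ fun w hw e => ?_, Finset.sum_singleton]
        · have := h4 M (by omega) (by omega)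
          simp only [Finset.mem_singleton, forall_eq]
          omega
        · have := h4 w (hA w hw).1 (hA w hw).2
          have := hA w hw
          simp only [Finset.mem_singleton]
          omega
      · rw [Kac.count_map_eq {M + n, M - n, M} ?_ fun w hw e => ?_, Finset.sum_insert (by simp; omega),
          Finset.sum_pair (by omega), h3 n le_rfl]
        · have := h4 M (by omega) (by omega)
          have := h4 (M + n) (by omega) (by omega)
          have := h4 (M - n) (by omega) (by omega)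
          simp only [Finset.mem_insert, Finset.mem_singleton, forall_eq_or_imp, forall_eq]
          omega
        · have := h4 w (hA w hw).1 (hA w hw).2
          have := hA w hw
          simp only [Finset.mem_insert, Finset.mem_singleton]
          omega
      · rw [Kac.count_map_eq {M + k, M - (n - k)} ?_ fun w hw e => ?_, Finset.sum_pair (by omega),
          h3 _ (by omega)]
        · have := h4 (M + k) (by omega) (by omega)
          have := h4 (M - (n - k)) (by omega) (by omega)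
          simp only [Finset.mem_insert, Finset.mem_singleton, forall_eq_or_imp, forall_eq]
          omega
        · have := h4 w (hA w hw).1 (hA w hw).2
          have := hA w hw
          simp only [Finset.mem_insert, Finset.mem_singleton]
          omega
      · rw [Kac.count_map_eq {M + (k + 1), M - (n - k)} ?_ fun w hw e => ?_, Finset.sum_pair (by omega),
          h3 _ (by omega)]
        · have := h4 (M + (k + 1)) (by omega) (by omega)
          have := h4 (M - (n - k)) (by omega) (by omega)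
          simp only [Finset.mem_insert, Finset.mem_singleton, forall_eq_or_imp, forall_eq]
          omega
        · have := h4 w (hA w hw).1 (hA w hw).2
          have := hA w hw
          simp only [Finset.mem_insert, Finset.mem_singleton]
          omega
  obtain ⟨a1, a2, a3, a4, a5⟩ := key hA sA
  obtain ⟨b1, b2, b3, b4, b5⟩ := key hB sB
  rw [h1] at a3 a4
  rw [h2] at a2 a5
  have h3 : ∀ k ≤ n, A.count (M + k) = B.count (M + k) := fun k hk => by
    induction k with
    | zero => exact a2.symm.trans b2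
    | succ k ih =>
      have := ih (by omega)
      have := a5 k (by omega)
      have := b5 k (by omega)
      rcases eq_or_ne k 0 with rfl | h
      · simp only [tsub_zero] at *
        omega
      · have := a4 k (by omega) h
        have := b4 k (by omega) h
        omega
  refine Multiset.ext.2 fun w => ?_
  by_cases hw : w ≤ M + n ∧ M ≤ w + n
  · rcases le_total w M with h | h
    · rw [show w = M - (M - w) by omega, a1 _ (by omega), b1 _ (by omega), h3 _ (by omega)]
    · rw [show w = M + (w - M) by omega, h3 _ (by omega)]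
  · rw [Multiset.count_eq_zero.2 fun h => hw (hA w h), Multiset.count_eq_zero.2 fun h => hw (hB w h)]

theorem rot7 {A : Multiset ℕ} (hA : ∀ l ∈ A, l < 2187 ∧ l % 2 = 0)
    (h : ∀ m ∈ [1093, 1094], (A.bind (Kac.wt 1195742)).map (· % m) = (A.bind (Kac.wt 1195742)).map (3 * · % m)) :
    A.map (Kac.rot 729) = A := by
  have tw : ∀ l ∈ A, ∀ m ∈ [1093, 1094], Kac.rot 729 l < 2187 ∧ Kac.rot 729 l % 2 = 0 ∧
      (Kac.wt 1195742 (Kac.rot 729 l)).map (· % m) = (Kac.wt 1195742 l).map (3 * · % m) := fun l hl m hm =>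
    twist (r := 6) (n := 1093) (hA l hl).1 (hA l hl).2 (by norm_num) (by norm_num) (by simpa using hm)
  have hB : ∀ l ∈ A.map (Kac.rot 729), l < 2187 ∧ l % 2 = 0 := fun l hl => by
    obtain ⟨k, hk, rfl⟩ := Multiset.mem_map.1 hl
    exact ⟨(tw k hk 1093 (by simp)).1, (tw k hk 1093 (by simp)).2.1⟩
  have h2 : ∀ {A : Multiset ℕ}, (∀ l ∈ A, l < 2187 ∧ l % 2 = 0) →
      (∀ w ∈ A.bind (Kac.wt 1195742), w ≤ 1195742 + 1093 ∧ 1195742 ≤ w + 1093) ∧
        (A.bind (Kac.wt 1195742)).map (2 * 1195742 - ·) = A.bind (Kac.wt 1195742) :=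
    fun hA => ⟨fun w hw => by
      obtain ⟨l, h3, h4⟩ := Multiset.mem_bind.1 hw
      have := Kac.mem_wt h4
      have := hA l h3
      omega, by
      rw [Multiset.map_bind]
      exact Multiset.bind_congr fun l hl => Kac.wt_symm (hA l hl).2 (by have := hA l hl; omega)⟩
  have h4 : ∀ m ∈ [1093, 1094], ((A.map (Kac.rot 729)).bind (Kac.wt 1195742)).map (· % m) =
      (A.bind (Kac.wt 1195742)).map (· % m) := fun m hm => by
    rw [h m hm, Multiset.bind_map, Multiset.map_bind, Multiset.map_bind]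
    exact Multiset.bind_congr fun l hl => (tw l hl m hm).2.2
  exact Kac.bind_wt_inj (fun l hl => (hB l hl).2) (fun l hl => (hA l hl).2)
    (eq_of_mod' (n := 1093) (by norm_num) (by norm_num) (h2 hB).1 (h2 hA).1 (h2 hB).2 (h2 hA).2
      (h4 _ (by simp)) (h4 _ (by simp)))

end Cfsg.Agent.L81
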