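import Mathlib
import Cfsg.Agent.L81.Defs
import Cfsg.Agent.L81.N7T

/-! Counting modulo seven. -/

set_option autoImplicit false

namespace Cfsg.Agent.L81

open Cfsg.Lie Cfsg.Lie.ChevalleyDatum Cfsg.Agent.Chev Cfsg.Agent.Chev.S2M Cfsg.Agent.Chev.Chk Matrix
  MatrixGroups Polynomial Module
open Kac (K3 pw js)
open FV (G0)

namespace N7S

/-- The orbit of the twist without its first point. -/
def tl (l : ℕ) : List ℕ := (List.range 6).map fun i => (Kac.rot 729)^[i + 1] l

set_option synthInstance.maxSize 1000 in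
theorem orb : ∀ l < 2186, l % 2 = 0 → l ≠ 0 → (l :: tl l).Nodup ∧ 0 ∉ tl l ∧
    (l :: tl l).map (Kac.rot 729) = tl l ++ [l] := by decide +kernel

theorem card_wt {l : ℕ} (h : l < 3 ^ 7) (M : ℕ) : (Kac.wt M l).card = (js 7 l).length := by
  rw [Kac.wt, Multiset.card_map, Kac.JJ_eq h, Multiset.coe_card]

end N7S

open N7S

theorem sum_mod7 {A : Multiset ℕ} (hA : ∀ l ∈ A, l < 2186 ∧ l % 2 = 0) (h : A.map (Kac.rot 729) = A) {g : ℕ → ℕ}
    (hg : ∀ l ∈ A, g (Kac.rot 729 l) = g l) : (A.map g).sum % 7 = A.count 0 * g 0 % 7 := by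
  induction A using Multiset.strongInductionOn with
  | ih A ih =>
  by_cases h0 : ∀ l ∈ A, l = 0
  · rw [Multiset.eq_replicate_card.2 h0]; simp
  push Not at h0
  obtain ⟨l, hl, l0⟩ := h0
  obtain ⟨h1, h2, h3⟩ := orb l (hA l hl).1 (hA l hl).2 l0
  have h4 : ∀ i, (Kac.rot 729)^[i] l ∈ A ∧ g ((Kac.rot 729)^[i] l) = g l := fun i => by
    induction i with
    | zero => exact ⟨hl, rfl⟩
    | succ i k =>
      rw [Function.iterate_succ_apply']
      exact ⟨h ▸ Multiset.mem_map_of_mem _ k.1, (hg _ k.1).trans k.2⟩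
  have h5 : ∀ a ∈ l :: tl l, a ∈ A ∧ g a = g l := fun a ha => by
    rcases List.mem_cons.1 ha with rfl | ha
    · exact ⟨hl, rfl⟩
    · obtain ⟨i, -, rfl⟩ := List.mem_map.1 ha
      exact h4 _
  obtain ⟨B, rfl⟩ := Multiset.le_iff_exists_add.1
    ((Multiset.le_iff_subset (s := ((l :: tl l : List ℕ) : Multiset ℕ)) (t := A) h1).2 fun a ha => (h5 a ha).1)
  have h6 : ((l :: tl l : List ℕ) : Multiset ℕ).map (Kac.rot 729) = ((l :: tl l : List ℕ) : Multiset ℕ) := by
    rw [Multiset.map_coe, h3, Multiset.coe_eq_coe]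
    exact List.perm_append_comm
  rw [Multiset.map_add, h6, add_right_inj] at h
  have h7 := ih B (lt_add_of_pos_left _ (pos_iff_ne_zero.2 (by simp)))
    (fun a ha => hA a (Multiset.mem_add.2 (Or.inr ha))) h fun a ha => hg a (Multiset.mem_add.2 (Or.inr ha))
  have h8 : (((l :: tl l : List ℕ) : Multiset ℕ).map g).sum = 7 * g l := by
    rw [Multiset.map_congr rfl fun a ha => (h5 a ha).2, Multiset.map_const', Multiset.sum_replicate,
      Multiset.coe_card, List.length_cons, tl, List.length_map, List.length_range, smul_eq_mul]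
  rw [Multiset.map_add, Multiset.sum_add, h8, Multiset.count_add, Multiset.count_eq_zero_of_notMem
    (fun k => (List.mem_cons.1 k).elim (fun e => l0 e.symm) h2), zero_add, ← h7, Nat.mul_add_mod]

theorem even7 {A : Multiset ℕ} (hA : ∀ l ∈ A, l < 2187 ∧ l % 2 = 0) (h : A.map (Kac.rot 729) = A)
    (hc : (A.bind (Kac.wt 1195742)).card = 248) :
    ((A.bind (Kac.wt 1195742)).map (· % 2)).count 0 % 7 = 3 := by
  have hA' : ∀ l ∈ A, l < 2186 ∧ l % 2 = 0 := fun l hl => by
    refine ⟨lt_of_le_of_ne (Nat.le_of_lt_succ (hA l hl).1) ?_, (hA l hl).2⟩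
    rintro rfl
    have := Multiset.card_le_card (Multiset.le_bind (f := Kac.wt 1195742) A hl)
    rw [hc, card_wt (by decide)] at this
    exact absurd this (by decide +kernel)
  have tw : ∀ l ∈ A, (Kac.wt 1195742 (Kac.rot 729 l)).map (· % 1094) = (Kac.wt 1195742 l).map (3 * · % 1094) :=
    fun l hl => (twist (r := 6) (hA l hl).1 (hA l hl).2 (n := 1093) rfl rfl (Or.inr rfl)).2.2
  have h1 := sum_mod7 hA' h (g := fun l => (Kac.wt 1195742 l).card) fun l hl => by
    simpa only [Multiset.card_map] using congrArg Multiset.card (tw l hl)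
  have h2 := sum_mod7 hA' h (g := fun l => ((Kac.wt 1195742 l).map (· % 2)).count 0) fun l hl => by
    have := congrArg (Multiset.map (· % 2)) (tw l hl)
    rw [Multiset.map_map, Multiset.map_map] at this
    refine congrArg (Multiset.count 0) ((Multiset.map_congr rfl fun a _ => ?_).trans
      (this.trans (Multiset.map_congr rfl fun a _ => ?_))) <;> simp only [Function.comp] <;> omega
  have h3 : Kac.wt 1195742 0 = {1195742} := by rw [Kac.wt, Kac.JJ_eq (r := 0) (by decide)]; rfl
  rw [Multiset.card_bind] at hc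
  rw [h3] at h1 h2
  rw [Multiset.map_bind, Multiset.count_bind, h2, Multiset.map_singleton, Multiset.count_singleton_self]
  rw [Multiset.card_singleton] at h1
  exact h1.symm.trans (congrArg (· % 7) hc)

end Cfsg.Agent.L81
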