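import Mathlib
import Cfsg.Agent.L81.Defs
import Cfsg.Agent.L81.Coc
import Cfsg.Agent.L81.Mod
import Cfsg.Agent.Cl.LinearBasic

set_option autoImplicit false
set_option linter.unusedSectionVars false

namespace Cfsg.Agent.L81

open Cfsg.Lie Cfsg.Lie.ChevalleyDatum Cfsg.Agent.Chev Cfsg.Agent.Chev.S2M Cfsg.Agent.Chev.Chk Matrix
  MatrixGroups Polynomial Module
open Kac (K3 pw js)
open FV (G0)

namespace Pre

variable {Γ : Type*} [Group Γ] {M : Type} [AddCommGroup M] [Module K3 M]

/-- The coboundary map. -/
noncomputable def cob (σ : Representation K3 Γ M) : M →ₗ[K3] Z1 σ where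
  toFun v := ⟨fun g => σ g v - v, fun a b => by simp only [map_mul, Module.End.mul_apply, map_sub]; abel⟩
  map_add' v w := Subtype.ext (funext fun g => by simp only [map_add, Submodule.coe_add, Pi.add_apply]; abel)
  map_smul' c v := Subtype.ext (funext fun g => by
    simp only [map_smul, Submodule.coe_smul, Pi.smul_apply, RingHom.id_apply, smul_sub])

theorem ker_cob (σ : Representation K3 Γ M) : LinearMap.ker (cob σ) = σ.invariants := by
  ext v
  rw [LinearMap.mem_ker, Subtype.ext_iff, funext_iff, Representation.mem_invariants]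
  exact forall_congr' fun g => sub_eq_zero

variable [Finite Γ] [FiniteDimensional K3 M]

theorem z1_add (σ : Representation K3 Γ M) (N : Submodule K3 M) (hN : ∀ g, N ≤ N.comap (σ g)) :
    finrank K3 (Z1 σ) ≤ finrank K3 (Z1 (σ.subrepresentation N hN)) + finrank K3 (Z1 (σ.quotient N hN)) := by
  let p : Z1 σ →ₗ[K3] Z1 (σ.quotient N hN) :=
    { toFun := fun f => ⟨fun g => N.mkQ (f.1 g), fun a b => (congrArg N.mkQ (f.2 a b)).trans (map_add _ _ _)⟩
      map_add' := fun _ _ => rfl
      map_smul' := fun _ _ => rfl }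
  have m : ∀ (f : LinearMap.ker p) (g : Γ), f.1.1 g ∈ N := fun f g =>
    (Submodule.Quotient.mk_eq_zero N).1 (congrFun (congrArg Subtype.val (LinearMap.mem_ker.1 f.2)) g)
  let q : LinearMap.ker p →ₗ[K3] Z1 (σ.subrepresentation N hN) :=
    { toFun := fun f => ⟨fun g => ⟨f.1.1 g, m f g⟩, fun a b => Subtype.ext (f.1.2 a b)⟩
      map_add' := fun _ _ => rfl
      map_smul' := fun _ _ => rfl }
  have h1 := LinearMap.finrank_le_finrank_of_injective (f := q) fun f f' e =>
    Subtype.ext (Subtype.ext (funext fun g => congrArg Subtype.val (congrFun (congrArg Subtype.val e) g)))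
  have h2 := p.finrank_range_add_finrank_ker
  have h3 := Submodule.finrank_le (LinearMap.range p)
  omega

theorem dd_one (l : ℕ) : dd {l} = if l ∈ P4 then 1 else 0 := by
  simp only [dd, P4, List.map, List.sum_cons, List.sum_nil, Multiset.count_singleton, List.mem_cons, List.not_mem_nil,
    or_false]
  split_ifs <;> omega

end Pre

open Pre

variable {F : Type*} [Field F] [Fintype F] {ι : F →+* K3} {M : Type} [AddCommGroup M] [Module K3 M]
  [FiniteDimensional K3 M] {σ : Representation K3 SL(2, F) M}

theorem dd_add (A B : Multiset ℕ) : dd (A + B) = dd A + dd B := by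
  simp only [dd, P4, List.map, List.sum_cons, List.sum_nil, Multiset.count_add]
  omega

theorem Model.z1_zero (hF : Fintype.card F = 81) (h : Model ι σ 0) : Z1 σ = ⊥ := by
  obtain ⟨-, Φ, h1, h2, h3⟩ := h
  have k : ∀ w g, Φ w g = Φ w 1 := fun w g => by
    have : Φ w ∈ LL ι 0 := h3 ▸ LinearMap.mem_range_self Φ w
    generalize Φ w = φ at this
    induction this using Submodule.span_induction with
    | mem _ hx => obtain ⟨c, rfl⟩ := hx; simp
    | zero => rfl
    | add _ _ _ _ ha hb => simp [ha, hb]
    | smul _ _ _ ha => simp [ha]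
  have tr : ∀ g w, σ g w = w := fun g w => h1 (funext fun x => by rw [h2, k w, k w x])
  refine (Submodule.eq_bot_iff _).2 fun f hf => funext fun g => ?_
  let ψ : SL(2, F) →* Multiplicative M := MonoidHom.mk' (fun g => Multiplicative.ofAdd (f g)) fun a b => by
    rw [hf a b, tr]; rfl
  have hc : commutator SL(2, F) = ⊤ := Cl.sl_commutator_eq_top (.inr (by
    obtain ⟨a, ha⟩ := IsCyclic.exists_ofOrder_eq_natCard (α := Fˣ)
    refine ⟨a, a.ne_zero, fun e => ?_⟩
    have := orderOf_dvd_of_pow_eq_one (x := a) (Units.ext e)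
    rw [ha, Nat.card_units, Nat.card_eq_fintype_card, hF] at this
    omega))
  exact Abelianization.commutator_subset_ker ψ (hc ▸ Subgroup.mem_top g)

theorem Ch.pressure (hF : Fintype.card F = 81) {A : Multiset ℕ} (h : Ch ι σ A)
    (h2 : ∀ l ∈ A, l % 2 = 0 ∧ l ≠ 80) : A.count 0 ≤ finrank K3 σ.invariants + dd A := by
  have key := ch_ind hF (fun M _ _ _ σ A => (∀ l ∈ A, l % 2 = 0 ∧ l ≠ 80) → finrank K3 (Z1 σ) + A.count 0 ≤ finrank K3 M + dd A)
    (fun M _ _ _ _ σ _ => by rw [finrank_zero_of_subsingleton, Multiset.count_zero]; omega)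
    (fun M _ _ _ σ l hl h2 => by
      rw [dd_one, Multiset.count_singleton]
      by_cases h0 : l = 0
      · subst h0
        rw [hl.z1_zero hF, finrank_bot, (hl.ch hF).finrank_eq]
        decide
      rw [if_neg (Ne.symm h0)]
      have h3 := h2 l (Multiset.mem_singleton_self l)
      exact hl.z1_le hF h0 h3.2 h3.1)
    (fun M _ _ _ σ N hN A B _ _ hA hB h2 => by
      have a1 := hA fun l hl => h2 l (Multiset.mem_add.2 (.inl hl))
      have a2 := hB fun l hl => h2 l (Multiset.mem_add.2 (.inr hl))
      have a3 := z1_add σ N hN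
      have a4 := N.finrank_quotient_add_finrank
      rw [dd_add, Multiset.count_add]
      omega) h h2
  have a1 := (cob σ).finrank_range_add_finrank_ker
  have a2 := Submodule.finrank_le (LinearMap.range (cob σ))
  rw [ker_cob] at a1
  omega

end Cfsg.Agent.L81
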