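import Mathlib
import Cfsg.Agent.L81.Defs
import Cfsg.Agent.L81.Pre

/-!
# A fixed vector from the cohomological pressure
-/

set_option autoImplicit false
set_option linter.unusedSectionVars false

namespace Cfsg.Agent.L81

open Cfsg.Lie Cfsg.Lie.ChevalleyDatum Cfsg.Agent.Chev Cfsg.Agent.Chev.S2M Cfsg.Agent.Chev.Chk Matrix
  MatrixGroups Polynomial Module
open Kac (K3 pw js)
open FV (G0)

variable {F : Type*} [Field F] [Fintype F] {ι : F →+* K3}

namespace Pos

variable {M : Type} [AddCommGroup M] [Module K3 M] [FiniteDimensional K3 M] {σ : Representation K3 SL(2, F) M}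

theorem equiv {M' : Type} [AddCommGroup M'] [Module K3 M'] [FiniteDimensional K3 M']
    {σ' : Representation K3 SL(2, F) M'} (f : M ≃ₗ[K3] M') (hf : ∀ g v, f (σ g v) = σ' g (f v)) {A : Multiset ℕ}
    (h : Ch ι σ A) : Ch ι σ' A :=
  ⟨h.1, fun g η hg => by
    rw [← h.2 g η hg, ← f.charpoly_conj (σ g)]
    congr 1
    ext v
    simp [LinearEquiv.conj_apply, hf]⟩

theorem exists_min (hF : Fintype.card F = 81) {R : Submodule K3 M} {hR : ∀ g, R ≤ R.comap (σ g)} (h : R ≠ ⊤)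
    {A : Multiset ℕ} (hA : Ch ι (σ.subrepresentation R hR) A) :
    ∃ (N : Submodule K3 M) (hN : ∀ g, N ≤ N.comap (σ g)),
      R < N ∧ ∃ l, Ch ι (σ.subrepresentation N hN) (A + {l}) := by
  obtain ⟨N, ⟨hN, hlt⟩, hm⟩ := exists_minimal_of_wellFoundedLT
    (fun N : Submodule K3 M => (∀ g, N ≤ N.comap (σ g)) ∧ R < N) ⟨⊤, fun _ _ _ => trivial, h.lt_top⟩
  have hR' : ∀ g, R.comap N.subtype ≤ (R.comap N.subtype).comap (σ.subrepresentation N hN g) :=
    fun g v hv => hR g hv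
  have h1 : R.comap N.subtype ≠ ⊤ := fun e => hlt.2 (Submodule.comap_subtype_eq_top.1 e)
  have := Submodule.Quotient.nontrivial_iff.2 h1
  obtain ⟨l, hl⟩ := exists_model (σ := (σ.subrepresentation N hN).quotient _ hR') ι hF fun T hT => by
    set T' := (T.comap (R.comap N.subtype).mkQ).map N.subtype
    have h2 : ∀ g, T' ≤ T'.comap (σ g) := by
      rintro g _ ⟨v, hv, rfl⟩
      exact ⟨σ.subrepresentation N hN g v, hT g hv, rfl⟩
    have h3 : R ≤ T' := fun v hv => ⟨⟨v, hlt.le hv⟩, by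
      change Submodule.Quotient.mk _ ∈ T
      rw [(Submodule.Quotient.mk_eq_zero _).2 (by exact hv)]
      exact T.zero_mem, rfl⟩
    rcases h3.eq_or_lt with e | e
    · refine .inl ((Submodule.eq_bot_iff _).2 fun q hq => ?_)
      obtain ⟨v, rfl⟩ := Submodule.Quotient.mk_surjective _ q
      refine (Submodule.Quotient.mk_eq_zero _).2 ?_
      change (v : M) ∈ R
      rw [e]
      exact ⟨v, hq, rfl⟩
    · refine .inr (Submodule.eq_top_iff'.2 fun q => ?_)
      obtain ⟨v, rfl⟩ := Submodule.Quotient.mk_surjective _ q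
      obtain ⟨w, hw, e'⟩ := hm ⟨h2, e⟩ (Submodule.map_subtype_le _ _) v.2
      obtain rfl : w = v := Subtype.ext e'
      exact hw
  exact ⟨N, hN, hlt, l, Ch.add (hN := hR')
    (equiv (Submodule.comapSubtypeEquivOfLe hlt.le).symm (fun g v => rfl) hA) (hl.ch hF)⟩

theorem ch_bot (h : ∀ g, (⊥ : Submodule K3 M) ≤ (⊥ : Submodule K3 M).comap (σ g)) :
    Ch ι (σ.subrepresentation ⊥ h) 0 := by
  refine ⟨by simp, fun g η _ => ?_⟩
  rw [Multiset.map_zero, Multiset.prod_zero, ← (σ.subrepresentation ⊥ h g).charpoly_monic.natDegree_eq_zero,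
    LinearMap.charpoly_natDegree]
  exact finrank_bot K3 M

theorem cofun (hF : Fintype.card F = 81) {A : Multiset ℕ} (h : Ch ι σ A)
    (h2 : ∀ l ∈ A, l % 2 = 0 ∧ l ≠ 80) (h0 : 0 < A.count 0) (h3 : dd A ≤ A.count 0) (hi : σ.invariants = ⊥) :
    ∃ ψ : Module.Dual K3 M, ψ ≠ 0 ∧ ∀ s v, ψ (σ s v) = ψ v := by
  obtain ⟨R, ⟨hR, C, hC, hc⟩, hm⟩ := exists_maximal_of_wellFoundedGT
    (fun N : Submodule K3 M => ∃ hN : ∀ g, N ≤ N.comap (σ g), ∃ C, Ch ι (σ.subrepresentation N hN) C ∧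
      C.count 0 = 0) ⟨⊥, fun _ => bot_le, 0, ch_bot _, rfl⟩
  obtain ⟨B, hB⟩ := exists_ch ι hF (σ.quotient R hR)
  have e : A = C + B := h.uniq hF (hC.add hB)
  subst e
  have hT : R ≠ ⊤ := by
    rintro rfl
    have h4 : Ch ι σ C := equiv Submodule.topEquiv (fun g v => rfl) hC
    rw [h.uniq hF h4, hc] at h0
    exact lt_irrefl _ h0
  obtain ⟨N, hN, hlt, l, hl⟩ := exists_min hF hT hC
  have hl0 : l = 0 := by
    by_contra hne
    exact hlt.2 (hm ⟨hN, _, hl, by rw [Multiset.count_add, hc, Multiset.count_singleton, if_neg (Ne.symm hne)]⟩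
      hlt.le)
  subst hl0
  have h5 := hl.pressure hF fun l hl' => (Multiset.mem_add.1 hl').elim
    (fun a => h2 l (Multiset.mem_add.2 (.inl a))) fun a => by
      rw [Multiset.mem_singleton.1 a]; decide
  have h6 : (σ.subrepresentation N hN).invariants = ⊥ := (Submodule.eq_bot_iff _).2 fun v hv =>
    Subtype.ext ((Submodule.eq_bot_iff _).1 hi v fun g => congrArg Subtype.val (hv g))
  rw [h6, finrank_bot, dd_add, Pre.dd_one, if_neg (by decide), Multiset.count_add, hc,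
    Multiset.count_singleton_self] at h5
  have h7 := hB.dual.pressure hF fun l hl' => h2 l (Multiset.mem_add.2 (.inr hl'))
  rw [dd_add, Multiset.count_add, hc] at h3
  have h8 : (σ.quotient R hR).dual.invariants ≠ ⊥ := fun e => by
    rw [e, finrank_bot] at h7
    omega
  obtain ⟨ψ, hψ, hψ0⟩ := (Submodule.ne_bot_iff _).1 h8
  refine ⟨ψ ∘ₗ R.mkQ, fun e => hψ0 (LinearMap.ext fun q => ?_), fun s v => ?_⟩
  · obtain ⟨v, rfl⟩ := Submodule.Quotient.mk_surjective _ q
    exact LinearMap.congr_fun e v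
  · have := LinearMap.congr_fun (hψ s⁻¹) (R.mkQ v)
    rw [Representation.dual_apply, inv_inv] at this
    exact this

end Pos

theorem fix_pos (hF : Fintype.card F = 81) {φ : SL(2, F) →* G0} {A : Multiset ℕ} (h : Ch ι (rep φ) A)
    (h2 : ∀ l ∈ A, l % 2 = 0 ∧ l ≠ 80) (h0 : 0 < A.count 0) (h3 : dd A ≤ A.count 0) :
    (rep φ).invariants ≠ ⊥ := fun hi => by
  obtain ⟨ψ, h4, h5⟩ := Pos.cofun hF h h2 h0 h3 hi
  exact cofix h4 h5 hi

end Cfsg.Agent.L81
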