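import Mathlib
import Cfsg.Agent.L81.Defs
import Cfsg.Agent.L81.Mod
import Cfsg.Agent.Spor.MB.Scott
import Cfsg.Agent.S0801

/-!
# A fixed vector from Scott's inequality
-/

set_option autoImplicit false

namespace Cfsg.Agent.L81

open Cfsg.Lie Cfsg.Lie.ChevalleyDatum Cfsg.Agent.Chev Cfsg.Agent.Chev.S2M Cfsg.Agent.Chev.Chk Matrix
  MatrixGroups Polynomial Module
open Kac (K3 pw js)
open FV (G0)

variable {F : Type*} [Field F] [Fintype F] {ι : F →+* K3}

namespace Scott

section Lin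

variable {K V : Type*} [Field K] [AddCommGroup V] [Module K V] [FiniteDimensional K V]

theorem rk (g : End K V) (S : Submodule K V) :
    finrank K S ≤ finrank K (LinearMap.ker g) + finrank K (S.map g) := by
  have h1 := LinearMap.finrank_range_add_finrank_ker (g.domRestrict S)
  rw [LinearMap.range_domRestrict, LinearMap.ker_domRestrict, ← Submodule.finrank_map_subtype_eq,
    Submodule.map_comap_subtype] at h1
  have h2 := Submodule.finrank_mono (inf_le_right : S ⊓ LinearMap.ker g ≤ _)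
  omega

theorem cube (g : End K V) (h : g ^ 3 = 0) : finrank K V ≤ 3 * finrank K (LinearMap.ker g) := by
  have h1 := rk g ⊤
  have h2 := rk g ((⊤ : Submodule K V).map g)
  have h3 := rk g (((⊤ : Submodule K V).map g).map g)
  have h4 : (((⊤ : Submodule K V).map g).map g).map g = ⊥ := by
    rw [eq_bot_iff]
    rintro _ ⟨_, ⟨_, ⟨v, -, rfl⟩, rfl⟩, rfl⟩
    simpa [pow_succ] using DFunLike.congr_fun h v
  rw [h4, finrank_bot] at h3
  rw [finrank_top] at h1
  omega

theorem main [CharP K 3] {Γ : Type*} [Group Γ] (σ : Representation K Γ V) (hV : finrank K V = 248) {x y : Γ}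
    (hg : Subgroup.closure {x, y} = ⊤) (hx : finrank K (End.eigenspace (σ x) 1) = 136) (hy : y ^ 3 = 1)
    (hz : finrank K (End.eigenspace (σ (x * y)) 1) = 32) :
    σ.invariants ≠ ⊥ ∨ ∃ ψ : Module.Dual K V, ψ ≠ 0 ∧ ∀ s v, ψ (σ s v) = ψ v := by
  have h1 := Spor.Scott.scott (σ x) (σ y) (σ (x * y)⁻¹) (by rw [← map_mul, ← map_mul, mul_inv_cancel, map_one])
  have a1 := LinearMap.finrank_range_add_finrank_ker (1 - σ x)
  have a2 := LinearMap.finrank_range_add_finrank_ker (1 - σ y)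
  have a3 := LinearMap.finrank_range_add_finrank_ker (1 - σ (x * y)⁻¹)
  have b1 : End.eigenspace (σ x) 1 ≤ LinearMap.ker (1 - σ x) := fun v hv => by
    rw [End.mem_eigenspace_iff, one_smul] at hv
    simp [hv]
  have b3 : End.eigenspace (σ (x * y)) 1 ≤ LinearMap.ker (1 - σ (x * y)⁻¹) := fun v hv => by
    rw [End.mem_eigenspace_iff, one_smul] at hv
    have : σ (x * y)⁻¹ v = v := by
      conv_lhs => rw [← hv]
      rw [← End.mul_apply, ← map_mul, inv_mul_cancel, map_one, End.one_apply]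
    rw [LinearMap.mem_ker, LinearMap.sub_apply, this, End.one_apply, sub_self]
  have b2 := cube (1 - σ y) (by
    have e3 : (3 : End K V) = 0 := by
      rw [← map_ofNat (algebraMap K (End K V)), show (OfNat.ofNat 3 : K) = 0 from CharP.cast_eq_zero K 3, map_zero]
    have e : (1 - σ y) ^ 3 = 1 - σ y ^ 3 + 3 * (σ y ^ 2 - σ y) := by noncomm_ring
    rw [e, e3, ← map_pow, hy, map_one, sub_self, zero_mul, add_zero])
  have c1 := Submodule.finrank_mono b1
  have c3 := Submodule.finrank_mono b3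
  by_cases h0 : LinearMap.ker (1 - σ x) ⊓ LinearMap.ker (1 - σ y) = ⊥
  · right
    rw [h0, finrank_bot] at h1
    have h2 : LinearMap.range (1 - σ x) ⊔ LinearMap.range (1 - σ y) < ⊤ :=
      lt_top_iff_ne_top.2 fun e => by rw [e, finrank_top] at h1; omega
    obtain ⟨ψ, h3, h4⟩ := Submodule.exists_le_ker_of_lt_top _ h2
    refine ⟨ψ, h3, fun s => ?_⟩
    have hs : s ∈ Subgroup.closure {x, y} := hg ▸ Subgroup.mem_top s
    induction hs using Subgroup.closure_induction with
    | mem a ha =>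
      intro v
      have h5 : ψ ((1 - σ a) v) = 0 := by
        rcases ha with rfl | rfl
        · exact h4 (Submodule.mem_sup_left ⟨v, rfl⟩)
        · exact h4 (Submodule.mem_sup_right ⟨v, rfl⟩)
      rw [LinearMap.sub_apply, map_sub, sub_eq_zero] at h5
      exact h5.symm
    | one => simp
    | mul a b _ _ ha hb => intro v; rw [map_mul, End.mul_apply, ha, hb]
    | inv a _ ha => intro v; rw [← ha, ← End.mul_apply, ← map_mul, mul_inv_cancel, map_one, End.one_apply]
  · left
    obtain ⟨v, ⟨h2, h3⟩, h4⟩ := (Submodule.ne_bot_iff _).1 h0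
    refine (Submodule.ne_bot_iff _).2 ⟨v, fun s => ?_, h4⟩
    have hs : s ∈ Subgroup.closure {x, y} := hg ▸ Subgroup.mem_top s
    induction hs using Subgroup.closure_induction with
    | mem a ha =>
      rcases ha with rfl | rfl
      · exact (sub_eq_zero.1 h2).symm
      · exact (sub_eq_zero.1 h3).symm
    | one => simp
    | mul a b _ _ ha hb => rw [map_mul, End.mul_apply, hb, ha]
    | inv a _ ha =>
      conv_lhs => rw [← ha]
      rw [← End.mul_apply, ← map_mul, inv_mul_cancel, map_one, End.one_apply]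

end Lin

theorem clos (hF : Fintype.card F = 81) {l : F} (h : l ^ 9 ≠ l) : Subfield.closure ({l} : Set F) = ⊤ := by
  classical
  set S := Subfield.closure ({l} : Set F)
  have hl : l ∈ S := Subfield.subset_closure rfl
  have h1 := Module.card_eq_pow_finrank (K := S) (V := F)
  have h2 : Fintype.card S ∣ 3 ^ 4 := by
    rw [show 3 ^ 4 = 81 from rfl, ← hF, h1]
    exact dvd_pow_self _ finrank_pos.ne'
  obtain ⟨i, hi, e⟩ := (Nat.dvd_prime_pow Nat.prime_three).1 h2
  have h3 : l ^ 3 ^ i = l := by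
    have := congrArg Subtype.val (FiniteField.pow_card (⟨l, hl⟩ : S))
    rwa [e] at this
  rw [hF, e, ← pow_mul, show 81 = 3 ^ 4 from rfl] at h1
  have h4 := Nat.pow_right_injective (by norm_num) h1
  interval_cases i
  · omega
  · exact absurd (by rw [show 9 = 3 ^ 1 * 3 ^ 1 from rfl, pow_mul, h3, h3]) h
  · exact absurd h3 h
  · omega
  · rw [← SetLike.coe_set_eq, Subfield.coe_top]
    refine Set.eq_of_subset_of_card_le (Set.subset_univ _) ?_
    simp [hF]
    exact e.ge

omit [Fintype F] in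
/-- Conjugation by a diagonal matrix. -/
def cj0 (c : Fˣ) (s : SL(2, F)) : SL(2, F) := ⟨!![s.1 0 0, (c⁻¹ : Fˣ) * s.1 0 1; c * s.1 1 0, s.1 1 1], by
  have := s.det_coe
  rw [det_fin_two] at this
  rw [det_fin_two_of, mul_mul_mul_comm, Units.inv_mul, one_mul, this]⟩

omit [Fintype F] in
theorem coe_cj0 (c : Fˣ) (s : SL(2, F)) :
    (cj0 c s).1 = !![s.1 0 0, (c⁻¹ : Fˣ) * s.1 0 1; c * s.1 1 0, s.1 1 1] := rfl

omit [Fintype F] in
/-- Conjugation by a diagonal matrix. -/
def cj (c : Fˣ) : SL(2, F) →* SL(2, F) := MonoidHom.mk' (cj0 c) fun s t => Subtype.ext (by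
  change (cj0 c (s * t)).1 = (cj0 c s).1 * (cj0 c t).1
  rw [coe_cj0, coe_cj0, coe_cj0]
  ext i j
  fin_cases i <;> fin_cases j <;> simp [mul_apply, Fin.sum_univ_two] <;> field_simp)

omit [Fintype F] in
theorem coe_cj (c : Fˣ) (s : SL(2, F)) :
    (cj c s).1 = !![s.1 0 0, (c⁻¹ : Fˣ) * s.1 0 1; c * s.1 1 0, s.1 1 1] := rfl

omit [Fintype F] in
theorem cj_cj (c : Fˣ) (s : SL(2, F)) : cj c (cj c⁻¹ s) = s := Subtype.ext (by
  rw [coe_cj, coe_cj]
  ext i j
  fin_cases i <;> fin_cases j <;> simp)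

theorem gen (hF : Fintype.card F = 81) {c : F} (h : (-c ^ 2) ^ 9 ≠ -c ^ 2) :
    Subgroup.closure {nn 0, bb 1 c} = ⊤ := by
  have := charThree hF
  have h0 : c ≠ 0 := by rintro rfl; simp at h
  rcases S0801.result (fun e => by simpa using (CharP.cast_eq_zero_iff F 3 2).1 (by simpa using e)) (-c ^ 2)
    (by simpa using h0) (clos hF h) with ⟨h1, -⟩ | ⟨h1, -⟩
  swap
  · omega
  set S := Subgroup.closure {nn 0, bb 1 c}
  have hx : nn 0 ∈ S := Subgroup.subset_closure (Or.inl rfl)
  have hy : bb 1 c ∈ S := Subgroup.subset_closure (Or.inr rfl)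
  have h2 : ⊤ ≤ S.comap (cj (-Units.mk0 c h0)) := by
    rw [← h1, Subgroup.closure_le]
    rintro g (hg | hg)
    · have e : cj (-Units.mk0 c h0) g * nn 0 = nn 0 * bb 1 c := Subtype.ext (by
        change (cj _ g).1 * (nn 0).1 = (nn 0).1 * (bb 1 c).1
        rw [coe_cj, hg, coe_nn, coe_bb]
        simp)
      exact (S.mul_mem_cancel_right hx).1 (e ▸ S.mul_mem hx hy)
    · have e : cj (-Units.mk0 c h0) g = bb 1 c := Subtype.ext (by
        rw [coe_cj, hg, coe_bb]
        simp [pow_two, h0])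
      exact (show cj (-Units.mk0 c h0) g ∈ S from e ▸ hy)
  exact eq_top_iff.2 fun s _ => cj_cj (-Units.mk0 c h0) s ▸ h2 (Subgroup.mem_top _)

omit [Fintype F] in
theorem ne9 {η : K3} (hη : IsPrimitiveRoot η 82) {c : F} (hc : ι c = η + η⁻¹) : (-c ^ 2) ^ 9 ≠ -c ^ 2 := by
  intro e
  have h0 : η ≠ 0 := hη.ne_zero (by norm_num)
  have h1 := congrArg ι e
  have h2 : (η + η⁻¹) ^ 9 = η ^ 9 + η⁻¹ ^ 9 := add_pow_char_pow (p := 3) (n := 2) η η⁻¹
  rw [map_pow, map_neg, map_pow, hc, Odd.neg_pow (by decide), neg_inj, ← pow_mul, mul_comm, pow_mul, h2] at h1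
  have h3 : (η ^ 16 - 1) * (η ^ 20 - 1) = η ^ 18 * ((η ^ 9 + η⁻¹ ^ 9) ^ 2 - (η + η⁻¹) ^ 2) := by
    field_simp; ring
  rw [h1, sub_self, mul_zero, mul_eq_zero, sub_eq_zero, sub_eq_zero, hη.pow_eq_one_iff_dvd,
    hη.pow_eq_one_iff_dvd] at h3
  omega

theorem t4 : ((WW L1).map (· % 4)).count (0 % 4) = 136 := by decide +kernel

theorem t82 : ((WW L1).map (· % 82)).count (0 % 82) = 32 := by decide +kernel

theorem dimV : finrank K3 VV = 248 := by
  rw [← card_ev 1, ev, ← (IsAlgClosed.splits _).natDegree_eq_card_roots, charpoly_natDegree_eq_dim,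
    finrank_fintype_fun_eq_card]

end Scott

theorem fix_scott (hF : Fintype.card F = 81) {φ : SL(2, F) →* G0} (h : Ch ι (rep φ) L1) :
    (rep φ).invariants ≠ ⊥ := by
  have := charThree hF
  obtain ⟨i, hi⟩ := exists_root (n := 4) (by norm_num)
  obtain ⟨η, hη⟩ := exists_root (n := 82) (by norm_num)
  obtain ⟨a, ha, e⟩ := exists_elt ι hF (by norm_num) (by norm_num) hi
  obtain ⟨c, hc, e'⟩ := exists_elt ι hF (by norm_num) (by norm_num) hη
  obtain rfl : a = 0 := by
    have h0 : i ≠ 0 := hi.ne_zero (by norm_num)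
    have h2 : i ^ 2 = -1 := (hi.pow (by norm_num) (show 4 = 2 * 2 from rfl)).eq_neg_one_of_two_right
    refine ι.injective (mul_left_cancel₀ h0 ?_)
    rw [e, map_zero, mul_add, mul_inv_cancel₀ h0, ← pow_two, h2]; simp
  have h1 := h.finrank_eig (by norm_num) hi ha 0
  have h2 := h.finrank_eig (by norm_num) hη hc 0
  have e3 : nn c = nn 0 * bb 1 c := Subtype.ext (by simp [coe_nn, coe_bb])
  rw [Scott.t4, pow_zero] at h1
  rw [Scott.t82, pow_zero, e3] at h2
  have h3 : bb 1 c ^ 3 = 1 := by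
    have h4 : c + (c + c) = 0 := by
      have : (3 : F) = 0 := CharP.cast_eq_zero F 3
      linear_combination c * this
    simp only [pow_succ, pow_zero, one_mul, bb_mul]
    simp [h4, bb_one]
  rcases Scott.main (rep φ) Scott.dimV (Scott.gen hF (Scott.ne9 hη e')) h1 h3 h2
    with h4 | ⟨ψ, h4, h5⟩
  · exact h4
  · exact cofix h4 h5

end Cfsg.Agent.L81
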